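import Groth.Agent.L11.IsoNat.Theta

/-!
Coordinates of maps into the union of the axes; collapsing to one axis.
-/

set_option autoImplicit false
set_option backward.isDefEq.respectTransparency false
set_option backward.isDefEq.respectTransparency.types false

universe u

open CategoryTheory CategoryTheory.Limits AlgebraicGeometry

noncomputable section

namespace Groth.L11.IsoNat.Theta

variable {n m : ℕ} {S : Scheme.{u}} {T Q : Over S}

/-- The coordinate functions of a map into the axes. -/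
def co (l : Q ⟶ Xo T n) : R.{u} n ⟶ Γ(Q.left, ⊤) :=
  (Scheme.ΓSpecIso (R.{u} n)).inv ≫ (l.left ≫ pr2 T).appTop

theorem co_ext {l l' : Q ⟶ Xo T n} (h1 : l ≫ projX T = l' ≫ projX T) (h2 : ∀ j, co l (coord j) = co l' (coord j)) :
    l = l' := by
  apply Over.OverMorphism.ext
  apply X_ext
  · exact congrArg CommaMorphism.left h1
  · refine ext_of_isAffine ?_
    rw [← cancel_epi (Scheme.ΓSpecIso (R.{u} n)).inv]
    exact hom_ext h2

theorem co_comp_apply (k : Q ⟶ Xo T m) (φ : R.{u} n ⟶ R.{u} m) (l : Xo T m ⟶ Xo T n)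
    (hl : l.left ≫ pr2 T = pr2 T ≫ Spec.map φ) (x : R.{u} n) : co (k ≫ l) x = co k (φ x) := by
  have e : co (k ≫ l) = φ ≫ co k := by
    have h : (k ≫ l).left ≫ pr2 T = (k.left ≫ pr2 T) ≫ Spec.map φ := by
      show (k.left ≫ l.left) ≫ pr2 T = _
      rw [Category.assoc, hl, Category.assoc]
    rw [co, h, Scheme.Hom.comp_appTop, ← Category.assoc, ← Scheme.ΓSpecIso_inv_naturality, Category.assoc]
    rfl
  rw [e]
  rfl

theorem reX_pr2 (σ : Fin m ↪ Fin n) :
    (reX T σ).left ≫ pr2 T = pr2 T ≫ Spec.map (evalHom (A := (R.{u} m)) (reVal σ) (fun _ _ h => reVal_mul σ h)) :=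
  liftX_pr2 T _ _

theorem co_reX (k : Q ⟶ Xo T m) (σ : Fin m ↪ Fin n) (j : Fin n) :
    co (k ≫ reX T σ) (coord j) = co k (reVal σ j) := by
  rw [co_comp_apply k _ _ (reX_pr2 σ), evalHom_coord]

/-- The projection to one axis. -/
def collapse (T : Over S) (i : Fin n) : Xo T n ⟶ Xo T 1 :=
  Over.homMk (liftX T (pr1 T) (pr2 T ≫ Spec.map (evalHom (A := (R.{u} n)) (fun _ : Fin 1 => coord i)
    (fun a b h => absurd (Subsingleton.elim a b) h)))) (by
      show liftX T _ _ ≫ pr1 T ≫ T.hom = pr1 T ≫ T.hom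
      rw [← Category.assoc, liftX_pr1])

@[reassoc (attr := simp)] theorem collapse_projX (i : Fin n) : collapse T i ≫ projX T = projX T :=
  Over.OverMorphism.ext (liftX_pr1 T _ _)

theorem co_collapse (k : Q ⟶ Xo T n) (i : Fin n) (j : Fin 1) :
    co (k ≫ collapse T i) (coord j) = co k (coord i) := by
  rw [co_comp_apply k _ _ (liftX_pr2 T _ _), evalHom_coord]

theorem co_origin (s : Q ⟶ T) (j : Fin n) : co (s ≫ originX T n) (coord j) = 0 := by
  have h : (s ≫ originX T n).left ≫ pr2 T = (s.left ≫ specULiftZIsTerminal.from T.left) ≫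
      Spec.map (evalHom (A := ULift.{u} ℤ) (fun _ : Fin n => 0) (fun _ _ _ => mul_zero _)) := by
    show (s.left ≫ liftX T _ _) ≫ pr2 T = _
    rw [Category.assoc, liftX_pr2, Category.assoc]
  rw [co, h, Scheme.Hom.comp_appTop, ← Category.assoc, ← Scheme.ΓSpecIso_inv_naturality]
  simp only [CommRingCat.comp_apply]
  erw [evalHom_coord]
  simp

theorem coord_fin_one_vOpen {l : Q ⟶ Xo T n} {i : Fin n} (h : ∀ x, l.left x ∈ vOpen T i) :
    IsUnit (co l (coord i)) := by
  refine AlgebraicGeometry.RingedSpace.isUnit_of_isUnit_germ Q.left.toRingedSpace ⊤ _ fun x _ => ?_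
  refine (Q.left.mem_basicOpen (U := ⊤) (co l (coord i)) x trivial).1 ?_
  have e : (l.left ≫ pr2 T) ⁻¹ᵁ br i = Q.left.basicOpen (co l (coord i)) := by
    rw [br, ← basicOpen_eq_of_affine, Scheme.preimage_basicOpen_top]
    rfl
  rw [← e]
  exact h x

theorem co_eq_zero {l : Q ⟶ Xo T n} {i j : Fin n} (hij : j ≠ i) (h : ∀ x, l.left x ∈ vOpen T i) :
    co l (coord j) = 0 := by
  have := congrArg (co l).hom (coord_mul.{u} hij)
  rw [map_mul, map_zero] at this
  exact (coord_fin_one_vOpen h).mul_left_eq_zero.1 this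

theorem collapse_of_ne {l : Q ⟶ Xo T n} {i j : Fin n} (hij : j ≠ i) (h : ∀ x, l.left x ∈ vOpen T i) :
    l ≫ collapse T j = (l ≫ projX T) ≫ originX T 1 := by
  refine co_ext (by simp) fun a => ?_
  rw [co_collapse, co_eq_zero hij h, co_origin]

/-- The inclusion of the `i`-th axis. -/
def single (i : Fin n) : Fin 1 ↪ Fin n := ⟨fun _ => i, fun a b _ => Subsingleton.elim a b⟩

theorem collapse_reX {l : Q ⟶ Xo T n} {i : Fin n} (h : ∀ x, l.left x ∈ vOpen T i) :
    (l ≫ collapse T i) ≫ reX T (single i) = l := by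
  refine co_ext (by simp) fun a => ?_
  rw [co_reX]
  by_cases ha : a = i
  · subst ha
    rw [show reVal.{u} (single a) a = coord 0 from reVal_apply (single a) 0, co_collapse]
  · rw [co_eq_zero ha h, show reVal.{u} (single i) a = 0 from Finset.sum_eq_zero fun b _ => if_neg (fun e => ha e.symm),
      map_zero]

theorem collapse_mem {l : Q ⟶ Xo T n} {i : Fin n} (h : ∀ x, l.left x ∈ vOpen T i) (x : ↥Q.left) :
    (l ≫ collapse T i).left x ∈ vOpen T (0 : Fin 1) := by
  show l.left x ∈ liftX T _ _ ⁻¹ᵁ vOpen T (0 : Fin 1)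
  rw [preimage_liftX, evalHom_coord]
  exact h x

end Groth.L11.IsoNat.Theta
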