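import Groth.Agent.L11.IsoNat.Pts
import Groth.Agent.L24.St.InertiaSep

/-!
Restriction of points, and automorphisms as points of the inertia.
-/

set_option autoImplicit false
set_option backward.isDefEq.respectTransparency false
set_option backward.isDefEq.respectTransparency.types false

universe u

open CategoryTheory CategoryTheory.Limits AlgebraicGeometry Opposite Groth.L24.St

noncomputable section

namespace Groth.L11.IsoNat

variable {S : Scheme.{u}} {𝒳 : AlgSt.Cat S} {V U : Over S} {v : FibCat.overCat V ⥤ᵇ 𝒳}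
  {f : FibCat.overCat U ⥤ᵇ 𝒳}

/-- The morphism of slices of a factorisation. -/
abbrev ovm {T' T W : Over S} {b' : T' ⟶ W} {b : T ⟶ W} (r : T' ⟶ T) (h : r ≫ b = b') : Over.mk b' ⟶ Over.mk b :=
  Over.homMk r h

theorem map_ovm_lift (v : FibCat.overCat V ⥤ᵇ 𝒳) {T' T : Over S} {b' : T' ⟶ V} {b : T ⟶ V} (r : T' ⟶ T)
    (h : r ≫ b = b') : 𝒳.p.IsHomLift r (v.map (ovm r h)) :=
  (BasedFunctor.isHomLift_iff v r (ovm r h)).2 (IsHomLift.map (FibCat.overCat V).p (ovm r h))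

/-- Vertical maps agreeing after a lift agree. -/
theorem ovm_cancel (h𝒳 : FibCat.IsFibGrpd 𝒳.p) {T' T : Over S} {a' : T' ⟶ U} {a : T ⟶ U} (r : T' ⟶ T)
    (h : r ≫ a = a') {z : 𝒳.obj} {φ ψ : z ⟶ f.obj (Over.mk a')} (hφ : OverId φ) (hψ : OverId ψ)
    (e : φ ≫ f.map (ovm r h) = ψ ≫ f.map (ovm r h)) : φ = ψ := by
  have := map_ovm_lift f r h
  have := L09.Fib.stronglyCartesian_of_isFibGrpd _ h𝒳 r (f.map (ovm r h))
  obtain ⟨e1, -⟩ := hφ.eq
  have hz : 𝒳.p.obj z = T' := e1.trans (f.w_obj _)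
  have : 𝒳.p.IsHomLift (𝟙 T') φ := hφ.lift hz
  have : 𝒳.p.IsHomLift (𝟙 T') ψ := hψ.lift hz
  exact Functor.IsStronglyCartesian.ext 𝒳.p r (f.map (ovm r h)) (𝟙 T') e

theorem exists_restr (h𝒳 : FibCat.IsFibGrpd 𝒳.p) {T' T : Over S} (r : T' ⟶ T) (p : Pt v f T) :
    ∃ p' : Pt v f T', Restr r p' p := by
  have := map_ovm_lift f (b' := r ≫ p.a) r rfl
  have := L09.Fib.stronglyCartesian_of_isFibGrpd _ h𝒳 r (f.map (ovm (b' := r ≫ p.a) (b := p.a) r rfl))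
  have h1 : 𝒳.p.IsHomLift r (v.map (ovm (b' := r ≫ p.b) r rfl) ≫ p.θ.hom) := by
    have := map_ovm_lift v (b' := r ≫ p.b) (b := p.b) r rfl
    have : 𝒳.p.IsHomLift (𝟙 T) p.θ.hom := p.hθ.lift (v.w_obj _)
    exact IsHomLift.comp_lift_id_right' 𝒳.p r _ T p.θ.hom
  let c := Functor.IsCartesian.map 𝒳.p r (f.map (ovm (b' := r ≫ p.a) (b := p.a) r rfl))
    (v.map (ovm (b' := r ≫ p.b) r rfl) ≫ p.θ.hom)
  have hc : 𝒳.p.IsHomLift (𝟙 T') c := Functor.IsCartesian.map_isHomLift _ _ _ _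
  have := L09.Fib.isIso_of_isFibGrpd _ h𝒳 (𝟙 T') c
  exact ⟨⟨r ≫ p.b, r ≫ p.a, asIso c, overId_of_lift hc⟩, rfl, rfl,
    (Functor.IsCartesian.fac 𝒳.p r (f.map (ovm (b' := r ≫ p.a) (b := p.a) r rfl))
      (v.map (ovm (b' := r ≫ p.b) (b := p.b) r rfl) ≫ p.θ.hom)).symm⟩

theorem Restr.unique (h𝒳 : FibCat.IsFibGrpd 𝒳.p) {T' T : Over S} {r : T' ⟶ T} {p' q' : Pt v f T'} {p : Pt v f T}
    (hp : Restr r p' p) (hq : Restr r q' p) : p' = q' := by
  obtain ⟨hb, ha, hw⟩ := hp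
  obtain ⟨hb', ha', hw'⟩ := hq
  obtain ⟨b, a, θ, hθ⟩ := p'
  obtain ⟨b', a', θ', hθ'⟩ := q'
  dsimp at hb ha hw hb' ha' hw'
  subst hb; subst ha; subst hb'; subst ha'
  have : θ = θ' := Iso.ext (ovm_cancel h𝒳 r rfl hθ hθ' (hw.symm.trans hw'))
  subst this; rfl

theorem Restr.trans {T'' T' T : Over S} {s : T'' ⟶ T'} {r : T' ⟶ T} {p'' : Pt v f T''} {p' : Pt v f T'}
    {p : Pt v f T} (h' : Restr s p'' p') (h : Restr r p' p) : Restr (s ≫ r) p'' p := by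
  obtain ⟨hb', ha', hw'⟩ := h'
  obtain ⟨hb, ha, hw⟩ := h
  refine ⟨by rw [Category.assoc, hb, hb'], by rw [Category.assoc, ha, ha'], ?_⟩
  have e1 : ∀ {W : Over S} {x'' : T'' ⟶ W} {x' : T' ⟶ W} {x : T ⟶ W} (k1 : s ≫ x' = x'') (k2 : r ≫ x = x')
      (k3 : (s ≫ r) ≫ x = x''), ovm (s ≫ r) k3 = ovm s k1 ≫ ovm r k2 := fun k1 k2 k3 =>
    Over.OverMorphism.ext rfl
  rw [show (Over.homMk (s ≫ r) _ : Over.mk p''.b ⟶ Over.mk p.b) = _ from e1 hb' hb _,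
    show (Over.homMk (s ≫ r) _ : Over.mk p''.a ⟶ Over.mk p.a) = _ from e1 ha' ha _]
  calc _ = v.map (ovm s hb') ≫ v.map (ovm r hb) ≫ p.θ.hom :=
        (congrArg (· ≫ p.θ.hom) (v.toFunctor.map_comp _ _)).trans (Category.assoc _ _ _)
    _ = v.map (ovm s hb') ≫ p'.θ.hom ≫ f.map (ovm r ha) := congrArg (v.map (ovm s hb') ≫ ·) hw
    _ = (p''.θ.hom ≫ f.map (ovm s ha')) ≫ f.map (ovm r ha) :=
        (Category.assoc _ _ _).symm.trans (congrArg (· ≫ f.map (ovm r ha)) hw')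
    _ = _ := (Category.assoc _ _ _).trans (congrArg (p''.θ.hom ≫ ·) (f.toFunctor.map_comp _ _).symm)

/-- An automorphism over the identity at an arrow into a chart. -/
structure AutPt (f : FibCat.overCat U ⥤ᵇ 𝒳) {T : Over S} (a : T ⟶ U) where
  g : f.obj (Over.mk a) ≅ f.obj (Over.mk a)
  hg : OverId g.hom

/-- One automorphism is the restriction of another. -/
def ARestr {T' T : Over S} {a' : T' ⟶ U} {a : T ⟶ U} (r : T' ⟶ T) (g' : AutPt f a') (g : AutPt f a) : Prop :=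
  ∃ h : r ≫ a = a', g'.g.hom ≫ f.map (ovm r h) = f.map (ovm r h) ≫ g.g.hom

theorem exists_aRestr (h𝒳 : FibCat.IsFibGrpd 𝒳.p) {T' T : Over S} {a' : T' ⟶ U} {a : T ⟶ U} (r : T' ⟶ T)
    (h : r ≫ a = a') (g : AutPt f a) : ∃ g' : AutPt f a', ARestr r g' g := by
  have := map_ovm_lift f r h
  have := L09.Fib.stronglyCartesian_of_isFibGrpd _ h𝒳 r (f.map (ovm r h))
  have h1 : 𝒳.p.IsHomLift r (f.map (ovm r h) ≫ g.g.hom) := by
    have : 𝒳.p.IsHomLift (𝟙 T) g.g.hom := g.hg.lift (f.w_obj _)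
    exact IsHomLift.comp_lift_id_right' 𝒳.p r _ T g.g.hom
  let c := Functor.IsCartesian.map 𝒳.p r (f.map (ovm r h)) (f.map (ovm r h) ≫ g.g.hom)
  have hc : 𝒳.p.IsHomLift (𝟙 T') c := Functor.IsCartesian.map_isHomLift _ _ _ _
  have := L09.Fib.isIso_of_isFibGrpd _ h𝒳 (𝟙 T') c
  exact ⟨⟨asIso c, overId_of_lift hc⟩, h, Functor.IsCartesian.fac 𝒳.p r (f.map (ovm r h)) (f.map (ovm r h) ≫ g.g.hom)⟩

/-- A point twisted by an automorphism. -/
def Pt.tw {T : Over S} (p : Pt v f T) (g : AutPt f p.a) : Pt v f T :=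
  ⟨p.b, p.a, p.θ ≪≫ g.g, p.hθ.comp g.hg⟩

theorem Restr.tw {T' T : Over S} {r : T' ⟶ T} {p' : Pt v f T'} {p : Pt v f T} (hp : Restr r p' p)
    {g' : AutPt f p'.a} {g : AutPt f p.a} (hg : ARestr r g' g) : Restr r (p'.tw g') (p.tw g) := by
  obtain ⟨hb, ha, hw⟩ := hp
  obtain ⟨ha', hw'⟩ := hg
  refine ⟨hb, ha, ?_⟩
  show v.map (ovm r hb) ≫ p.θ.hom ≫ g.g.hom = (p'.θ.hom ≫ g'.g.hom) ≫ f.map (ovm r ha)
  exact (Category.assoc _ _ _).symm.trans ((congrArg (· ≫ g.g.hom) hw).trans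
    ((Category.assoc _ _ _).trans ((congrArg (p'.θ.hom ≫ ·) hw'.symm).trans (Category.assoc _ _ _).symm)))

/-- The difference of two points with the same components. -/
theorem exists_tw {T : Over S} (p q : Pt v f T) (hb : p.b = q.b) (ha : p.a = q.a) :
    ∃ g : AutPt f p.a, p.tw g = q := by
  obtain ⟨b, a, θ, hθ⟩ := p
  obtain ⟨b', a', θ', hθ'⟩ := q
  dsimp at hb ha
  subst hb; subst ha
  refine ⟨⟨θ.symm ≪≫ θ', hθ.inv.comp hθ'⟩, ?_⟩
  show Pt.mk b a (θ ≪≫ θ.symm ≪≫ θ') _ = Pt.mk b a θ' _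
  simp

/-! ### Points of the inertia -/

variable (y : FibCat.overCat U ⥤ᵇ 𝒳) {G : AlgSp.Sp S}
  (e : AlgSt.ofSp G ⥤ᵇ FibCat.fp y (FibCat.inertiaToBase (FibCat.toSelf 𝒳)))

/-- The automorphism of an object of the inertia of a chart. -/
def autAt (X : (FibCat.fp y (FibCat.inertiaToBase (FibCat.toSelf 𝒳))).obj) : y.obj X.obj.fst ≅ y.obj X.obj.fst :=
  X.obj.iso ≪≫ X.obj.snd.aut ≪≫ X.obj.iso.symm

theorem autAt_nat {X X' : (FibCat.fp y (FibCat.inertiaToBase (FibCat.toSelf 𝒳))).obj} (m : X' ⟶ X) :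
    (autAt y X').hom ≫ y.map m.hom.fst = y.map m.hom.fst ≫ (autAt y X).hom := by
  have hw : y.map m.hom.fst ≫ X.obj.iso.hom = X'.obj.iso.hom ≫ m.hom.snd.hom := m.hom.w
  have hc := m.hom.snd.comm
  have hinv : X'.obj.iso.inv ≫ y.map m.hom.fst = m.hom.snd.hom ≫ X.obj.iso.inv :=
    (Iso.inv_comp_eq _).2 ((Iso.eq_comp_inv _).2 hw |>.trans (Category.assoc _ _ _))
  show (X'.obj.iso.hom ≫ X'.obj.snd.aut.hom ≫ X'.obj.iso.inv) ≫ y.map m.hom.fst =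
    y.map m.hom.fst ≫ X.obj.iso.hom ≫ X.obj.snd.aut.hom ≫ X.obj.iso.inv
  calc _ = X'.obj.iso.hom ≫ X'.obj.snd.aut.hom ≫ (X'.obj.iso.inv ≫ y.map m.hom.fst) :=
        (Category.assoc _ _ _).trans (congrArg (X'.obj.iso.hom ≫ ·) (Category.assoc _ _ _))
    _ = X'.obj.iso.hom ≫ X'.obj.snd.aut.hom ≫ m.hom.snd.hom ≫ X.obj.iso.inv :=
        congrArg (fun t => X'.obj.iso.hom ≫ X'.obj.snd.aut.hom ≫ t) hinv
    _ = X'.obj.iso.hom ≫ (m.hom.snd.hom ≫ X.obj.snd.aut.hom) ≫ X.obj.iso.inv :=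
        congrArg (X'.obj.iso.hom ≫ ·) ((Category.assoc _ _ _).symm.trans (congrArg (· ≫ X.obj.iso.inv) hc))
    _ = (X'.obj.iso.hom ≫ m.hom.snd.hom) ≫ X.obj.snd.aut.hom ≫ X.obj.iso.inv :=
        ((congrArg (X'.obj.iso.hom ≫ ·) (Category.assoc _ _ _)).trans (Category.assoc _ _ _).symm)
    _ = (y.map m.hom.fst ≫ X.obj.iso.hom) ≫ X.obj.snd.aut.hom ≫ X.obj.iso.inv :=
        congrArg (· ≫ X.obj.snd.aut.hom ≫ X.obj.iso.inv) hw.symm
    _ = _ := Category.assoc _ _ _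

/-- `g` is the automorphism of the section `l`. -/
def AutOf {T : Over S} (l : (AlgSp.yon S).obj T ⟶ G) {b : T ⟶ U} (g : AutPt y b) : Prop :=
  ∃ j : Over.mk b ≅ (e.obj ⟨T, (AlgSp.J S).uliftYonedaEquiv l⟩).obj.fst, j.hom.left = eqToHom
      (show T = _ from (e.w_obj ⟨T, (AlgSp.J S).uliftYonedaEquiv l⟩).symm) ∧
    g.g.hom ≫ y.map j.hom = y.map j.hom ≫ (autAt y (e.obj ⟨T, (AlgSp.J S).uliftYonedaEquiv l⟩)).hom

theorem exists_autOf {T : Over S} (l : (AlgSp.yon S).obj T ⟶ G) : ∃ (b : T ⟶ U) (g : AutPt y b), AutOf y e l g := by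
  let X := e.obj ⟨T, (AlgSp.J S).uliftYonedaEquiv l⟩
  have hT : T = X.obj.fst.left := (e.w_obj ⟨T, (AlgSp.J S).uliftYonedaEquiv l⟩).symm
  let j : Over.mk (eqToHom hT ≫ X.obj.fst.hom) ≅ X.obj.fst := Over.isoMk (eqToIso hT) rfl
  have hj : OverId (y.map j.hom) := OverId.map y (OverId.of_eq (𝒳 := FibCat.overCat U) hT rfl)
  have hX : OverId (autAt y X).hom :=
    (fp_overId X).comp ((overId_of_lift (inertia_aut_lift _ X.obj.snd)).comp (fp_overId X).inv)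
  refine ⟨_, ⟨y.toFunctor.mapIso j ≪≫ autAt y X ≪≫ (y.toFunctor.mapIso j).symm,
    hj.comp (hX.comp (OverId.inv (i := y.toFunctor.mapIso j) hj))⟩, j, rfl, ?_⟩
  show (y.map j.hom ≫ (autAt y X).hom ≫ y.map j.inv) ≫ y.map j.hom = _
  rw [Category.assoc, Category.assoc, ← Functor.map_comp, j.inv_hom_id, CategoryTheory.Functor.map_id,
    Category.comp_id]

theorem AutOf.restr {T' T : Over S} (r : T' ⟶ T) {l : (AlgSp.yon S).obj T ⟶ G} {b' : T' ⟶ U} {b : T ⟶ U}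
    {g' : AutPt y b'} {g : AutPt y b} (hg' : AutOf y e ((AlgSp.yon S).map r ≫ l) g') (hg : AutOf y e l g) :
    ARestr r g' g := by
  obtain ⟨j', hj', hw'⟩ := hg'
  obtain ⟨j, hj, hw⟩ := hg
  let m₀ : (⟨T', (AlgSp.J S).uliftYonedaEquiv ((AlgSp.yon S).map r ≫ l)⟩ : (AlgSt.ofSp G).obj) ⟶
      ⟨T, (AlgSp.J S).uliftYonedaEquiv l⟩ := ⟨r, ((AlgSp.J S).uliftYonedaEquiv_naturality l r).trans rfl⟩
  let n := j'.hom ≫ (e.map m₀).hom.fst ≫ j.inv
  have hn : n.left = r := by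
    have h0 : (e.map m₀).hom.fst.left = eqToHom (e.w_obj _) ≫ r ≫ eqToHom (e.w_obj _).symm :=
      Functor.congr_hom e.w m₀
    have hi : j.inv.left = eqToHom (e.w_obj ⟨T, (AlgSp.J S).uliftYonedaEquiv l⟩) := by
      have h2 : j.inv.left ≫ j.hom.left = 𝟙 _ := congrArg (fun t => t.left) j.inv_hom_id
      rw [hj] at h2
      exact (comp_eqToHom_iff _ _ _).1 h2 |>.trans (Category.id_comp _)
    show j'.hom.left ≫ (e.map m₀).hom.fst.left ≫ j.inv.left = r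
    rw [h0, hj', hi]
    simp
  have hb : r ≫ b = b' := by rw [← hn]; exact Over.w n
  refine ⟨hb, ?_⟩
  rw [show ovm r hb = n from Over.OverMorphism.ext hn.symm]
  have hn' : y.map n = y.map j'.hom ≫ y.map (e.map m₀).hom.fst ≫ y.map j.inv :=
    (y.toFunctor.map_comp _ _).trans (congrArg (y.map j'.hom ≫ ·) (y.toFunctor.map_comp _ _))
  have hw2 : (autAt y (e.obj ⟨T, (AlgSp.J S).uliftYonedaEquiv l⟩)).hom ≫ y.map j.inv = y.map j.inv ≫ g.g.hom := by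
    have k1 : y.map j.inv ≫ y.map j.hom = 𝟙 _ := by rw [← Functor.map_comp, j.inv_hom_id, CategoryTheory.Functor.map_id]
    have k2 : y.map j.hom ≫ y.map j.inv = 𝟙 _ := by rw [← Functor.map_comp, j.hom_inv_id, CategoryTheory.Functor.map_id]
    calc _ = (y.map j.inv ≫ y.map j.hom) ≫ (autAt y _).hom ≫ y.map j.inv :=
          (Category.id_comp _).symm.trans (congrArg (· ≫ _) k1.symm)
      _ = y.map j.inv ≫ (g.g.hom ≫ y.map j.hom) ≫ y.map j.inv :=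
          (Category.assoc _ _ _).trans (congrArg (y.map j.inv ≫ ·)
            ((Category.assoc _ _ _).symm.trans (congrArg (· ≫ y.map j.inv) hw.symm)))
      _ = _ := congrArg (y.map j.inv ≫ ·) ((Category.assoc _ _ _).trans
            ((congrArg (g.g.hom ≫ ·) k2).trans (Category.comp_id _)))
  rw [hn']
  calc _ = (y.map j'.hom ≫ (autAt y _).hom) ≫ y.map (e.map m₀).hom.fst ≫ y.map j.inv :=
        (Category.assoc _ _ _).symm.trans (congrArg (· ≫ _) hw')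
    _ = y.map j'.hom ≫ ((autAt y _).hom ≫ y.map (e.map m₀).hom.fst) ≫ y.map j.inv :=
        (Category.assoc _ _ _).trans (congrArg (y.map j'.hom ≫ ·) (Category.assoc _ _ _).symm)
    _ = y.map j'.hom ≫ (y.map (e.map m₀).hom.fst ≫ (autAt y _).hom) ≫ y.map j.inv :=
        congrArg (fun t => y.map j'.hom ≫ t ≫ y.map j.inv) (autAt_nat y (e.map m₀))
    _ = y.map j'.hom ≫ y.map (e.map m₀).hom.fst ≫ (y.map j.inv ≫ g.g.hom) :=
        congrArg (y.map j'.hom ≫ ·) ((Category.assoc _ _ _).trans (congrArg (y.map (e.map m₀).hom.fst ≫ ·) hw2))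
    _ = _ := (congrArg (y.map j'.hom ≫ ·) (Category.assoc _ _ _).symm).trans (Category.assoc _ _ _).symm

theorem exists_autSection (he : FibCat.IsEquivOver e) {T : Over S} {b : T ⟶ U} (g : AutPt y b) :
    ∃ l : (AlgSp.yon S).obj T ⟶ G, AutOf y e l g := by
  have hg : (FibCat.toSelf 𝒳).map g.g.hom = 𝟙 _ := by
    obtain ⟨_, h1⟩ := g.hg.eq
    exact h1.trans (eqToHom_refl _ _)
  let z : (FibCat.inertia (FibCat.toSelf 𝒳)).obj := ⟨y.obj (Over.mk b), g.g, hg⟩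
  let X₀ : (FibCat.fp y (FibCat.inertiaToBase (FibCat.toSelf 𝒳))).obj :=
    fpObj (Over.mk b) z (Iso.refl _) (overId_id _)
  obtain ⟨⟨T₁, s⟩, i, hi⟩ := eqv_exists_overId he X₀
  obtain ⟨he1, hm⟩ := hi.eq
  have hT : T₁ = T := (e.w_obj _).symm.trans he1
  subst hT
  obtain ⟨l, hl⟩ := (GrothendieckTopology.uliftYonedaEquiv.{u + 1} (AlgSp.J S)).surjective s
  subst hl
  let j : (e.obj ⟨T₁, (AlgSp.J S).uliftYonedaEquiv l⟩).obj.fst ≅ Over.mk b :=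
    (FibCat.fpFst y (FibCat.inertiaToBase (FibCat.toSelf 𝒳))).toFunctor.mapIso i
  have hn : (autAt y (e.obj ⟨T₁, (AlgSp.J S).uliftYonedaEquiv l⟩)).hom ≫ y.map j.hom =
      y.map j.hom ≫ (autAt y X₀).hom := autAt_nat y i.hom
  have hX₀ : (autAt y X₀).hom = g.g.hom := by
    show 𝟙 _ ≫ g.g.hom ≫ 𝟙 _ = g.g.hom
    rw [Category.comp_id]
    exact Category.id_comp _
  rw [hX₀] at hn
  refine ⟨l, j.symm, ?_, ?_⟩
  · have h2 : j.inv.left ≫ j.hom.left = 𝟙 _ := congrArg (fun t => t.left) j.inv_hom_id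
    rw [show j.hom.left = eqToHom he1 from hm] at h2
    exact ((comp_eqToHom_iff _ _ _).1 h2).trans (Category.id_comp _)
  · show g.g.hom ≫ y.map j.inv = y.map j.inv ≫ _
    have k1 : y.map j.inv ≫ y.map j.hom = 𝟙 _ := by rw [← Functor.map_comp, j.inv_hom_id, CategoryTheory.Functor.map_id]
    have k2 : y.map j.hom ≫ y.map j.inv = 𝟙 _ := by rw [← Functor.map_comp, j.hom_inv_id, CategoryTheory.Functor.map_id]
    calc _ = (y.map j.inv ≫ y.map j.hom) ≫ g.g.hom ≫ y.map j.inv :=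
          (Category.id_comp _).symm.trans (congrArg (· ≫ _) k1.symm)
      _ = y.map j.inv ≫ ((autAt y _).hom ≫ y.map j.hom) ≫ y.map j.inv :=
          (Category.assoc _ _ _).trans (congrArg (y.map j.inv ≫ ·)
            ((Category.assoc _ _ _).symm.trans (congrArg (· ≫ y.map j.inv) hn.symm)))
      _ = _ := congrArg (y.map j.inv ≫ ·) ((Category.assoc _ _ _).trans
            ((congrArg (_ ≫ ·) k2).trans (Category.comp_id _)))

end Groth.L11.IsoNat
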