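import Groth.Agent.L11.IsoNat.Forms
import Groth.Agent.L11.IsoNat.Axes

/-!
Classification of objects over the doubled axes which are trivial on both copies and on every axis.
-/

set_option autoImplicit false
set_option backward.isDefEq.respectTransparency false
set_option backward.isDefEq.respectTransparency.types false

universe u

open CategoryTheory CategoryTheory.Limits AlgebraicGeometry

noncomputable section

namespace Groth.L11.IsoNat

variable {S : Scheme.{u}} {𝒳 𝒴 : AlgSt.Cat S}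

/-! ### Pullback of classes -/

/-- Pullback of isomorphism classes. -/
def pullC (h : FibCat.IsFibGrpd 𝒳.p) {T T' : Over S} (g : T' ⟶ T) : IsoNat.IsoCl 𝒳 T → IsoNat.IsoCl 𝒳 T' :=
  Quotient.lift (fun x => IsoNat.cls (exists_pullback h g x).choose) fun x y hxy => by
    have := (exists_pullback h g x).choose_spec.choose_spec
    have := (exists_pullback h g y).choose_spec.choose_spec
    exact cls_eq_of_lifts h g (exists_pullback h g x).choose_spec.choose (exists_pullback h g y).choose_spec.choose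
      (cls_eq_iff.2 hxy)

theorem pullC_cls (h : FibCat.IsFibGrpd 𝒳.p) {T T' : Over S} (g : T' ⟶ T) {x' : 𝒳.p.Fiber T'} {x : 𝒳.p.Fiber T}
    (a : x'.1 ⟶ x.1) [𝒳.p.IsHomLift g a] : pullC h g (IsoNat.cls x) = IsoNat.cls x' := by
  have := (exists_pullback h g x).choose_spec.choose_spec
  exact cls_eq_of_lifts h g (exists_pullback h g x).choose_spec.choose a rfl

theorem pullC_objCls (h : FibCat.IsFibGrpd 𝒳.p) {T T' : Over S} (g : T' ⟶ T) (H : FibCat.overCat T ⥤ᵇ 𝒳) :
    pullC h g (IsoNat.objCls H) = IsoNat.objCls (BasedFunctor.comp (AlgSt.overMap g) H) := by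
  let m : (Over.map g).obj (Over.mk (𝟙 T')) ⟶ Over.mk (𝟙 T) := Over.homMk g (by simp)
  have : 𝒳.p.IsHomLift g (H.map m) := lift_map H m
  exact pullC_cls h g (x' := objFib (BasedFunctor.comp (AlgSt.overMap g) H)) (x := objFib H) (H.map m)

theorem fIso_pullC (φ : IsoNat.FIso 𝒳 𝒴) (h𝒳 : FibCat.IsFibGrpd 𝒳.p) (h𝒴 : FibCat.IsFibGrpd 𝒴.p) {T T' : Over S}
    (g : T' ⟶ T) (c : IsoNat.IsoCl 𝒳 T) : φ.toEquiv T' (pullC h𝒳 g c) = pullC h𝒴 g (φ.toEquiv T c) := by
  obtain ⟨x, rfl⟩ := cls_surjective c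
  obtain ⟨y, hy⟩ := exists_fiber_corresp φ x
  obtain ⟨x', a, ha⟩ := exists_pullback h𝒳 g x
  obtain ⟨y', b, hb⟩ := exists_pullback h𝒴 g y
  rw [pullC_cls h𝒳 g a, hy, pullC_cls h𝒴 g b]
  exact fIso_natural φ h𝒴 g a b hy

theorem objCls_eq_of_iso {T : Over S} {H H' : FibCat.overCat T ⥤ᵇ 𝒳} (e : H ≅ H') :
    IsoNat.objCls H = IsoNat.objCls H' :=
  cls_eq_iff.2 ⟨(FibCat.evalAtId 𝒳 T).mapIso e⟩

theorem exists_iso_of_objCls (h : FibCat.IsFibGrpd 𝒳.p) {T : Over S} {H H' : FibCat.overCat T ⥤ᵇ 𝒳}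
    (e : IsoNat.objCls H = IsoNat.objCls H') : Nonempty (H ≅ H') := by
  obtain ⟨i⟩ := cls_eq_iff.1 e
  have := L09.Fib.evalAtId_isEquivalence h T
  exact ⟨(FibCat.evalAtId 𝒳 T).preimageIso i⟩

section OverLemmas

variable {D : Type*} [Category D] {A B E : D}

/-- Composable base changes of slices. -/
def mapMapIso (f : A ⟶ B) (g : B ⟶ E) (h : A ⟶ E) (w : f ≫ g = h) (k : Over A) :
    (Over.map g).obj ((Over.map f).obj k) ≅ (Over.map h).obj k :=
  Over.isoMk (Iso.refl k.left) (by simp [w])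

theorem mapMapIso_nat (f : A ⟶ B) (g : B ⟶ E) (h : A ⟶ E) (w : f ≫ g = h) {k l : Over A} (r : k ⟶ l) :
    (Over.map g).map ((Over.map f).map r) ≫ (mapMapIso f g h w l).hom =
      (mapMapIso f g h w k).hom ≫ (Over.map h).map r := by
  apply Over.OverMorphism.ext; simp [mapMapIso]

/-- An object of a slice compared with the image of one over it. -/
def mkMapIso (f : A ⟶ B) {Q : D} (l : Q ⟶ A) (s : Q ⟶ B) (w : l ≫ f = s) :
    Over.mk s ≅ (Over.map f).obj (Over.mk l) :=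
  Over.isoMk (Iso.refl Q) (by simp [w])

theorem mkMapIso_comp (f : A ⟶ B) (g : B ⟶ E) (h : A ⟶ E) (w : f ≫ g = h) {Q : D} (l : Q ⟶ A) (s : Q ⟶ B)
    (ws : l ≫ f = s) (wt : l ≫ h = s ≫ g) :
    (mapMapIso f g h w (Over.mk l)).inv ≫ (Over.map g).map (mkMapIso f l s ws).inv ≫ (mkMapIso h l (s ≫ g) wt).hom =
      𝟙 _ := by
  apply Over.OverMorphism.ext; simp [mapMapIso, mkMapIso]

end OverLemmas

section Pull

variable {A B E : Over S} (f : A ⟶ B) (g : B ⟶ E) (h : A ⟶ E) (w : f ≫ g = h)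
  {G : FibCat.overCat E ⥤ᵇ 𝒳}

/-- Restriction of a family along a morphism. -/
def pullFam (P' : Sieve A) {P : Sieve B} (hP : ∀ {Q : Over S} (q : Q ⟶ A), P' q → P (q ≫ f))
    {H : FibCat.overCat B ⥤ᵇ 𝒳} (γ : Fam P H (BasedFunctor.comp (AlgSt.overMap g) G)) :
    Fam P' (BasedFunctor.comp (AlgSt.overMap f) H) (BasedFunctor.comp (AlgSt.overMap h) G) where
  app k hk := γ.app ((Over.map f).obj k) (hP k.hom hk) ≫ G.map (mapMapIso f g h w k).hom
  lift k hk := by
    have h1 : 𝒳.p.IsHomLift (𝟙 k.left) (γ.app ((Over.map f).obj k) (hP k.hom hk)) :=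
      γ.lift ((Over.map f).obj k) (hP k.hom hk)
    have h2 : 𝒳.p.IsHomLift (𝟙 k.left) (G.map (mapMapIso f g h w k).hom) := lift_map G (mapMapIso f g h w k).hom
    exact vert_comp (Q := k.left) _ _
  nat {k l} r hk hl := by
    have := γ.nat ((Over.map f).map r) (hP k.hom hk) (hP l.hom hl)
    refine (Category.assoc _ _ _).symm.trans ((congrArg (· ≫ G.map (mapMapIso f g h w l).hom) this).trans
      ((Category.assoc _ _ _).trans (Eq.trans ?_ (Category.assoc _ _ _).symm)))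
    refine congrArg (γ.app _ _ ≫ ·) ?_
    exact (G.toFunctor.map_comp _ _).symm.trans
      ((congrArg (fun t => G.map t) (mapMapIso_nat f g h w r)).trans (G.toFunctor.map_comp _ _))

theorem pullFam_rel {P₁ P₂ : Sieve B} {P₁' P₂' : Sieve A} (hP₁ : ∀ {Q : Over S} (q : Q ⟶ A), P₁' q → P₁ (q ≫ f))
    (hP₂ : ∀ {Q : Over S} (q : Q ⟶ A), P₂' q → P₂ (q ≫ f)) (I : Sieve B) (I' : Sieve A)
    (hI : ∀ {Q : Over S} (q : Q ⟶ A), I' q → I (q ≫ f)) (l₁ : I ≤ P₁) (l₂ : I ≤ P₂)
    {H : FibCat.overCat B ⥤ᵇ 𝒳} (γ₁ : Fam P₁ H (BasedFunctor.comp (AlgSt.overMap g) G))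
    (γ₂ : Fam P₂ H (BasedFunctor.comp (AlgSt.overMap g) G)) (c : Aut G)
    (e : ∀ (k : Over B) (hk : I k.hom),
      γ₁.app k (l₁ _ hk) ≫ c.hom.toNatTrans.app ((Over.map g).obj k) = γ₂.app k (l₂ _ hk))
    (k : Over A) (hk : I' k.hom) (h₁ : P₁' k.hom) (h₂ : P₂' k.hom) :
    (pullFam f g h w P₁' hP₁ γ₁).app k h₁ ≫ c.hom.toNatTrans.app ((Over.map h).obj k) =
      (pullFam f g h w P₂' hP₂ γ₂).app k h₂ := by
  show (_ ≫ _) ≫ _ = _ ≫ _
  exact (Category.assoc _ _ _).trans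
    ((congrArg (γ₁.app _ _ ≫ ·) (c.hom.toNatTrans.naturality (mapMapIso f g h w k).hom)).trans
      ((Category.assoc _ _ _).symm.trans (congrArg (· ≫ _) (e ((Over.map f).obj k) (hI k.hom hk)))))

/-- A family evaluated at a factorisation through the smaller slice. -/
theorem pullFam_key (hf : FibCat.IsFibGrpd 𝒳.p) {P' : Sieve A} {P : Sieve B}
    (hP : ∀ {Q : Over S} (q : Q ⟶ A), P' q → P (q ≫ f))
    {H : FibCat.overCat B ⥤ᵇ 𝒳} (γ : Fam P H (BasedFunctor.comp (AlgSt.overMap g) G))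
    (θ : BasedFunctor.comp (AlgSt.overMap f) H ⟶ BasedFunctor.comp (AlgSt.overMap h) G)
    (k : Over B) (hk : P k.hom) (τ : k.left ⟶ A) (hτ : P' τ) (hτC : τ ≫ f = k.hom)
    (hτp : τ ≫ h = k.hom ≫ g) :
    γ.app k hk ≫ G.map (mkMapIso h τ (k.hom ≫ g) hτp).hom ≫
      (((pullFam f g h w P' hP γ).inv hf).comp (Fam.ofNat P' θ)).app (Over.mk τ) hτ ≫
        G.map (mkMapIso h τ (k.hom ≫ g) hτp).inv =
    H.map (mkMapIso f τ k.hom hτC).hom ≫ θ.toNatTrans.app (Over.mk τ) ≫
      G.map (mkMapIso h τ (k.hom ≫ g) hτp).inv := by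
  let u : (Over.map f).obj (Over.mk τ) ≅ k := (mkMapIso f τ k.hom hτC).symm
  let e : Over.mk (k.hom ≫ g) ≅ (Over.map h).obj (Over.mk τ) := mkMapIso h τ (k.hom ≫ g) hτp
  have hq : P ((Over.map f).obj (Over.mk τ)).hom := hP τ hτ
  have hn := γ.nat u.hom hq hk
  have hH : H.map u.inv ≫ H.map u.hom = 𝟙 _ :=
    (H.toFunctor.map_comp _ _).symm.trans ((congrArg (fun t => H.map t) u.inv_hom_id).trans (H.toFunctor.map_id _))
  refine ((congrArg (· ≫ _) ((Category.id_comp _).symm.trans ((congrArg (· ≫ γ.app k hk) hH.symm).trans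
    ((Category.assoc _ _ _).trans (congrArg (H.map u.inv ≫ ·) hn))))).trans (Category.assoc _ _ _)).trans ?_
  refine congrArg (H.map u.inv ≫ ·) ?_
  simp only [Fam.comp_app, Fam.ofNat_app, Category.assoc]
  have e3 : (mapMapIso f g h w (Over.mk τ)).inv ≫ (Over.map g).map u.hom ≫ e.hom = 𝟙 _ :=
    mkMapIso_comp f g h w τ k.hom hτC hτp
  have hab : G.map ((Over.map g).map u.hom) ≫ G.map e.hom = G.map (mapMapIso f g h w (Over.mk τ)).hom :=
    (G.toFunctor.map_comp _ _).symm.trans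
      (congrArg (fun t => G.map t) (((Iso.inv_comp_eq _).1 e3).trans (Category.comp_id _)))
  refine (congrArg (γ.app _ hq ≫ ·) ((Category.assoc _ _ _).symm.trans (congrArg (· ≫ _) hab))).trans ?_
  exact (Category.assoc _ _ _).symm.trans
    (Fam.comp_inv_assoc hf (pullFam f g h w P' hP γ) (Over.mk τ) hτ (θ.toNatTrans.app (Over.mk τ) ≫ G.map e.inv))

end Pull

/-! ### Classes of forms -/

variable {T : Over S} {n m : ℕ} (G₀ : FibCat.overCat T ⥤ᵇ 𝒳)

/-- The class of a form with given transitions. -/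
def formCls (h : Stk.IsStack (AlgSp.J S) 𝒳) (g : Fin n → Aut G₀) : IsoNat.IsoCl 𝒳 (Theta.Co T n) :=
  IsoNat.objCls (exists_isForm G₀ h g).choose

theorem objCls_of_isForm (h : Stk.IsStack (AlgSp.J S) 𝒳) {g : Fin n → Aut G₀}
    {H : FibCat.overCat (Theta.Co T n) ⥤ᵇ 𝒳} (hH : IsForm G₀ g H) : IsoNat.objCls H = formCls G₀ h g := by
  obtain ⟨e⟩ := isForm_iso G₀ h hH (exists_isForm G₀ h g).choose_spec (a := 1) (b := 1)
    (fun i => by rw [mul_one, one_mul])
  exact objCls_eq_of_iso e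

theorem formCls_eq_iff (h : Stk.IsStack (AlgSp.J S) 𝒳)
    (hd : AlgSt.RepByAlgSpWith (AlgSp.IsSeparatedMor ⊓ AlgSp.IsQuasiCompactMor) (FibCat.diag (FibCat.toSelf 𝒳)))
    (g g' : Fin n → Aut G₀) :
    formCls G₀ h g = formCls G₀ h g' ↔ ∃ a b : Aut G₀, ∀ i, g' i * a = b * g i := by
  constructor
  · intro e
    obtain ⟨γ, hγ⟩ := (exists_isForm G₀ h g).choose_spec
    obtain ⟨γ', hγ'⟩ := (exists_isForm G₀ h g').choose_spec
    obtain ⟨θ⟩ := exists_iso_of_objCls h.1 e
    let φ : ∀ b, Fam ((Theta.cover T n).P b) (GC G₀ n) (GC G₀ n) := fun b =>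
      (((γ b).inv h.1).comp (Fam.ofNat _ θ.hom)).comp (γ' b)
    refine ⟨atOriginAut G₀ h.1 true (φ true), atOriginAut G₀ h.1 false (φ false),
      origin_rel G₀ h hd φ g g' fun i k hk => ?_⟩
    have := isIso_vert h.1 _ ((γ false).lift k ((Theta.cover T n).le i false _ hk))
    simp only [φ, Fam.comp_app, Fam.ofNat_app, Category.assoc]
    have := isIso_vert h.1 _ ((γ true).lift k ((Theta.cover T n).le i true _ hk))
    rw [hγ' i k hk, ← cancel_epi ((γ true).app k ((Theta.cover T n).le i true _ hk))]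
    simp only [Fam.comp_inv_assoc]
    rw [← Category.assoc ((γ true).app k _) (constApp G₀ (g i) k), hγ i k hk]
    simp only [Fam.comp_inv_assoc]
  · rintro ⟨a, b, e⟩
    obtain ⟨i⟩ := isForm_iso G₀ h (exists_isForm G₀ h g).choose_spec (exists_isForm G₀ h g').choose_spec e
    exact objCls_eq_of_iso i

/-- The identification of the trivial objects along a map of axes. -/

def reIso (σ : Fin m ↪ Fin n) (k : Over (Theta.Co T m)) :
    (Over.map (Theta.proj T)).obj ((Over.map (Theta.reC T σ)).obj k) ≅ (Over.map (Theta.proj T)).obj k :=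
  mapMapIso (Theta.reC T σ) (Theta.proj T) (Theta.proj T) (Theta.reC_proj T σ) k

theorem reIso_nat (σ : Fin m ↪ Fin n) {k l : Over (Theta.Co T m)} (r : k ⟶ l) :
    G₀.map ((Over.map (Theta.proj T)).map ((Over.map (Theta.reC T σ)).map r)) ≫ G₀.map (reIso σ l).hom =
      G₀.map (reIso σ k).hom ≫ G₀.map ((Over.map (Theta.proj T)).map r) := by
  rw [← Functor.map_comp, ← Functor.map_comp]
  exact congrArg (fun t => G₀.map t) (mapMapIso_nat _ _ _ _ r)

variable {G₀}

/-- Restriction of a family along a map of axes. -/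
def famPull (σ : Fin m ↪ Fin n) {b : Bool} {H : FibCat.overCat (Theta.Co T n) ⥤ᵇ 𝒳}
    (γ : Fam ((Theta.cover T n).P b) H (GC G₀ n)) :
    Fam ((Theta.cover T m).P b) (BasedFunctor.comp (AlgSt.overMap (Theta.reC T σ)) H) (GC G₀ m) :=
  pullFam (Theta.reC T σ) (Theta.proj T) (Theta.proj T) (Theta.reC_proj T σ) ((Theta.cover T m).P b)
    (fun q hq => Theta.reC_P T σ hq) γ

theorem isForm_pull (σ : Fin m ↪ Fin n) {g : Fin n → Aut G₀} {H : FibCat.overCat (Theta.Co T n) ⥤ᵇ 𝒳}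
    (hH : IsForm G₀ g H) :
    IsForm G₀ (g ∘ σ) (BasedFunctor.comp (AlgSt.overMap (Theta.reC T σ)) H) := by
  obtain ⟨γ, hγ⟩ := hH
  exact ⟨fun b => famPull σ (γ b), fun i k hk =>
    pullFam_rel (Theta.reC T σ) (Theta.proj T) (Theta.proj T) (Theta.reC_proj T σ)
      (fun q hq => Theta.reC_P T σ hq) (fun q hq => Theta.reC_P T σ hq)
      ((Theta.cover T n).I (σ i)) ((Theta.cover T m).I i) (fun q hq => Theta.reC_I T σ hq)
      ((Theta.cover T n).le (σ i) true) ((Theta.cover T n).le (σ i) false) (γ true) (γ false) (g (σ i))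
      (hγ (σ i)) k hk ((Theta.cover T m).le i true _ hk) ((Theta.cover T m).le i false _ hk)⟩

theorem pullC_formCls (h : Stk.IsStack (AlgSp.J S) 𝒳) (σ : Fin m ↪ Fin n) (g : Fin n → Aut G₀) :
    pullC h.1 (Theta.reC T σ) (formCls G₀ h g) = formCls G₀ h (g ∘ σ) := by
  rw [formCls, pullC_objCls]
  exact objCls_of_isForm G₀ h (isForm_pull σ (exists_isForm G₀ h g).choose_spec)

/-! ### Trivial restrictions -/

theorem mono_incl (b : Bool) : Mono (Theta.incl T b (n := n)) := by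
  have : Mono ((Over.forget S).map (Theta.incl T b (n := n))) :=
    inferInstanceAs (Mono (Theta.incl T b (n := n)).left)
  exact (Over.forget S).mono_of_mono_map this

variable (G₀)

/-- A class trivial on both copies and on each axis. -/
def Triv (h : FibCat.IsFibGrpd 𝒳.p) (c₀ : IsoNat.IsoCl 𝒳 T) (c : IsoNat.IsoCl 𝒳 (Theta.Co T n)) : Prop :=
  (∀ b, pullC h (Theta.incl T b) c = pullC h (Theta.projX T) c₀) ∧
    ∀ i, pullC h (Theta.reC T (Theta.single i)) c = pullC h (Theta.proj T) c₀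

theorem triv_fIso (φ : IsoNat.FIso 𝒳 𝒴) (h𝒳 : FibCat.IsFibGrpd 𝒳.p) (h𝒴 : FibCat.IsFibGrpd 𝒴.p)
    {c₀ : IsoNat.IsoCl 𝒳 T} {c : IsoNat.IsoCl 𝒳 (Theta.Co T n)} (hc : Triv h𝒳 c₀ c) :
    Triv h𝒴 (φ.toEquiv T c₀) (φ.toEquiv _ c) :=
  ⟨fun b => by rw [← fIso_pullC φ h𝒳 h𝒴, hc.1 b, fIso_pullC φ h𝒳 h𝒴],
    fun i => by rw [← fIso_pullC φ h𝒳 h𝒴, hc.2 i, fIso_pullC φ h𝒳 h𝒴]⟩

/-- A trivialisation on one copy from a family. -/
def inclIso (b : Bool) (k : Over (Theta.Xo T n)) :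
    (Over.map (Theta.proj T)).obj ((Over.map (Theta.incl T b)).obj k) ≅ (Over.map (Theta.projX T)).obj k :=
  mapMapIso (Theta.incl T b) (Theta.proj T) (Theta.projX T) (Theta.incl_proj T b) k

theorem triv_formCls (h : Stk.IsStack (AlgSp.J S) 𝒳) (g : Fin n → Aut G₀) :
    Triv h.1 (IsoNat.objCls G₀) (formCls G₀ h g) := by
  refine ⟨fun b => ?_, fun i => ?_⟩
  · obtain ⟨γ, -⟩ := (exists_isForm G₀ h g).choose_spec
    rw [formCls, pullC_objCls, pullC_objCls]
    let H := (exists_isForm G₀ h g).choose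
    let k : Over (Theta.Co T n) := (Over.map (Theta.incl T b)).obj (Over.mk (𝟙 (Theta.Xo T n)))
    have hk : (Theta.cover T n).P b k.hom := ⟨𝟙 _, rfl⟩
    let a : H.obj k ⟶ G₀.obj ((Over.map (Theta.projX T)).obj (Over.mk (𝟙 (Theta.Xo T n)))) :=
      (γ b).app k hk ≫ G₀.map (inclIso b (Over.mk (𝟙 (Theta.Xo T n)))).hom
    have : 𝒳.p.IsHomLift (𝟙 (Theta.Xo T n)) a := by
      have h1 : 𝒳.p.IsHomLift (𝟙 (Theta.Xo T n)) ((γ b).app k hk) := (γ b).lift k hk
      have h2 : 𝒳.p.IsHomLift (𝟙 (Theta.Xo T n)) (G₀.map (inclIso b (Over.mk (𝟙 (Theta.Xo T n)))).hom) :=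
        lift_map G₀ (inclIso b (Over.mk (𝟙 (Theta.Xo T n)))).hom
      exact vert_comp _ _
    exact cls_eq_iff.2 ⟨fiberIso h.1 ⟨a, this⟩⟩
  · rw [pullC_formCls h, pullC_objCls]
    have h0 : IsForm G₀ (fun _ : Fin 1 => (1 : Aut G₀)) (GC G₀ 1) :=
      ⟨fun b => Fam.ofNat _ (𝟙 (GC G₀ 1)), fun j k hk => by
        show 𝟙 _ ≫ 𝟙 _ = 𝟙 _
        exact Category.id_comp _⟩
    obtain ⟨e⟩ := isForm_iso G₀ h (exists_isForm G₀ h (g ∘ Theta.single i)).choose_spec h0 (a := g i) (b := 1)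
      (fun j => rfl)
    exact objCls_eq_of_iso e

section Recognition

variable {G₀} (h : Stk.IsStack (AlgSp.J S) 𝒳)

/-- The lift to a copy. -/
def liftOf {b : Bool} {k : Over (Theta.Co T n)} (hk : (Theta.cover T n).P b k.hom) : k.left ⟶ Theta.Xo T n :=
  hk.choose

theorem liftOf_spec {b : Bool} {k : Over (Theta.Co T n)} (hk : (Theta.cover T n).P b k.hom) :
    liftOf hk ≫ Theta.incl T b = k.hom := hk.choose_spec

theorem liftOf_nat {b : Bool} {k l : Over (Theta.Co T n)} (r : k ⟶ l) (hk : (Theta.cover T n).P b k.hom)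
    (hl : (Theta.cover T n).P b l.hom) : r.left ≫ liftOf hl = liftOf hk := by
  have := mono_incl (T := T) (n := n) b
  rw [← cancel_mono (Theta.incl T b), Category.assoc, liftOf_spec, liftOf_spec, Over.w]

/-- A family on a copy from a morphism on that copy. -/
def famOfTriv {H : FibCat.overCat (Theta.Co T n) ⥤ᵇ 𝒳} (b : Bool)
    (θ : BasedFunctor.comp (AlgSt.overMap (Theta.incl T b)) H ⟶ BasedFunctor.comp (AlgSt.overMap (Theta.projX T)) G₀) :
    Fam ((Theta.cover T n).P b) H (GC G₀ n) where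
  app k hk :=
    H.map (Over.homMk (𝟙 k.left) (by
        show 𝟙 _ ≫ liftOf hk ≫ Theta.incl T b = k.hom
        rw [Category.id_comp, liftOf_spec]) :
        k ⟶ (Over.map (Theta.incl T b)).obj (Over.mk (liftOf hk))) ≫
      θ.toNatTrans.app (Over.mk (liftOf hk)) ≫
      G₀.map (Over.homMk (𝟙 k.left) (by
          show 𝟙 _ ≫ k.hom ≫ Theta.proj T = liftOf hk ≫ Theta.projX T
          rw [Category.id_comp, ← liftOf_spec hk, Category.assoc, Theta.incl_proj]) :
        (Over.map (Theta.projX T)).obj (Over.mk (liftOf hk)) ⟶ (Over.map (Theta.proj T)).obj k)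
  lift k hk := by
    have h1 := lift_map H (Over.homMk (𝟙 k.left) (by
        show 𝟙 _ ≫ liftOf hk ≫ Theta.incl T b = k.hom
        rw [Category.id_comp, liftOf_spec]) :
        k ⟶ (Over.map (Theta.incl T b)).obj (Over.mk (liftOf hk)))
    have h2 : 𝒳.p.IsHomLift (𝟙 k.left) (θ.toNatTrans.app (Over.mk (liftOf hk))) := θ.isHomLift' (Over.mk (liftOf hk))
    have h3 := lift_map G₀ (Over.homMk (𝟙 k.left) (by
          show 𝟙 _ ≫ k.hom ≫ Theta.proj T = liftOf hk ≫ Theta.projX T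
          rw [Category.id_comp, ← liftOf_spec hk, Category.assoc, Theta.incl_proj]) :
        (Over.map (Theta.projX T)).obj (Over.mk (liftOf hk)) ⟶ (Over.map (Theta.proj T)).obj k)
    exact @vert_comp _ _ _ k.left _ _ _ _ _ h1 (@vert_comp _ _ _ k.left _ _ _ _ _ h2 h3)
  nat {k l} r hk hl := by
    let r' : Over.mk (liftOf hk) ⟶ Over.mk (liftOf hl) := Over.homMk r.left (liftOf_nat r hk hl)
    have hθ := θ.toNatTrans.naturality r'
    change H.map ((Over.map (Theta.incl T b)).map r') ≫ _ = _ ≫ G₀.map ((Over.map (Theta.projX T)).map r') at hθ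
    simp only [Category.assoc]
    rw [← Functor.map_comp_assoc]
    have e1 : r ≫ (Over.homMk (𝟙 l.left) (by
        show 𝟙 _ ≫ liftOf hl ≫ Theta.incl T b = l.hom
        rw [Category.id_comp, liftOf_spec]) :
        l ⟶ (Over.map (Theta.incl T b)).obj (Over.mk (liftOf hl))) =
        (Over.homMk (𝟙 k.left) (by
          show 𝟙 _ ≫ liftOf hk ≫ Theta.incl T b = k.hom
          rw [Category.id_comp, liftOf_spec]) :
          k ⟶ (Over.map (Theta.incl T b)).obj (Over.mk (liftOf hk))) ≫ (Over.map (Theta.incl T b)).map r' := by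
      apply Over.OverMorphism.ext
      show r.left ≫ 𝟙 l.left = 𝟙 k.left ≫ r.left
      rw [Category.comp_id, Category.id_comp]
    rw [e1, Functor.map_comp_assoc, reassoc_of% hθ, ← Functor.map_comp]
    refine congrArg (H.map _ ≫ ·) (congrArg (θ.toNatTrans.app _ ≫ ·) ?_)
    refine Eq.trans ?_ (G₀.toFunctor.map_comp _ _)
    refine congrArg (fun t => G₀.map t) (Over.OverMorphism.ext ?_)
    show r.left ≫ 𝟙 l.left = 𝟙 k.left ≫ r.left
    rw [Category.comp_id, Category.id_comp]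

/-- Restriction of an endomorphism family on the axis, normalised at the origin. -/
def collapseFam (b : Bool) (i : Fin n) (φ : Fam ((Theta.cover T 1).P b) (GC G₀ 1) (GC G₀ 1)) :
    Fam ((Theta.cover T n).P b) (GC G₀ n) (GC G₀ n) where
  app k hk := evAt G₀ φ ((liftOf hk ≫ Theta.collapse T i) ≫ Theta.incl T b) ⟨_, rfl⟩ (k.hom ≫ Theta.proj T)
      (by rw [← liftOf_spec hk]; simp) ≫ (atOriginAut G₀ h.1 b φ).inv.toNatTrans.app ((Over.map (Theta.proj T)).obj k)
  lift k hk := by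
    have h1 := evAt_lift G₀ φ ((liftOf hk ≫ Theta.collapse T i) ≫ Theta.incl T b) ⟨_, rfl⟩ (k.hom ≫ Theta.proj T)
      (by rw [← liftOf_spec hk]; simp)
    have h2 : 𝒳.p.IsHomLift (𝟙 k.left)
        ((atOriginAut G₀ h.1 b φ).inv.toNatTrans.app ((Over.map (Theta.proj T)).obj k)) :=
      appLift (atOriginAut G₀ h.1 b φ).inv ((Over.map (Theta.proj T)).obj k)
    exact vert_comp (Q := k.left) _ _
  nat {k l} r hk hl := by
    have e := evAt_nat G₀ φ r.left ((liftOf hl ≫ Theta.collapse T i) ≫ Theta.incl T b) ⟨_, rfl⟩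
      (l.hom ≫ Theta.proj T) (by rw [← liftOf_spec hl]; simp)
      ((liftOf hk ≫ Theta.collapse T i) ≫ Theta.incl T b) ⟨_, rfl⟩
      (k.hom ≫ Theta.proj T) (by rw [← liftOf_spec hk]; simp)
      (by simp only [← Category.assoc, liftOf_nat r hk hl]) (by rw [← Category.assoc, Over.w r])
    show G₀.map ((Over.map (Theta.proj T)).map r) ≫ _ ≫ _ = (_ ≫ _) ≫ G₀.map ((Over.map (Theta.proj T)).map r)
    have er : (Over.map (Theta.proj T)).map r = (Over.homMk r.left (by
        show r.left ≫ l.hom ≫ Theta.proj T = k.hom ≫ Theta.proj T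
        rw [← Category.assoc, Over.w r]) : Over.mk (k.hom ≫ Theta.proj T) ⟶ Over.mk (l.hom ≫ Theta.proj T)) := rfl
    exact (Category.assoc _ _ _).symm.trans
      ((congrArg (· ≫ (atOriginAut G₀ h.1 b φ).inv.toNatTrans.app ((Over.map (Theta.proj T)).obj l))
        ((congrArg (fun t => G₀.map t ≫ _) er).trans e)).trans
        ((Category.assoc _ _ _).trans ((congrArg (evAt G₀ φ _ _ _ _ ≫ ·)
          ((congrArg (fun t => G₀.map t ≫ _) er.symm).trans
            ((atOriginAut G₀ h.1 b φ).inv.toNatTrans.naturality ((Over.map (Theta.proj T)).map r)))).trans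
          (Category.assoc _ _ _).symm)))

theorem collapseFam_of_ne (b : Bool) {i j : Fin n} (hij : j ≠ i) (φ : Fam ((Theta.cover T 1).P b) (GC G₀ 1) (GC G₀ 1))
    (k : Over (Theta.Co T n)) (hk : (Theta.cover T n).P b k.hom) (hl : ∀ x, (liftOf hk).left x ∈ Theta.vOpen T i) :
    (collapseFam h b j φ).app k hk = 𝟙 _ := by
  have hs : (liftOf hk ≫ Theta.projX T) = k.hom ≫ Theta.proj T := by
    rw [← liftOf_spec hk]; simp
  have e : (liftOf hk ≫ Theta.collapse T j) ≫ Theta.incl T b =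
      (k.hom ≫ Theta.proj T) ≫ Theta.originX T 1 ≫ Theta.incl T b := by
    rw [Theta.collapse_of_ne hij hl, hs, Category.assoc]
  show evAt G₀ φ _ _ _ _ ≫ _ = _
  rw [evAt_congr G₀ φ _ (origin_sieve b _) _ _ (origin_proj b _) e]
  exact congrArg (fun t => t.toNatTrans.app ((Over.map (Theta.proj T)).obj k)) (atOriginAut G₀ h.1 b φ).hom_inv_id

/-- The product of a list of endomorphism families. -/
def listFam {P : Sieve (Theta.Co T n)} (φ : Fin n → Fam P (GC G₀ n) (GC G₀ n)) :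
    List (Fin n) → Fam P (GC G₀ n) (GC G₀ n)
  | [] => Fam.ofNat P (𝟙 _)
  | i :: l => (φ i).comp (listFam φ l)

theorem listFam_eq {P : Sieve (Theta.Co T n)} (φ : Fin n → Fam P (GC G₀ n) (GC G₀ n)) (i : Fin n)
    (k : Over (Theta.Co T n)) (hk : P k.hom) (hne : ∀ j, j ≠ i → (φ j).app k hk = 𝟙 _) :
    ∀ l : List (Fin n), l.Nodup → (listFam φ l).app k hk = if i ∈ l then (φ i).app k hk else 𝟙 _
  | [], _ => by simp [listFam]
  | j :: l, hl => by
    rw [List.nodup_cons] at hl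
    show (φ j).app k hk ≫ _ = _
    rw [listFam_eq φ i k hk hne l hl.2]
    by_cases hj : j = i
    · subst hj
      simp [hl.1]
    · rw [hne j hj, Category.id_comp]
      simp [Ne.symm hj]

include h in
theorem exists_isForm_of_triv {H : FibCat.overCat (Theta.Co T n) ⥤ᵇ 𝒳}
    (γ : ∀ b, Fam ((Theta.cover T n).P b) H (GC G₀ n))
    (θ : ∀ i, BasedFunctor.comp (AlgSt.overMap (Theta.reC T (Theta.single i))) H ⟶ GC G₀ 1) :
    ∃ g, IsForm G₀ g H := by
  let φ : ∀ (_ : Fin n) (b : Bool), Fam ((Theta.cover T 1).P b) (GC G₀ 1) (GC G₀ 1) := fun i b =>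
    ((famPull (Theta.single i) (γ b)).inv h.1).comp (Fam.ofNat _ (θ i))
  let M : ∀ b, Fam ((Theta.cover T n).P b) (GC G₀ n) (GC G₀ n) := fun b =>
    listFam (fun j => collapseFam h b j (φ j b)) (List.finRange n)
  refine ⟨fun i => atOriginAut G₀ h.1 true (φ i true) ≪≫ (atOriginAut G₀ h.1 false (φ i false)).symm,
    fun b => (γ b).comp (M b), fun i k hk => ?_⟩
  obtain ⟨v, hv⟩ := hk
  let l₀ : k.left ⟶ Theta.Xo T n := v ≫ Theta.vIncl T i
  have hl₀ : ∀ x, l₀.left x ∈ Theta.vOpen T i := fun x => (v.left x).2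
  have hlift : ∀ b (hb : (Theta.cover T n).P b k.hom), liftOf hb = l₀ := fun b hb => by
    have := mono_incl (T := T) (n := n) b
    rw [← cancel_mono (Theta.incl T b), liftOf_spec, ← hv]
    cases b
    · rw [Category.assoc, ← Theta.vIncl_incl]
    · exact (Category.assoc _ _ _).symm
  have hM : ∀ b (hb : (Theta.cover T n).P b k.hom),
      (M b).app k hb = (collapseFam h b i (φ i b)).app k hb := fun b hb => by
    show (listFam _ _).app k hb = _
    rw [listFam_eq _ i k hb (fun j hj => collapseFam_of_ne h b hj _ k hb (by rw [hlift b hb]; exact hl₀)) _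
      (List.nodup_finRange n), if_pos (List.mem_finRange i)]
  -- the common point of the axis
  let τ : k.left ⟶ Theta.Co T 1 := (l₀ ≫ Theta.collapse T i) ≫ Theta.incl T true
  have hτe : ∀ b, (l₀ ≫ Theta.collapse T i) ≫ Theta.incl T b = τ := fun b => by
    cases b
    · exact (Theta.incl_eq_of_mem T _
        (fun x => TopologicalSpace.Opens.mem_iSup.2 ⟨0, Theta.collapse_mem hl₀ x⟩)).symm
    · rfl
  have hτP : ∀ b, (Theta.cover T 1).P b τ := fun b => ⟨_, hτe b⟩
  have hτC : τ ≫ Theta.reC T (Theta.single i) = k.hom := by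
    simp only [τ]
    rw [Category.assoc, Theta.incl_reC, ← Category.assoc, Theta.collapse_reX hl₀, ← hv, Category.assoc]
  have hτp : τ ≫ Theta.proj T = k.hom ≫ Theta.proj T := by
    refine (congrArg (τ ≫ ·) (Theta.reC_proj T (Theta.single i))).symm.trans ?_
    exact (Category.assoc _ _ _).symm.trans (congrArg (· ≫ Theta.proj T) hτC)
  let u : (Over.map (Theta.reC T (Theta.single i))).obj (Over.mk τ) ≅ k :=
    (mkMapIso (Theta.reC T (Theta.single i)) τ k.hom hτC).symm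
  let e : Over.mk (k.hom ≫ Theta.proj T) ≅ (Over.map (Theta.proj T)).obj (Over.mk τ) :=
    mkMapIso (Theta.proj T) τ (k.hom ≫ Theta.proj T) hτp
  have key : ∀ b (hb : (Theta.cover T n).P b k.hom),
      (γ b).app k hb ≫ evAt G₀ (φ i b) τ (hτP b) (k.hom ≫ Theta.proj T) hτp =
        H.map u.inv ≫ (θ i).toNatTrans.app (Over.mk τ) ≫ G₀.map e.inv := by
    intro b hb
    exact pullFam_key (Theta.reC T (Theta.single i)) (Theta.proj T) (Theta.proj T) (Theta.reC_proj T (Theta.single i))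
      h.1 (fun q hq => Theta.reC_P T (Theta.single i) hq) (γ b) (θ i) k hb τ (hτP b) hτC hτp
  have hc : ∀ b (hb : (Theta.cover T n).P b k.hom), (γ b).app k hb ≫ (M b).app k hb =
      (γ b).app k hb ≫ evAt G₀ (φ i b) τ (hτP b) (k.hom ≫ Theta.proj T) hτp ≫
        (atOriginAut G₀ h.1 b (φ i b)).inv.toNatTrans.app ((Over.map (Theta.proj T)).obj k) := by
    intro b hb
    rw [hM b hb]
    congr 1
    show evAt G₀ _ _ _ _ _ ≫ _ = _
    rw [evAt_congr G₀ (φ i b) _ (hτP b) _ _ hτp (by rw [hlift b hb]; exact hτe b)]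
  show ((γ true).app k _ ≫ (M true).app k _) ≫ _ = (γ false).app k _ ≫ (M false).app k _
  rw [hc true _, hc false _, ← Category.assoc ((γ true).app k _), key true _, ← Category.assoc ((γ false).app k _),
    key false _]
  refine (Category.assoc _ _ _).trans (congrArg (_ ≫ ·) ?_)
  show (atOriginAut G₀ h.1 true (φ i true)).inv.toNatTrans.app _ ≫
    (atOriginAut G₀ h.1 true (φ i true)).hom.toNatTrans.app _ ≫ _ = _
  have h1 : (atOriginAut G₀ h.1 true (φ i true)).inv.toNatTrans.app ((Over.map (Theta.proj T)).obj k) ≫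
      (atOriginAut G₀ h.1 true (φ i true)).hom.toNatTrans.app ((Over.map (Theta.proj T)).obj k) = 𝟙 _ :=
    congrArg (fun t => t.toNatTrans.app ((Over.map (Theta.proj T)).obj k)) (atOriginAut G₀ h.1 true (φ i true)).inv_hom_id
  exact (Category.assoc _ _ _).symm.trans ((congrArg (· ≫ _) h1).trans (Category.id_comp _))

theorem exists_formCls_of_triv {c : IsoNat.IsoCl 𝒳 (Theta.Co T n)} (hc : Triv h.1 (IsoNat.objCls G₀) c) :
    ∃ g, c = formCls G₀ h g := by
  obtain ⟨H, rfl⟩ := exists_chart h.1 c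
  have h1 : ∀ b, Nonempty (BasedFunctor.comp (AlgSt.overMap (Theta.incl T b)) H ≅
      BasedFunctor.comp (AlgSt.overMap (Theta.projX T)) G₀) := fun b => by
    apply exists_iso_of_objCls h.1
    rw [← pullC_objCls h.1, ← pullC_objCls h.1]; exact hc.1 b
  have h2 : ∀ i, Nonempty (BasedFunctor.comp (AlgSt.overMap (Theta.reC T (Theta.single i))) H ≅ GC G₀ 1) := fun i => by
    apply exists_iso_of_objCls h.1
    rw [← pullC_objCls h.1, ← pullC_objCls h.1]; exact hc.2 i
  obtain ⟨g, hg⟩ := exists_isForm_of_triv h (fun b => famOfTriv b (h1 b).some.hom) (fun i => (h2 i).some.hom)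
  exact ⟨g, objCls_of_isForm G₀ h hg⟩

end Recognition

end Groth.L11.IsoNat
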