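import Groth.Agent.L11.IsoNat.Basic
import Groth.Agent.L24.St.Compact
import Groth.Agent.L24.St.Chart

/-!
An isomorphism of presheaves of isomorphism classes identifies the spaces of points.
-/

set_option autoImplicit false
set_option backward.isDefEq.respectTransparency false
set_option backward.isDefEq.respectTransparency.types false

universe u

open CategoryTheory AlgebraicGeometry AlgSt

noncomputable section

namespace Groth.L11.IsoNat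

variable {S : Scheme.{u}} {𝒳 𝒴 : AlgSt.Cat S}

/-- A field-valued point as an object of the fibre over the spectrum. -/
def ptFib (p : FPt 𝒳) : 𝒳.p.Fiber (Over.mk p.str) := ⟨p.obj, p.lies⟩

/-- A chosen corresponding field-valued point. -/
def fptMap (φ : IsoNat.FIso 𝒳 𝒴) (p : FPt 𝒳) : FPt 𝒴 :=
  { K := p.K, str := p.str
    obj := (exists_fiber_corresp φ (ptFib p)).choose.1
    lies := (exists_fiber_corresp φ (ptFib p)).choose.2 }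

theorem fptMap_spec (φ : IsoNat.FIso 𝒳 𝒴) (p : FPt 𝒳) :
    φ.toEquiv _ (IsoNat.cls (ptFib p)) = IsoNat.cls (ptFib (fptMap φ p)) :=
  (exists_fiber_corresp φ (ptFib p)).choose_spec

theorem fptMap_hom (φ : IsoNat.FIso 𝒳 𝒴) (h𝒴 : FibCat.IsFibGrpd 𝒴.p) {r p : FPt 𝒳} (α : r.obj ⟶ p.obj) :
    Nonempty ((fptMap φ r).obj ⟶ (fptMap φ p).obj) := by
  let g : Over.mk r.str ⟶ Over.mk p.str := eqToHom r.lies.symm ≫ 𝒳.p.map α ≫ eqToHom p.lies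
  have : 𝒳.p.IsHomLift g α := IsHomLift.of_fac _ _ _ r.lies p.lies rfl
  obtain ⟨b, -⟩ := fIso_exists_lift φ h𝒴 g (x' := ptFib r) (x := ptFib p) α (fptMap_spec φ r) (fptMap_spec φ p)
  exact ⟨b⟩

/-- The map of spaces of points. -/
def ptsMap (φ : IsoNat.FIso 𝒳 𝒴) (h𝒴 : FibCat.IsFibGrpd 𝒴.p) : Points 𝒳 → Points 𝒴 :=
  Quot.lift (fun p => Points.mk (fptMap φ p)) fun p q ⟨r, α, β, _⟩ => by
    obtain ⟨a⟩ := fptMap_hom φ h𝒴 α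
    obtain ⟨b⟩ := fptMap_hom φ h𝒴 β
    exact Points.sound ⟨fptMap φ r, a, b, trivial⟩

theorem ptsMap_mk (φ : IsoNat.FIso 𝒳 𝒴) (h𝒴 : FibCat.IsFibGrpd 𝒴.p) (p : FPt 𝒳) :
    ptsMap φ h𝒴 (Points.mk p) = Points.mk (fptMap φ p) := rfl

theorem mk_eq_of_cls {p q : FPt 𝒳} (g : Over.mk p.str ⟶ Over.mk q.str) {q' : 𝒳.p.Fiber (Over.mk p.str)}
    (b : q'.1 ⟶ q.obj) (e : IsoNat.cls (ptFib p) = IsoNat.cls q') (_hb : 𝒳.p.IsHomLift g b) :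
    Points.mk p = Points.mk q := by
  obtain ⟨i⟩ := cls_eq_iff.1 e
  exact Groth.L24.St.mk_eq_of_hom (i.hom.1 ≫ b)

/-- Field points with corresponding classes. -/
theorem ptsMap_mk_of_cls (φ : IsoNat.FIso 𝒳 𝒴) (h𝒴 : FibCat.IsFibGrpd 𝒴.p) {K : Type u} [Field K]
    {w : Spec (CommRingCat.of K) ⟶ S} (x : 𝒳.p.Fiber (Over.mk w)) (y : 𝒴.p.Fiber (Over.mk w))
    (e : φ.toEquiv _ (IsoNat.cls x) = IsoNat.cls y) :
    ptsMap φ h𝒴 (Points.mk { K := K, str := w, obj := x.1, lies := x.2 }) =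
      Points.mk { K := K, str := w, obj := y.1, lies := y.2 } := by
  rw [ptsMap_mk]
  obtain ⟨i⟩ := cls_eq_iff.1 ((fptMap_spec φ { K := K, str := w, obj := x.1, lies := x.2 }).symm.trans e)
  exact Groth.L24.St.mk_eq_of_hom i.hom.1

theorem ptsMap_ofChart (φ : IsoNat.FIso 𝒳 𝒴) (h𝒴 : FibCat.IsFibGrpd 𝒴.p) {U : Over S}
    (x : FibCat.overCat U ⥤ᵇ 𝒳) (y : FibCat.overCat U ⥤ᵇ 𝒴)
    (hxy : φ.toEquiv U (IsoNat.objCls x) = IsoNat.objCls y) (t : ↥U.left) :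
    ptsMap φ h𝒴 (Points.ofChart x t) = Points.ofChart y t :=
  ptsMap_mk_of_cls φ h𝒴 _ _
    (fIso_atFib φ h𝒴 x y hxy (Over.homMk (U.left.fromSpecResidueField t) rfl :
      Over.mk (U.left.fromSpecResidueField t ≫ U.hom) ⟶ U))

theorem ptsMap_symm_left (φ : IsoNat.FIso 𝒳 𝒴) (h𝒳 : FibCat.IsFibGrpd 𝒳.p) (h𝒴 : FibCat.IsFibGrpd 𝒴.p)
    (x : Points 𝒳) : ptsMap (fIsoSymm φ h𝒳 h𝒴) h𝒳 (ptsMap φ h𝒴 x) = x := by
  obtain ⟨p, rfl⟩ := Points.mk_surjective x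
  rw [ptsMap_mk]
  exact ptsMap_mk_of_cls (fIsoSymm φ h𝒳 h𝒴) h𝒳 (ptFib (fptMap φ p)) (ptFib p)
    ((Equiv.symm_apply_eq _).2 (fptMap_spec φ p).symm)

theorem ptsMap_symm_right (φ : IsoNat.FIso 𝒳 𝒴) (h𝒳 : FibCat.IsFibGrpd 𝒳.p) (h𝒴 : FibCat.IsFibGrpd 𝒴.p)
    (y : Points 𝒴) : ptsMap φ h𝒴 (ptsMap (fIsoSymm φ h𝒳 h𝒴) h𝒳 y) = y := by
  obtain ⟨p, rfl⟩ := Points.mk_surjective y
  rw [ptsMap_mk]
  refine ptsMap_mk_of_cls φ h𝒴 (ptFib (fptMap (fIsoSymm φ h𝒳 h𝒴) p)) (ptFib p) ?_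
  rw [← fptMap_spec]
  exact Equiv.apply_symm_apply _ _

theorem continuous_ptsMap (φ : IsoNat.FIso 𝒳 𝒴) (h𝒴 : IsAlgStack Scheme.fppfPrecoverage 𝒴) :
    Continuous (ptsMap φ h𝒴.isStack.1) := by
  refine ⟨fun O hO U x _ => ?_⟩
  obtain ⟨y, hy⟩ := exists_chart h𝒴.isStack.1 (φ.toEquiv U (IsoNat.objCls x))
  have e : Points.ofChart x ⁻¹' (ptsMap φ h𝒴.isStack.1 ⁻¹' O) = Points.ofChart y ⁻¹' O := by
    ext t
    simp only [Set.mem_preimage, ptsMap_ofChart φ h𝒴.isStack.1 x y hy.symm t]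
  rw [e]
  exact hO.preimage (Groth.L24.St.continuous_ofChart h𝒴 y)

/-- The homeomorphism of spaces of points. -/
def ptsHomeo (φ : IsoNat.FIso 𝒳 𝒴) (h𝒳 : IsAlgStack Scheme.fppfPrecoverage 𝒳)
    (h𝒴 : IsAlgStack Scheme.fppfPrecoverage 𝒴) : Points 𝒳 ≃ₜ Points 𝒴 where
  toFun := ptsMap φ h𝒴.isStack.1
  invFun := ptsMap (fIsoSymm φ h𝒳.isStack.1 h𝒴.isStack.1) h𝒳.isStack.1
  left_inv := ptsMap_symm_left φ h𝒳.isStack.1 h𝒴.isStack.1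
  right_inv := ptsMap_symm_right φ h𝒳.isStack.1 h𝒴.isStack.1
  continuous_toFun := continuous_ptsMap φ h𝒴
  continuous_invFun := continuous_ptsMap _ h𝒳

variable {𝒳' 𝒴' : AlgSt.Cat S}

theorem ptsMap_comm {f : 𝒳 ⥤ᵇ 𝒴} {f' : 𝒳' ⥤ᵇ 𝒴'} (φ : IsoNat.FIsoSq f f') (h𝒳' : FibCat.IsFibGrpd 𝒳'.p)
    (h𝒴' : FibCat.IsFibGrpd 𝒴'.p) (x : Points 𝒳) :
    ptsMap φ.tgt h𝒴' (Points.map f x) = Points.map f' (ptsMap φ.src h𝒳' x) := by
  obtain ⟨p, rfl⟩ := Points.mk_surjective x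
  rw [ptsMap_mk, Points.map_mk, Points.map_mk]
  refine ptsMap_mk_of_cls φ.tgt h𝒴' (ptFib (p.map f)) (ptFib ((fptMap φ.src p).map f')) ?_
  have h := φ.comm _ (IsoNat.cls (ptFib p))
  rw [fptMap_spec φ.src p] at h
  exact h

end Groth.L11.IsoNat
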