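import Groth.Agent.L11.IsoNat.Charts
import Groth.Agent.L11.IsoNat.Classify
import Groth.Agent.L11.IsoNat.Points

/-!
Squares of charts correspond under isomorphisms of presheaves of isomorphism classes.
-/

set_option autoImplicit false

universe u

open CategoryTheory AlgebraicGeometry AlgSt Groth.L24.St

noncomputable section

namespace Groth.L11.IsoNat

variable {S : Scheme.{u}} {𝒳 𝒴 𝒳' 𝒴' : AlgSt.Cat S}

theorem surjective_ofChart_of_fIso (φ : IsoNat.FIso 𝒳 𝒴) (h𝒳 : IsAlgStack Scheme.fppfPrecoverage 𝒳)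
    (h𝒴 : IsAlgStack Scheme.fppfPrecoverage 𝒴) {U : Over S} {x : FibCat.overCat U ⥤ᵇ 𝒳}
    {y : FibCat.overCat U ⥤ᵇ 𝒴} (hxy : φ.toEquiv U (IsoNat.objCls x) = IsoNat.objCls y) (hy1 : RepByAlgSp1 y)
    (hx : RepByAlgSpWith AlgSp.IsSurjectiveMor x) : RepByAlgSpWith AlgSp.IsSurjectiveMor y := by
  refine repWith_surjective_of_isSurjective (overCat_isFibGrpd U) h𝒴.isStack.1 hy1 ((isSurjective_iff_ofChart _).2 fun p => ?_)
  obtain ⟨q, rfl⟩ := (ptsHomeo φ h𝒳 h𝒴).surjective p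
  obtain ⟨t, rfl⟩ := (isSurjective_iff_ofChart x).1
    (isSurjective_of_repWith (overCat_isFibGrpd U) h𝒳.isStack.1 hx) q
  exact ⟨t, (ptsMap_ofChart φ h𝒴.isStack.1 x y hxy t).symm⟩

theorem exists_square_of_fIsoSq {f : 𝒳 ⥤ᵇ 𝒴} {f' : 𝒳' ⥤ᵇ 𝒴'} (φ : IsoNat.FIsoSq f f')
    (h𝒴 : FibCat.IsFibGrpd 𝒴.p) (h𝒴' : FibCat.IsFibGrpd 𝒴'.p) {U V : Over S}
    {x : FibCat.overCat U ⥤ᵇ 𝒳} {y : FibCat.overCat V ⥤ᵇ 𝒴} {x' : FibCat.overCat U ⥤ᵇ 𝒳'}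
    {y' : FibCat.overCat V ⥤ᵇ 𝒴'} (hx : φ.src.toEquiv U (IsoNat.objCls x) = IsoNat.objCls x')
    (hy : φ.tgt.toEquiv V (IsoNat.objCls y) = IsoNat.objCls y') (h : U ⟶ V)
    (i : BasedFunctor.comp x f ≅ BasedFunctor.comp (AlgSt.overMap h) y) :
    Nonempty (BasedFunctor.comp x' f' ≅ BasedFunctor.comp (AlgSt.overMap h) y') := by
  refine exists_iso_of_objCls h𝒴' ?_
  calc IsoNat.objCls (BasedFunctor.comp x' f') = IsoNat.mapCls f' U (IsoNat.objCls x') := rfl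
    _ = φ.tgt.toEquiv U (IsoNat.mapCls f U (IsoNat.objCls x)) := by rw [φ.comm, hx]
    _ = φ.tgt.toEquiv U (IsoNat.objCls (BasedFunctor.comp x f)) := rfl
    _ = φ.tgt.toEquiv U (pullC h𝒴 h (IsoNat.objCls y)) := by rw [objCls_eq_of_iso i, pullC_objCls h𝒴]
    _ = pullC h𝒴' h (IsoNat.objCls y') := by rw [fIso_pullC φ.tgt h𝒴 h𝒴', hy]
    _ = _ := pullC_objCls h𝒴' h y'

end Groth.L11.IsoNat
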