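import Groth.Agent.L11.IsoNat.Transfer

/-!
Base change of forms over doubled axes.
-/

set_option autoImplicit false
set_option backward.isDefEq.respectTransparency false
set_option backward.isDefEq.respectTransparency.types false

universe u

open CategoryTheory CategoryTheory.Limits AlgebraicGeometry

noncomputable section

namespace Groth.L11.IsoNat

variable {S : Scheme.{u}} {𝒳 𝒴 : AlgSt.Cat S} {T T' : Over S} (f : T' ⟶ T) {n : ℕ}

namespace Theta

/-- Base change of the axes. -/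
def bX (n : ℕ) : Xo T' n ⟶ Xo T n :=
  Over.homMk (liftX T (pr1 T' ≫ f.left) (pr2 T')) (by
    show liftX T _ _ ≫ pr1 T ≫ T.hom = pr1 T' ≫ T'.hom
    rw [← Category.assoc, liftX_pr1, Category.assoc, Over.w f])

theorem bX_projX : bX f n ≫ projX T = projX T' ≫ f := Over.OverMorphism.ext (liftX_pr1 T _ _)

theorem bX_mem {i : Fin n} {x : ↥(Xs T' n)} (h : x ∈ vOpen T' i) : (bX f n).left x ∈ vOpen T i := by
  show x ∈ liftX T _ _ ⁻¹ᵁ vOpen T i
  rw [vOpen, ← Scheme.Hom.comp_preimage, liftX_pr2]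
  exact h

/-- Base change of the doubled axes. -/
def bC (n : ℕ) : Co T' n ⟶ Co T n :=
  Over.homMk (pushout.desc ((bX f n).left ≫ (incl T true).left) ((bX f n).left ≫ (incl T false).left) (by
      let j : Over.mk ((punct T' (n := n)).ι ≫ (Xo T' n).hom) ⟶ Xo T' n := Over.homMk (punct T' (n := n)).ι rfl
      exact congrArg CommaMorphism.left (incl_eq_of_mem T (j ≫ bX f n) (fun x => by
        obtain ⟨i, hi⟩ := TopologicalSpace.Opens.mem_iSup.1 x.2
        exact TopologicalSpace.Opens.mem_iSup.2 ⟨i, bX_mem f hi⟩))))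
    (by
      apply pushout.hom_ext
      · rw [pushout.inl_desc_assoc, Category.assoc]
        exact ((congrArg ((bX f n).left ≫ ·) (Over.w (incl T true))).trans (Over.w (bX f n))).trans
          (Over.w (incl T' true)).symm
      · rw [pushout.inr_desc_assoc, Category.assoc]
        exact ((congrArg ((bX f n).left ≫ ·) (Over.w (incl T false))).trans (Over.w (bX f n))).trans
          (Over.w (incl T' false)).symm)

theorem incl_bC (b : Bool) : incl T' b ≫ bC f n = bX f n ≫ incl T b := by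
  apply Over.OverMorphism.ext
  cases b
  · exact pushout.inr_desc _ _ _
  · exact pushout.inl_desc _ _ _

theorem bC_proj : bC f n ≫ proj T = proj T' ≫ f := by
  apply Over.OverMorphism.ext
  apply pushout.hom_ext
  · show pushout.inl _ _ ≫ (pushout.desc _ _ _ ≫ piS T) = pushout.inl _ _ ≫ piS T' ≫ f.left
    rw [pushout.inl_desc_assoc]
    exact ((Category.assoc _ _ _).trans (congrArg ((bX f n).left ≫ ·) (pushout.inl_desc _ _ _))).trans
      ((congrArg CommaMorphism.left (bX_projX f)).trans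
        ((congrArg (· ≫ f.left) (pushout.inl_desc _ _ _).symm).trans (Category.assoc _ _ _)))
  · show pushout.inr _ _ ≫ (pushout.desc _ _ _ ≫ piS T) = pushout.inr _ _ ≫ piS T' ≫ f.left
    rw [pushout.inr_desc_assoc]
    exact ((Category.assoc _ _ _).trans (congrArg ((bX f n).left ≫ ·) (pushout.inr_desc _ _ _))).trans
      ((congrArg CommaMorphism.left (bX_projX f)).trans
        ((congrArg (· ≫ f.left) (pushout.inr_desc _ _ _).symm).trans (Category.assoc _ _ _)))

theorem bC_P {b : Bool} {Q : Over S} {q : Q ⟶ Co T' n} (h : (cover T' n).P b q) : (cover T n).P b (q ≫ bC f n) := by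
  obtain ⟨k, rfl⟩ := h
  exact ⟨k ≫ bX f n, by rw [Category.assoc, Category.assoc, incl_bC]⟩

theorem bC_I {i : Fin n} {Q : Over S} {q : Q ⟶ Co T' n} (h : (cover T' n).I i q) :
    (cover T n).I i (q ≫ bC f n) := by
  obtain ⟨k, rfl⟩ := h
  obtain ⟨k', hk'⟩ := exists_fac_of_mem T ((k ≫ vIncl T' i) ≫ bX f n) (i := i) (fun x => bX_mem f (k.left x).2)
  refine ⟨k', ?_⟩
  rw [← Category.assoc, hk']
  simp only [Category.assoc, incl_bC]

end Theta

/-- Restriction of an automorphism of a chart. -/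
def resAut {G₀ : FibCat.overCat T ⥤ᵇ 𝒳} (g : Aut G₀) : Aut (BasedFunctor.comp (AlgSt.overMap f) G₀) :=
  Groth.L24.St.whiskerL (AlgSt.overMap f) g

@[simp] theorem resAut_app {G₀ : FibCat.overCat T ⥤ᵇ 𝒳} (g : Aut G₀) (k : Over T') :
    (resAut f g).hom.toNatTrans.app k = g.hom.toNatTrans.app ((Over.map f).obj k) := rfl

theorem aut_ext {G₀ : FibCat.overCat T ⥤ᵇ 𝒳} {g g' : Aut G₀}
    (h : ∀ k, g.hom.toNatTrans.app k = g'.hom.toNatTrans.app k) : g = g' :=
  Iso.ext (BasedNatTrans.ext _ _ (NatTrans.ext (funext h)))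

theorem resAut_one (G₀ : FibCat.overCat T ⥤ᵇ 𝒳) : resAut f (1 : Aut G₀) = 1 := aut_ext fun _ => rfl

theorem resAut_mul {G₀ : FibCat.overCat T ⥤ᵇ 𝒳} (g k : Aut G₀) :
    resAut f (g * k) = resAut f g * resAut f k := aut_ext fun _ => rfl

/-- The two ways of restricting a chart along composable morphisms. -/
def assocNat {A B E : Over S} (p : A ⟶ B) (q : B ⟶ E) (G : FibCat.overCat E ⥤ᵇ 𝒳) :
    BasedFunctor.comp (AlgSt.overMap (p ≫ q)) G ⟶
      BasedFunctor.comp (AlgSt.overMap p) (BasedFunctor.comp (AlgSt.overMap q) G) where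
  toNatTrans :=
    { app := fun k => G.map (mapMapIso p q (p ≫ q) rfl k).inv
      naturality := fun k l r => by
        refine (G.toFunctor.map_comp _ _).symm.trans (Eq.trans ?_ (G.toFunctor.map_comp _ _))
        exact congrArg (fun t => G.map t) (by
          apply Over.OverMorphism.ext
          show r.left ≫ 𝟙 _ = 𝟙 _ ≫ r.left
          rw [Category.comp_id, Category.id_comp]) }
  isHomLift' k := lift_map G (mapMapIso p q (p ≫ q) rfl k).inv

theorem isForm_base {G₀ : FibCat.overCat T ⥤ᵇ 𝒳} {g : Fin n → Aut G₀} {H : FibCat.overCat (Theta.Co T n) ⥤ᵇ 𝒳}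
    (hH : IsForm G₀ g H) :
    IsForm (BasedFunctor.comp (AlgSt.overMap f) G₀) (fun i => resAut f (g i))
      (BasedFunctor.comp (AlgSt.overMap (Theta.bC f n)) H) := by
  obtain ⟨γ, hγ⟩ := hH
  refine ⟨fun b => (pullFam (Theta.bC f n) (Theta.proj T) (Theta.proj T' ≫ f) (Theta.bC_proj f)
    ((Theta.cover T' n).P b) (fun q hq => Theta.bC_P f hq) (γ b)).comp
      (Fam.ofNat _ (assocNat (Theta.proj T') f G₀)), fun i k hk => ?_⟩
  have h1 := pullFam_rel (Theta.bC f n) (Theta.proj T) (Theta.proj T' ≫ f) (Theta.bC_proj f)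
      (fun q hq => Theta.bC_P f hq) (fun q hq => Theta.bC_P f hq)
      ((Theta.cover T n).I i) ((Theta.cover T' n).I i) (fun q hq => Theta.bC_I f hq)
      ((Theta.cover T n).le i true) ((Theta.cover T n).le i false) (γ true) (γ false) (g i)
      (hγ i) k hk ((Theta.cover T' n).le i true _ hk) ((Theta.cover T' n).le i false _ hk)
  show (_ ≫ G₀.map _) ≫ (g i).hom.toNatTrans.app _ = _ ≫ G₀.map _
  exact (Category.assoc _ _ _).trans ((congrArg (_ ≫ ·) ((g i).hom.toNatTrans.naturality _)).trans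
    ((Category.assoc _ _ _).symm.trans (congrArg (· ≫ _) h1)))

theorem pullC_formCls_base (h : Stk.IsStack (AlgSp.J S) 𝒳) (G₀ : FibCat.overCat T ⥤ᵇ 𝒳) (g : Fin n → Aut G₀) :
    pullC h.1 (Theta.bC f n) (formCls G₀ h g) =
      formCls (BasedFunctor.comp (AlgSt.overMap f) G₀) h (fun i => resAut f (g i)) := by
  rw [formCls, pullC_objCls]
  exact objCls_of_isForm _ h (isForm_base f (exists_isForm G₀ h g).choose_spec)

theorem formCls_one (h : Stk.IsStack (AlgSp.J S) 𝒳) (G₀ : FibCat.overCat T ⥤ᵇ 𝒳) :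
    formCls G₀ h (fun _ : Fin n => (1 : Aut G₀)) = pullC h.1 (Theta.proj T) (IsoNat.objCls G₀) := by
  rw [pullC_objCls]
  refine (objCls_of_isForm G₀ h (H := GC G₀ n) ⟨fun b => Fam.ofNat _ (𝟙 (GC G₀ n)), fun j k hk => ?_⟩).symm
  show 𝟙 _ ≫ 𝟙 _ = 𝟙 _
  exact Category.id_comp _

/-- Injectivity of restriction of automorphisms is detected by classes. -/
theorem resAut_injective_transfer (φ : IsoNat.FIso 𝒳 𝒴) (hX : Good 𝒳) (hY : Good 𝒴) {G₀ : FibCat.overCat T ⥤ᵇ 𝒳}
    {G₀' : FibCat.overCat T ⥤ᵇ 𝒴} (h₀ : φ.toEquiv T (IsoNat.objCls G₀) = IsoNat.objCls G₀')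
    (hinj : ∀ g : Aut G₀, resAut f g = 1 → g = 1) (g' : Aut G₀') (hg' : resAut f g' = 1) : g' = 1 := by
  obtain ⟨s, hs⟩ := exists_corr_inv (hX := hX) (hY := hY) h₀ ![1, g']
  have h₁ : φ.toEquiv T' (IsoNat.objCls (BasedFunctor.comp (AlgSt.overMap f) G₀)) =
      IsoNat.objCls (BasedFunctor.comp (AlgSt.overMap f) G₀') := by
    rw [← pullC_objCls hX.st.1, ← pullC_objCls hY.st.1, fIso_pullC φ hX.st.1 hY.st.1, h₀]
  have h2 : (fun i => resAut f (![1, g'] i)) = fun _ : Fin 2 => (1 : Aut (BasedFunctor.comp (AlgSt.overMap f) G₀')) := by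
    funext i
    fin_cases i
    · exact resAut_one f G₀'
    · exact hg'
  have e : pullC hX.st.1 (Theta.bC f 2) (formCls G₀ hX.st s) =
      formCls (BasedFunctor.comp (AlgSt.overMap f) G₀) hX.st (fun _ : Fin 2 => 1) := by
    apply (φ.toEquiv _).injective
    rw [fIso_pullC φ hX.st.1 hY.st.1, hs, pullC_formCls_base, h2, formCls_one, formCls_one,
      fIso_pullC φ hX.st.1 hY.st.1, h₁]
  rw [pullC_formCls_base] at e
  obtain ⟨a, b, hab⟩ := (formCls_eq_iff _ hX.st hX.diag _ _).1 e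
  have h01 : resAut f (s 0) = resAut f (s 1) := mul_left_cancel ((hab 0).symm.trans (hab 1))
  have hs1 : (s 0)⁻¹ * s 1 = 1 := hinj _ (by
    apply mul_left_cancel (a := resAut f (s 0))
    rw [← resAut_mul, mul_inv_cancel_left, mul_one, h01])
  have hs' : ∃ a b : Aut G₀, ∀ i, (1 : Aut G₀) * a = b * s i :=
    ⟨1, (s 0)⁻¹, fun i => by
      fin_cases i
      · simp
      · simpa using hs1.symm⟩
  have ht : Corr φ hX hY G₀ G₀' (fun _ : Fin 2 => (1 : Aut G₀)) (fun _ => 1) := by
    show φ.toEquiv _ _ = _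
    rw [formCls_one, formCls_one, fIso_pullC φ hX.st.1 hY.st.1, h₀]
  obtain ⟨a', b', e'⟩ := (Corr.rel hs ht).1 hs'
  have f0 : a' = b' := by simpa using e' 0
  subst f0
  exact (mul_left_cancel (a := a') (b := g') (c := 1) (by simpa using (e' 1).symm))

end Groth.L11.IsoNat
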