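import Groth.Prelude.Def_W4c2isonaturalstkIso
import Groth.Agent.L09.FibBasic
import Groth.Agent.L24.St.Calc
import Groth.Agent.L24.St.Yoneda
import Mathlib.CategoryTheory.Groupoid

/-!
Categories fibred in groupoids and isomorphisms of their presheaves of isomorphism classes.
-/

set_option autoImplicit false
set_option backward.isDefEq.respectTransparency false
set_option backward.isDefEq.respectTransparency.types false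

universe u

open CategoryTheory AlgebraicGeometry

namespace Groth.L11.IsoNat

variable {S : Scheme.{u}} {𝒳 𝒴 : AlgSt.Cat S} {T T' T'' : Over S}

theorem cls_eq_iff {x y : 𝒳.p.Fiber T} : IsoNat.cls x = IsoNat.cls y ↔ Nonempty (x ≅ y) :=
  ⟨fun h => Quotient.exact h, fun h => Quotient.sound h⟩

theorem cls_surjective (c : IsoNat.IsoCl 𝒳 T) : ∃ x : 𝒳.p.Fiber T, IsoNat.cls x = c :=
  Quotient.exists_rep c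

instance lift_hom {x y : 𝒳.p.Fiber T} (φ : x ⟶ y) : 𝒳.p.IsHomLift (𝟙 T) φ.1 := φ.2

/-- A morphism of the fibre category from a morphism over the identity. -/
abbrev mkHom {x y : 𝒳.p.Fiber T} (φ : x.1 ⟶ y.1) [h : 𝒳.p.IsHomLift (𝟙 T) φ] : x ⟶ y := ⟨φ, h⟩

@[simp] theorem comp_val {x y z : 𝒳.p.Fiber T} (φ : x ⟶ y) (ψ : y ⟶ z) : (φ ≫ ψ).1 = φ.1 ≫ ψ.1 := rfl
@[simp] theorem id_val (x : 𝒳.p.Fiber T) : (𝟙 x : x ⟶ x).1 = 𝟙 x.1 := rfl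

theorem isIso_fiberHom (h : FibCat.IsFibGrpd 𝒳.p) {x y : 𝒳.p.Fiber T} (φ : x ⟶ y) : IsIso φ :=
  (L09.Fib.isGroupoid_fiber_of_isFibGrpd _ h T).all_isIso φ

/-- A morphism of the fibre category of a category fibred in groupoids, as an isomorphism. -/
noncomputable def fiberIso (h : FibCat.IsFibGrpd 𝒳.p) {x y : 𝒳.p.Fiber T} (φ : x ⟶ y) : x ≅ y :=
  have := isIso_fiberHom h φ
  asIso φ

@[simp] theorem fiberIso_hom (h : FibCat.IsFibGrpd 𝒳.p) {x y : 𝒳.p.Fiber T} (φ : x ⟶ y) :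
    (fiberIso h φ).hom = φ := rfl

theorem exists_pullback (h : FibCat.IsFibGrpd 𝒳.p) (g : T' ⟶ T) (x : 𝒳.p.Fiber T) :
    ∃ (x' : 𝒳.p.Fiber T') (a : x'.1 ⟶ x.1), 𝒳.p.IsHomLift g a := by
  obtain ⟨x, rfl⟩ := x
  obtain ⟨y, φ, hφ⟩ := h.exists_lift g
  exact ⟨⟨y, IsHomLift.domain_eq 𝒳.p g φ⟩, φ, hφ⟩

theorem exists_factor (h : FibCat.IsFibGrpd 𝒳.p) (g : T' ⟶ T) {x'' : 𝒳.p.Fiber T''} {x' : 𝒳.p.Fiber T'}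
    {x : 𝒳.p.Fiber T} (a : x'.1 ⟶ x.1) [𝒳.p.IsHomLift g a] (k : T'' ⟶ T') (c : x''.1 ⟶ x.1)
    [𝒳.p.IsHomLift (k ≫ g) c] :
    ∃ m : x''.1 ⟶ x'.1, 𝒳.p.IsHomLift k m ∧ m ≫ a = c := by
  have := L09.Fib.stronglyCartesian_of_isFibGrpd _ h g a
  obtain ⟨m, ⟨hm, he⟩, -⟩ := Functor.IsStronglyCartesian.universal_property 𝒳.p g a k (k ≫ g) rfl c
  exact ⟨m, hm, he⟩

theorem exists_factor₁ (h : FibCat.IsFibGrpd 𝒳.p) (g : T' ⟶ T) {x'' : 𝒳.p.Fiber T'} {x' : 𝒳.p.Fiber T'}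
    {x : 𝒳.p.Fiber T} (a : x'.1 ⟶ x.1) [𝒳.p.IsHomLift g a] (c : x''.1 ⟶ x.1) [𝒳.p.IsHomLift g c] :
    ∃ m : x'' ⟶ x', m.1 ≫ a = c := by
  have : 𝒳.p.IsHomLift (𝟙 T' ≫ g) c := by rwa [Category.id_comp]
  obtain ⟨m, hm, he⟩ := exists_factor h g a (𝟙 T') c
  exact ⟨mkHom m, he⟩

theorem lift_ext (h : FibCat.IsFibGrpd 𝒳.p) (g : T' ⟶ T) {x'' : 𝒳.p.Fiber T''} {x' : 𝒳.p.Fiber T'}
    {x : 𝒳.p.Fiber T} (a : x'.1 ⟶ x.1) [𝒳.p.IsHomLift g a] (k : T'' ⟶ T') {m m' : x''.1 ⟶ x'.1}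
    [𝒳.p.IsHomLift k m] [𝒳.p.IsHomLift k m'] (e : m ≫ a = m' ≫ a) : m = m' := by
  have := L09.Fib.stronglyCartesian_of_isFibGrpd _ h g a
  exact Functor.IsStronglyCartesian.ext 𝒳.p g a k e

theorem fiber_ext (h : FibCat.IsFibGrpd 𝒳.p) (g : T' ⟶ T) {x'' x' : 𝒳.p.Fiber T'} {x : 𝒳.p.Fiber T}
    (a : x'.1 ⟶ x.1) [𝒳.p.IsHomLift g a] {m m' : x'' ⟶ x'} (e : m.1 ≫ a = m'.1 ≫ a) : m = m' :=
  Functor.Fiber.hom_ext (lift_ext h g a (𝟙 T') (m := m.1) (m' := m'.1) e)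

theorem cls_eq_of_lifts (h : FibCat.IsFibGrpd 𝒳.p) (g : T' ⟶ T) {x₁' x₂' : 𝒳.p.Fiber T'} {x₁ x₂ : 𝒳.p.Fiber T}
    (a₁ : x₁'.1 ⟶ x₁.1) [𝒳.p.IsHomLift g a₁] (a₂ : x₂'.1 ⟶ x₂.1) [𝒳.p.IsHomLift g a₂]
    (e : IsoNat.cls x₁ = IsoNat.cls x₂) : IsoNat.cls x₁' = IsoNat.cls x₂' := by
  obtain ⟨i⟩ := cls_eq_iff.1 e
  have : 𝒳.p.IsHomLift g (a₁ ≫ i.hom.1) := by
    have := IsHomLift.comp 𝒳.p g (𝟙 T) a₁ i.hom.1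
    rwa [Category.comp_id] at this
  obtain ⟨m, -⟩ := exists_factor₁ h g a₂ (a₁ ≫ i.hom.1)
  exact cls_eq_iff.2 ⟨fiberIso h m⟩

theorem exists_lift_of_cls (h : FibCat.IsFibGrpd 𝒳.p) (g : T' ⟶ T) {x' y' : 𝒳.p.Fiber T'} {x y : 𝒳.p.Fiber T}
    (a : x'.1 ⟶ x.1) [𝒳.p.IsHomLift g a] (e' : IsoNat.cls x' = IsoNat.cls y') (e : IsoNat.cls x = IsoNat.cls y) :
    ∃ b : y'.1 ⟶ y.1, 𝒳.p.IsHomLift g b := by
  obtain ⟨i'⟩ := cls_eq_iff.1 e'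
  obtain ⟨i⟩ := cls_eq_iff.1 e
  refine ⟨i'.inv.1 ≫ a ≫ i.hom.1, ?_⟩
  have h1 := IsHomLift.comp 𝒳.p g (𝟙 T) a i.hom.1
  rw [Category.comp_id] at h1
  have h2 := IsHomLift.comp 𝒳.p (𝟙 T') g i'.inv.1 (a ≫ i.hom.1)
  rwa [Category.id_comp] at h2

/-- Compatibility of an isomorphism of class presheaves with pullbacks. -/
theorem fIso_natural (φ : IsoNat.FIso 𝒳 𝒴) (h𝒴 : FibCat.IsFibGrpd 𝒴.p) (g : T' ⟶ T) {x' : 𝒳.p.Fiber T'}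
    {x : 𝒳.p.Fiber T} (a : x'.1 ⟶ x.1) [ha : 𝒳.p.IsHomLift g a] {y' : 𝒴.p.Fiber T'} {y : 𝒴.p.Fiber T}
    (b : y'.1 ⟶ y.1) [𝒴.p.IsHomLift g b] (e : φ.toEquiv T (IsoNat.cls x) = IsoNat.cls y) :
    φ.toEquiv T' (IsoNat.cls x') = IsoNat.cls y' := by
  obtain ⟨y₁', y₁, b₁, hb₁, e', e₁⟩ := φ.natural g x' x a ha
  rw [e']
  exact cls_eq_of_lifts h𝒴 g b₁ b (e₁.symm.trans e)

theorem fIso_exists_lift (φ : IsoNat.FIso 𝒳 𝒴) (h𝒴 : FibCat.IsFibGrpd 𝒴.p) (g : T' ⟶ T) {x' : 𝒳.p.Fiber T'}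
    {x : 𝒳.p.Fiber T} (a : x'.1 ⟶ x.1) [ha : 𝒳.p.IsHomLift g a] {y' : 𝒴.p.Fiber T'} {y : 𝒴.p.Fiber T}
    (e' : φ.toEquiv T' (IsoNat.cls x') = IsoNat.cls y') (e : φ.toEquiv T (IsoNat.cls x) = IsoNat.cls y) :
    ∃ b : y'.1 ⟶ y.1, 𝒴.p.IsHomLift g b := by
  obtain ⟨y₁', y₁, b₁, hb₁, e₁', e₁⟩ := φ.natural g x' x a ha
  exact exists_lift_of_cls h𝒴 g b₁ (e₁'.symm.trans e') (e₁.symm.trans e)

/-- The inverse of an isomorphism of class presheaves. -/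
noncomputable def fIsoSymm (φ : IsoNat.FIso 𝒳 𝒴) (h𝒳 : FibCat.IsFibGrpd 𝒳.p) (h𝒴 : FibCat.IsFibGrpd 𝒴.p) :
    IsoNat.FIso 𝒴 𝒳 where
  toEquiv T := (φ.toEquiv T).symm
  natural {T' T} g y' y b hb := by
    obtain ⟨x, hx⟩ := cls_surjective ((φ.toEquiv T).symm (IsoNat.cls y))
    obtain ⟨x', a, ha⟩ := exists_pullback h𝒳 g x
    have e : φ.toEquiv T (IsoNat.cls x) = IsoNat.cls y := by rw [hx, Equiv.apply_symm_apply]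
    exact ⟨x', x, a, ha, (Equiv.symm_apply_eq _).2 (fIso_natural φ h𝒴 g a b e).symm, hx.symm⟩

@[simp] theorem fIsoSymm_toEquiv (φ : IsoNat.FIso 𝒳 𝒴) (h𝒳 : FibCat.IsFibGrpd 𝒳.p) (h𝒴 : FibCat.IsFibGrpd 𝒴.p)
    (T : Over S) : (fIsoSymm φ h𝒳 h𝒴).toEquiv T = (φ.toEquiv T).symm := rfl

theorem exists_fiber_corresp (φ : IsoNat.FIso 𝒳 𝒴) (x : 𝒳.p.Fiber T) :
    ∃ y : 𝒴.p.Fiber T, φ.toEquiv T (IsoNat.cls x) = IsoNat.cls y :=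
  ⟨_, (cls_surjective _).choose_spec.symm⟩

/-- The object over the identity of a chart. -/
def objFib {U : Over S} (x : FibCat.overCat U ⥤ᵇ 𝒳) : 𝒳.p.Fiber U :=
  ⟨x.obj (Over.mk (𝟙 U)), x.w_obj (Over.mk (𝟙 U))⟩

theorem objCls_eq {U : Over S} (x : FibCat.overCat U ⥤ᵇ 𝒳) : IsoNat.objCls x = IsoNat.cls (objFib x) := rfl

/-- The object of a chart over an arrow into it. -/
def atFib {U : Over S} (x : FibCat.overCat U ⥤ᵇ 𝒳) (g : T ⟶ U) : 𝒳.p.Fiber T :=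
  ⟨x.obj (Over.mk g), x.w_obj (Over.mk g)⟩

theorem atFib_lift {U : Over S} (x : FibCat.overCat U ⥤ᵇ 𝒳) (g : T ⟶ U) :
    ∃ a : (atFib x g).1 ⟶ (objFib x).1, 𝒳.p.IsHomLift g a := by
  let t : Over.mk g ⟶ Over.mk (𝟙 U) := Over.homMk g (Category.comp_id g)
  have : (FibCat.overCat U).p.IsHomLift g t := IsHomLift.map (FibCat.overCat U).p t
  exact ⟨x.map t, inferInstanceAs (𝒳.p.IsHomLift g (x.toFunctor.map t))⟩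

theorem exists_chart (h : FibCat.IsFibGrpd 𝒳.p) {U : Over S} (c : IsoNat.IsoCl 𝒳 U) :
    ∃ x : FibCat.overCat U ⥤ᵇ 𝒳, IsoNat.objCls x = c := by
  obtain ⟨z, rfl⟩ := cls_surjective c
  obtain ⟨G, φ, hφ⟩ := Groth.L24.St.exists_overCat_functor h z.1 z.2
  refine ⟨G, cls_eq_iff.2 ⟨?_⟩⟩
  have : 𝒳.p.IsHomLift (𝟙 U) φ.hom := hφ.lift (G.w_obj _)
  exact fiberIso h ⟨φ.hom, this⟩

theorem fIso_atFib (φ : IsoNat.FIso 𝒳 𝒴) (h𝒴 : FibCat.IsFibGrpd 𝒴.p) {U : Over S} (x : FibCat.overCat U ⥤ᵇ 𝒳)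
    (y : FibCat.overCat U ⥤ᵇ 𝒴) (hxy : φ.toEquiv U (IsoNat.objCls x) = IsoNat.objCls y) (g : T ⟶ U) :
    φ.toEquiv T (IsoNat.cls (atFib x g)) = IsoNat.cls (atFib y g) := by
  obtain ⟨a, ha⟩ := atFib_lift x g
  obtain ⟨b, hb⟩ := atFib_lift y g
  exact fIso_natural φ h𝒴 g a b hxy

/-- The map of fibres of a functor. -/
theorem mapCls_cls (f : 𝒳 ⥤ᵇ 𝒴) (x : 𝒳.p.Fiber T) :
    IsoNat.mapCls f T (IsoNat.cls x) = IsoNat.cls (⟨f.obj x.1, (f.w_obj x.1).trans x.2⟩ : 𝒴.p.Fiber T) := rfl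

end Groth.L11.IsoNat
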