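import Groth.Agent.L11.IsoNat.Smooth
import Groth.Agent.L24.LocQ.RepDescent

/-!
Smooth charts correspond under isomorphisms of presheaves of isomorphism classes.
-/

set_option autoImplicit false
set_option backward.isDefEq.respectTransparency false
set_option backward.isDefEq.respectTransparency.types false

universe u

open CategoryTheory CategoryTheory.Limits AlgebraicGeometry Opposite Groth.L24.St

noncomputable section

namespace Groth.L11.IsoNat

variable {S : Scheme.{u}} {𝒳 𝒴 : AlgSt.Cat S} {U V : Over S}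

theorem map_a {v : FibCat.overCat V ⥤ᵇ 𝒳} {f : FibCat.overCat U ⥤ᵇ 𝒳} (R : FpRep v f) {T : Over S}
    (l : (AlgSp.yon S).obj T ⟶ R.F.obj) :
    l ≫ AlgSt.spMapOfOver (BasedFunctor.comp (BasedFunctor.comp R.e fpSwap) (FibCat.fpFst f v)) =
      (AlgSp.yon S).map (R.pt l).a := by
  obtain ⟨i, hi⟩ := R.pt_ptOf l
  apply (AlgSp.J S).uliftYonedaEquiv.injective
  rw [GrothendieckTopology.uliftYonedaEquiv_comp, GrothendieckTopology.uliftYonedaEquiv_uliftYoneda_map]
  let j := i.hom.hom.snd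
  have hj : OverId j := overId_of_lift (L09.Fib.fp_snd_lift (𝟙 T) i.hom (hi.lift rfl))
  obtain ⟨he, hm⟩ := hj.eq
  have hw := Over.w j
  rw [show j.left = eqToHom he from hm] at hw
  exact congrArg ULift.up hw

theorem repWith_fpFst_of_prop {P : MorphismProperty (AlgSp.Sp S)} (hB : PBase P) {v : FibCat.overCat V ⥤ᵇ 𝒳}
    {f : FibCat.overCat U ⥤ᵇ 𝒳} (R : FpRep v f) (h : P R.d) :
    AlgSt.RepByAlgSpWith P (FibCat.fpFst v f) :=
  (repWith_precomp R.he _).1 ((repWith_congr (overFactor _)).2 ((repWith_postcomp (toOverCat_isEquivOver V) _).2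
    (repWith_ofSpMap_of_prop hB R.F.property (AlgSp.IsAlgSpace.yon_obj V) R.d h)))

theorem repWith_smooth_of_fIso (φ : IsoNat.FIso 𝒳 𝒴) (h𝒳 : FibCat.IsFibGrpd 𝒳.p)
    (h𝒴 : AlgSt.IsAlgStack Scheme.fppfPrecoverage 𝒴)
    {P : MorphismProperty (AlgSp.Sp S)} (hd : AlgSt.RepByAlgSpWith P (FibCat.diag (FibCat.toSelf 𝒴)))
    (hI : AlgSt.RepByAlgSpWith (AlgSp.LocP @LocallyOfFinitePresentation)
      (FibCat.inertiaToBase (FibCat.toSelf 𝒴)))
    {x : FibCat.overCat U ⥤ᵇ 𝒳} {y : FibCat.overCat U ⥤ᵇ 𝒴}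
    (hxy : φ.toEquiv U (IsoNat.objCls x) = IsoNat.objCls y)
    (hx : AlgSt.RepByAlgSpWith (AlgSp.LocP @Smooth) x) :
    AlgSt.RepByAlgSpWith (AlgSp.LocP @Smooth) y := by
  have hg := h𝒴.isStack.1
  have hlfp : AlgSt.RepByAlgSpWith (AlgSp.LocP @LocallyOfFinitePresentation) y :=
    repWith_lfp_of_fIso φ h𝒳 hg hd hI hxy (repWith_mono (fun _ _ _ _ h => Groth.L23.locP_mono
      (fun g (hh : Smooth g) => have := hh; (inferInstance : LocallyOfFinitePresentation g)) h) hx)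
  obtain ⟨V, v, hv, hvs⟩ := h𝒴.atlas
  obtain ⟨R, hR⟩ := exists_fpRep hg hlfp v
  have hd' : AlgSp.LocP @Smooth
      (AlgSt.spMapOfOver (BasedFunctor.comp (BasedFunctor.comp R.e fpSwap) (FibCat.fpFst y v))) :=
    Wit.prop_of_equiv (fun _ _ _ _ i _ a => locP_precomp_iso _ i a) (hv U y) R.F.property _
      (isEquivOver_comp R.he fpSwap_isEquivOver)
  obtain ⟨W₂, a₂, ha₂, has₂⟩ := R.F.property.atlas
  have hρ : Smooth (R.pt a₂).a.left :=
    hd' a₂ (𝟙 _) (R.pt a₂).a ha₂ (AlgSp.repWith_id _ U) (by rw [Category.comp_id]; exact map_a R a₂)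
  have hψ : LocallyOfFinitePresentation (R.pt a₂).b.left :=
    hR a₂ (𝟙 _) (R.pt a₂).b ha₂ (AlgSp.repWith_id _ V) (by rw [Category.comp_id]; exact R.map_b a₂)
  have hsm : Smooth (R.pt a₂).b.left := (Groth.Agent.S1488.result _).2
    ⟨hψ, formallySmoothHom_chart φ h𝒳 hg hxy hx R ha₂ hρ⟩
  have hloc : AlgSp.LocP @Smooth R.d :=
    Groth.L23.locP_of_chart Groth.L23.etLocal_smooth ha₂ has₂ (AlgSp.repWith_id _ V) (h := (R.pt a₂).b)
      (by rw [Category.comp_id]; exact R.map_b a₂) hsm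
  exact repWith_of_fpFst_cover hasAtlasCovers_fppf (pBase_locP Groth.L23.etLocal_smooth)
    (isLocalOnBase_locP_fppf Groth.L23.etLocal_smooth) (fun _ _ _ h => h) (overCat_isFibGrpd U) hg
    (overCat_isFibGrpd V) (repWith_rep1 hlfp)
    (repWith_mono (fun _ _ _ _ h => Groth.L23.locP_mono (fun g (hh : Smooth g) => have := hh; (inferInstance : Flat g)) h) hv)
    (repWith_mono (fun _ _ _ _ h => Groth.L23.locP_mono
      (fun g (hh : Smooth g) => have := hh; (inferInstance : LocallyOfFinitePresentation g)) h) hv)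
    hvs (repWith_fpFst_of_prop (pBase_locP Groth.L23.etLocal_smooth) R hloc)

end Groth.L11.IsoNat
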