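import Groth.Agent.L11.IsoNat.Transfer
import Groth.Agent.L24.St.MonoLocal
import Mathlib.AlgebraicGeometry.Limits

/-!
Clean objects and separatedness of the presheaf of isomorphism classes.
-/

set_option autoImplicit false
set_option backward.isDefEq.respectTransparency false
set_option backward.isDefEq.respectTransparency.types false

universe u

open CategoryTheory CategoryTheory.Limits AlgebraicGeometry

noncomputable section

namespace Groth.L11.IsoNat

variable {S : Scheme.{u}} {𝒳 𝒴 : AlgSt.Cat S}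

/-- Separatedness of the presheaf of isomorphism classes. -/
def ClsSep (𝒳 : AlgSt.Cat S) : Prop :=
  ∀ (T T' : Over S) (π : T' ⟶ T) [Flat π.left] [Surjective π.left] [LocallyOfFinitePresentation π.left]
    (x₁ x₂ : 𝒳.p.Fiber T) (x₁' x₂' : 𝒳.p.Fiber T') (a₁ : x₁'.1 ⟶ x₁.1) (a₂ : x₂'.1 ⟶ x₂.1),
    𝒳.p.IsHomLift π a₁ → 𝒳.p.IsHomLift π a₂ → Nonempty (x₁' ≅ x₂') → Nonempty (x₁ ≅ x₂)

theorem clsSep_of_fIso (φ : IsoNat.FIso 𝒳 𝒴) (h𝒳 : FibCat.IsFibGrpd 𝒳.p) (h𝒴 : FibCat.IsFibGrpd 𝒴.p)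
    (h : ClsSep 𝒳) : ClsSep 𝒴 := by
  intro T T' π _ _ _ y₁ y₂ y₁' y₂' b₁ b₂ hb₁ hb₂ e
  let ψ := fIsoSymm φ h𝒳 h𝒴
  obtain ⟨x₁', x₁, a₁, ha₁, f₁', f₁⟩ := ψ.natural π y₁' y₁ b₁ hb₁
  obtain ⟨x₂', x₂, a₂, ha₂, f₂', f₂⟩ := ψ.natural π y₂' y₂ b₂ hb₂
  have e' : IsoNat.cls x₁' = IsoNat.cls x₂' := by rw [← f₁', ← f₂', cls_eq_iff.2 e]
  have := h T T' π x₁ x₂ x₁' x₂' a₁ a₂ ha₁ ha₂ (cls_eq_iff.1 e')
  exact cls_eq_iff.1 ((ψ.toEquiv T).injective (by rw [f₁, f₂, cls_eq_iff.2 this]))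

/-- Two parallel lifts agree if there are no automorphisms. -/
theorem lift_unique (h : FibCat.IsFibGrpd 𝒳.p) (hc : ∀ η : 𝒳.obj, IsoNat.IsClean η) {V W : Over S} (g : V ⟶ W)
    {x y : 𝒳.obj} (a b : x ⟶ y) [𝒳.p.IsHomLift g a] [𝒳.p.IsHomLift g b] : a = b := by
  have hd := IsHomLift.domain_eq 𝒳.p g a
  subst hd
  have := L09.Fib.stronglyCartesian_of_isFibGrpd _ h g b
  let c := Functor.IsCartesian.map 𝒳.p g b a
  have hcl : 𝒳.p.IsHomLift (𝟙 (𝒳.p.obj x)) c := Functor.IsCartesian.map_isHomLift _ _ _ _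
  have h1 : 𝒳.p.map c = 𝟙 (𝒳.p.obj x) := by
    have := IsHomLift.fac' 𝒳.p (𝟙 (𝒳.p.obj x)) c
    simpa using this
  have : c = 𝟙 x := hc x x (𝟙 x) c h1
  calc a = c ≫ b := (Functor.IsCartesian.fac _ _ _ _).symm
    _ = b := by rw [this, Category.id_comp]

theorem isClean_of_setoid (h : FibCat.IsFibSetoid 𝒳.p) (η : 𝒳.obj) : IsoNat.IsClean η := by
  intro x _ s hs
  have h1 : 𝒳.p.IsHomLift (𝟙 (𝒳.p.obj x)) s := IsHomLift.of_fac 𝒳.p _ _ rfl rfl (by simp [hs])
  have h2 : 𝒳.p.IsHomLift (𝟙 (𝒳.p.obj x)) (𝟙 x) := IsHomLift.id rfl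
  have := (h.2 (𝒳.p.obj x) ⟨x, rfl⟩ ⟨x, rfl⟩).elim (⟨s, h1⟩) (⟨𝟙 x, h2⟩)
  exact congrArg Subtype.val this

theorem isFibSetoid_of_isClean (h : FibCat.IsFibGrpd 𝒳.p) (hc : ∀ η : 𝒳.obj, IsoNat.IsClean η) :
    FibCat.IsFibSetoid 𝒳.p :=
  ⟨h, fun U x y => ⟨fun a b => Subtype.ext (by
    have := a.2; have := b.2
    exact lift_unique h hc (𝟙 U) a.1 b.1)⟩⟩

theorem clsSep_of_isClean (h : Stk.IsStack (AlgSp.J S) 𝒳) (hc : ∀ η : 𝒳.obj, IsoNat.IsClean η) : ClsSep 𝒳 := by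
  intro T T' π _ _ _ x₁ x₂ x₁' x₂' a₁ a₂ ha₁ ha₂ e
  obtain ⟨H₁, hH₁⟩ := exists_chart h.1 (IsoNat.cls x₁)
  obtain ⟨H₂, hH₂⟩ := exists_chart h.1 (IsoNat.cls x₂)
  have hpb : pullC h.1 π (IsoNat.objCls H₁) = pullC h.1 π (IsoNat.objCls H₂) := by
    rw [hH₁, hH₂, pullC_cls h.1 π a₁, pullC_cls h.1 π a₂, cls_eq_iff.2 e]
  rw [pullC_objCls, pullC_objCls] at hpb
  obtain ⟨θ'⟩ := exists_iso_of_objCls h.1 hpb
  let P : Sieve T := Theta.liftSieve π
  have hP : P ∈ AlgSp.J S T := by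
    refine GrothendieckTopology.superset_covering _ ?_ (Groth.L24.St.generate_mem_J (T := T)
      (fun _ : PUnit.{u + 1} => T') (fun _ => π) (fun _ => inferInstance) (fun _ => inferInstance)
      (fun t => ⟨⟨⟩, π.left.surjective t⟩))
    rintro V f ⟨_, g, _, ⟨⟩, rfl⟩
    exact ⟨g, rfl⟩
  have hex : ∀ (k : Over T), P k.hom → ∃ a : H₁.obj k ⟶ H₂.obj k, 𝒳.p.IsHomLift (𝟙 k.left) a := by
    rintro k ⟨l, hl⟩
    let v : k ≅ (Over.map π).obj (Over.mk l) := mkMapIso π l k.hom hl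
    refine ⟨H₁.map v.hom ≫ θ'.hom.toNatTrans.app (Over.mk l) ≫ H₂.map v.inv, ?_⟩
    have i1 : 𝒳.p.IsHomLift (𝟙 k.left) (H₁.map v.hom) := lift_map H₁ v.hom
    have i2 : 𝒳.p.IsHomLift (𝟙 k.left) (θ'.hom.toNatTrans.app (Over.mk l)) := θ'.hom.isHomLift' (Over.mk l)
    have i3 : 𝒳.p.IsHomLift (𝟙 k.left) (H₂.map v.inv) := lift_map H₂ v.inv
    exact @vert_comp _ _ _ k.left _ _ _ _ _ i1 (@vert_comp _ _ _ k.left _ _ _ _ _ i2 i3)
  have : (Stk.resSieve P 𝒳).IsEquivalence := h.2 P hP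
  let τ : (Stk.resSieve P 𝒳).obj H₁ ⟶ (Stk.resSieve P 𝒳).obj H₂ :=
    { app := fun k => (hex k.obj k.property).choose
      naturality := fun k l n => by
        show H₁.map n.hom ≫ (hex l.obj l.property).choose = (hex k.obj k.property).choose ≫ H₂.map n.hom
        have j1 := lift_map H₁ n.hom
        have j2 := lift_map H₂ n.hom
        have j3 := (hex l.obj l.property).choose_spec
        have j4 := (hex k.obj k.property).choose_spec
        have k1 := IsHomLift.comp_lift_id_right' 𝒳.p n.hom.left (H₁.map n.hom) l.obj.left (hex l.obj l.property).choose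
        have k2 := IsHomLift.comp_lift_id_left' 𝒳.p k.obj.left (hex k.obj k.property).choose n.hom.left (H₂.map n.hom)
        exact @lift_unique _ _ h.1 hc _ _ n.hom.left _ _ _ _ k1 k2
      isHomLift' := fun k => (hex k.obj k.property).choose_spec }
  obtain ⟨θ, -⟩ := (Stk.resSieve P 𝒳).map_surjective τ
  obtain ⟨i⟩ := isIso_natTrans h.1 θ
  exact cls_eq_iff.1 (by rw [← hH₁, ← hH₂, objCls_eq_of_iso i])

section TwoCopies

variable (T : Over S) (n : ℕ)

/-- Two disjoint copies of the axes. -/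
def Wo : Over S := Over.mk (coprod.desc (Theta.Xo T n).hom (Theta.Xo T n).hom)

/-- The inclusion of a copy. -/
def copy (b : Bool) : Theta.Xo T n ⟶ Wo T n :=
  match b with
  | true => Over.homMk coprod.inl (by simp [Wo])
  | false => Over.homMk coprod.inr (by simp [Wo])

/-- The covering of the doubled axes by two copies. -/
def cov : Wo T n ⟶ Theta.Co T n :=
  Over.homMk (coprod.desc (Theta.incl T true).left (Theta.incl T false).left)
    (coprod.hom_ext (by simp [Wo, Over.w]) (by simp [Wo, Over.w]))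

theorem copy_cov (b : Bool) : copy T n b ≫ cov T n = Theta.incl T b := by
  cases b <;> (apply Over.OverMorphism.ext; simp [copy, cov])

instance (b : Bool) : IsOpenImmersion (copy T n b).left := by
  cases b
  · exact inferInstanceAs (IsOpenImmersion coprod.inr)
  · exact inferInstanceAs (IsOpenImmersion coprod.inl)

theorem copy_surj (w : ↥(Wo T n).left) : ∃ b x, (copy T n b).left x = w := by
  have := (isCompl_range_inl_inr (Theta.Xo T n).left (Theta.Xo T n).left).compl_eq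
  by_cases hw : w ∈ Set.range (coprod.inl : (Theta.Xo T n).left ⟶ _)
  · obtain ⟨x, hx⟩ := hw; exact ⟨true, x, hx⟩
  · have hw' : w ∈ (Set.range (coprod.inl : (Theta.Xo T n).left ⟶ _))ᶜ := hw
    rw [this] at hw'
    obtain ⟨x, hx⟩ := hw'; exact ⟨false, x, hx⟩

/-- The covering by disjoint copies. -/
def coverW : Cover2 (AlgSp.J S) (Wo T n) PEmpty.{1} where
  P b := Theta.liftSieve (copy T n b)
  I i := i.elim
  cover := by
    refine GrothendieckTopology.superset_covering _ ?_ (Groth.L24.St.generate_mem_J (T := Wo T n)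
      (fun _ : ULift.{u} Bool => Theta.Xo T n) (fun b => copy T n b.down) (fun b => inferInstance) (fun b => inferInstance)
      (fun c => ?_))
    · rintro V f ⟨_, g, _, ⟨b⟩, rfl⟩
      exact ⟨b.down, g, rfl⟩
    · obtain ⟨b, x, hx⟩ := copy_surj T n c
      exact ⟨⟨b⟩, x, hx⟩
  le i := i.elim
  inter := by
    rintro Q q ⟨l, hl⟩ ⟨l', hl'⟩
    refine Theta.cover_of_opens (ι := PEmpty.{u + 1}) (fun i => i.elim) (fun t => ?_) _ (fun i => i.elim)
    have e : (copy T n true).left (l.left t) = (copy T n false).left (l'.left t) :=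
      congrArg (fun f : Q ⟶ Wo T n => f.left t) (hl.trans hl'.symm)
    exact absurd e (inl_ne_inr _ _ _ _)
  disj i := i.elim

instance : Surjective (cov T n).left := ⟨fun c => by
  obtain ⟨b, x, hx⟩ := Theta.jointly_surjective T c
  refine ⟨(copy T n b).left x, ?_⟩
  rw [← hx, ← copy_cov T n b]
  rfl⟩

theorem cov_source_cover (P : MorphismProperty Scheme.{u}) [IsZariskiLocalAtSource P]
    (h : ∀ b : Bool, P (Theta.incl T b (n := n)).left) : P (cov T n).left := by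
  rw [IsZariskiLocalAtSource.iff_of_iSup_eq_top (P := P) (f := (cov T n).left) (fun b : ULift.{u} Bool => (copy T n b.down).left.opensRange)
    (TopologicalSpace.Opens.ext (Set.eq_univ_of_forall fun w => ?_))]
  · intro b
    have e := (copy T n b.down).left.isoOpensRange_inv_comp
    rw [← P.cancel_left_of_respectsIso (copy T n b.down).left.isoOpensRange.hom, ← Category.assoc,
      Scheme.Hom.isoOpensRange_hom_ι]
    have hb : (copy T n b.down).left ≫ (cov T n).left = (Theta.incl T b.down).left :=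
      congrArg (fun f : Theta.Xo T n ⟶ Theta.Co T n => f.left) (copy_cov T n b.down)
    rw [hb]
    exact h b.down
  · rw [TopologicalSpace.Opens.coe_iSup, Set.mem_iUnion]
    obtain ⟨b, x, hx⟩ := copy_surj T n w
    exact ⟨⟨b⟩, x, hx⟩

instance : Flat (cov T n).left := cov_source_cover T n @Flat fun _ => inferInstance

instance : LocallyOfFinitePresentation (cov T n).left :=
  cov_source_cover T n @LocallyOfFinitePresentation fun _ => inferInstance

variable {T n} (G₀ : FibCat.overCat T ⥤ᵇ 𝒳)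

theorem pull_cov_formCls (h : Stk.IsStack (AlgSp.J S) 𝒳) (g g' : Fin n → Aut G₀) :
    pullC h.1 (cov T n) (formCls G₀ h g) = pullC h.1 (cov T n) (formCls G₀ h g') := by
  obtain ⟨γ, -⟩ := (exists_isForm G₀ h g).choose_spec
  obtain ⟨γ', -⟩ := (exists_isForm G₀ h g').choose_spec
  rw [formCls, formCls, pullC_objCls, pullC_objCls]
  have hP : ∀ b {Q : Over S} (q : Q ⟶ Wo T n), (coverW T n).P b q → (Theta.cover T n).P b (q ≫ cov T n) := by
    rintro b Q q ⟨l, rfl⟩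
    exact ⟨l, by rw [Category.assoc, copy_cov]⟩
  obtain ⟨θ, -⟩ := glue_hom h (coverW T n) (fun b =>
    (pullFam (cov T n) (Theta.proj T) (cov T n ≫ Theta.proj T) rfl ((coverW T n).P b) (hP b) (γ b)).comp
      ((pullFam (cov T n) (Theta.proj T) (cov T n ≫ Theta.proj T) rfl ((coverW T n).P b) (hP b) (γ' b)).inv h.1))
    (fun i => i.elim)
  obtain ⟨i⟩ := isIso_natTrans h.1 θ
  exact objCls_eq_of_iso i

theorem aut_eq_one (hX : Good 𝒳) (hs : ClsSep 𝒳) (g : Aut G₀) : g = 1 := by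
  obtain ⟨H, hH⟩ := exists_chart hX.st.1 (formCls G₀ hX.st ![1, g])
  obtain ⟨H', hH'⟩ := exists_chart hX.st.1 (formCls G₀ hX.st (fun _ : Fin 2 => (1 : Aut G₀)))
  obtain ⟨z, a, ha⟩ := exists_pullback hX.st.1 (cov T 2) (objFib H)
  obtain ⟨z', a', ha'⟩ := exists_pullback hX.st.1 (cov T 2) (objFib H')
  have e : IsoNat.cls z = IsoNat.cls z' := by
    rw [← pullC_cls hX.st.1 (cov T 2) a, ← pullC_cls hX.st.1 (cov T 2) a', ← objCls_eq, ← objCls_eq, hH, hH',
      pull_cov_formCls G₀ hX.st]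
  have e' := cls_eq_iff.2 (hs (Theta.Co T 2) (Wo T 2) (cov T 2) (objFib H) (objFib H') z z' a a' ha ha' (cls_eq_iff.1 e))
  rw [← objCls_eq, ← objCls_eq, hH, hH'] at e'
  obtain ⟨p, q, hpq⟩ := (formCls_eq_iff G₀ hX.st hX.diag _ _).1 e'
  have h0 : p = q := by simpa using hpq 0
  have h1 : p = q * g := by simpa using hpq 1
  rw [h0] at h1
  exact left_eq_mul.1 h1

end TwoCopies

theorem isClean_of_clsSep (hX : Good 𝒳) (hs : ClsSep 𝒳) (η : 𝒳.obj) : IsoNat.IsClean η := by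
  intro x _ s hs'
  let z : 𝒳.p.Fiber (𝒳.p.obj x) := ⟨x, rfl⟩
  have hl : 𝒳.p.IsHomLift (𝟙 (𝒳.p.obj x)) s := IsHomLift.of_fac 𝒳.p _ _ rfl rfl (by simp [hs'])
  let a : Aut z := fiberIso hX.st.1 (x := z) (y := z) ⟨s, hl⟩
  obtain ⟨G₀, hG⟩ := exists_chart hX.st.1 (IsoNat.cls z)
  obtain ⟨E⟩ := nonempty_autEquiv hX.st.1 G₀ hG
  have : a = 1 := by rw [← E.apply_symm_apply a, aut_eq_one G₀ hX hs (E.symm a), map_one]
  exact congrArg (fun t => t.hom.1) this

end Groth.L11.IsoNat
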