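import Groth.Agent.L11.IsoNat.Basic
import Groth.Agent.L24.Sub.OpenSub

/-!
Open substacks from open conditions on objects.
-/

set_option autoImplicit false
set_option backward.isDefEq.respectTransparency false
set_option backward.isDefEq.respectTransparency.types false

universe u

open CategoryTheory CategoryTheory.Limits AlgebraicGeometry Opposite AlgSt

noncomputable section

namespace Groth.L11.IsoNat

open Groth.L24.St Groth.L24.Sub

variable {S : Scheme.{u}} {𝒳 : AlgSt.Cat S}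

theorem isOpenImm_of_chart {Q : 𝒳.obj → Prop} (hQ : ∀ ⦃y x : 𝒳.obj⦄ (_ : y ⟶ x), Q x → Q y)
    (hO : ∀ (U : Over S) (y : FibCat.overCat U ⥤ᵇ 𝒳), ∃ O : U.left.Opens, ∀ a : Over U,
      Q (y.obj a) ↔ ∀ v, a.hom.left v ∈ O) : IsOpenImm (subIncl 𝒳 Q) := by
  intro U y
  obtain ⟨O, hy⟩ := hO U y
  let V : Over S := Over.mk (O.ι ≫ U.hom)
  let o : V ⟶ U := Over.homMk O.ι rfl
  have : Mono o := Over.mono_of_mono_left o
  let ι := subIncl 𝒳 Q
  have hmem : ∀ b, Q ((BasedFunctor.comp (overMap o) y).obj b) := fun b =>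
    (hy _).2 fun v => (b.hom.left v).2
  let σ : FibCat.overCat V ⥤ᵇ fullSub 𝒳 Q :=
    { toFunctor := ObjectProperty.lift _ (BasedFunctor.comp (overMap o) y).toFunctor hmem
      w := (BasedFunctor.comp (overMap o) y).w }
  let L := FibCat.fpLift (F := y) (G := ι) (overMap o) σ
    (show BasedFunctor.comp (overMap o) y ≅ BasedFunctor.comp σ ι from Iso.refl _)
  have hfst : (FibCat.fpFst y ι).toFunctor.Faithful := ⟨fun {η η'} {m m'} h => by
    have h' : m.hom.fst = m'.hom.fst := h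
    refine fp_ext h' ((ObjectProperty.ι Q).map_injective ?_)
    rw [← cancel_epi η.obj.iso.hom]
    exact (m.hom.w.symm.trans (by rw [h'])).trans m'.hom.w⟩
  have : L.toFunctor.Faithful := ⟨fun {a b} {m m'} h =>
    Over.OverMorphism.ext (congrArg (fun k => k.hom.fst.left) h)⟩
  have : L.toFunctor.Full := ⟨fun {a b} m => by
    let t := m.hom.fst
    have ht : t.left ≫ b.hom = a.hom := by
      rw [← cancel_mono o, Category.assoc]
      exact Over.w t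
    exact ⟨Over.homMk t.left ht, hfst.map_injective (Over.OverMorphism.ext rfl)⟩⟩
  have hL : FibCat.IsEquivOver L := isEquivOver_of_overId L fun η => by
    let a : Over U := η.obj.fst
    have hQa : Q (y.obj a) := hQ η.obj.iso.hom η.obj.snd.property
    have hr : Set.range a.hom.left ⊆ Set.range O.ι := by
      rintro - ⟨v, rfl⟩
      rw [Scheme.Opens.range_ι]
      exact (hy a).1 hQa v
    let l := IsOpenImmersion.lift O.ι a.hom.left hr
    have hl : l ≫ O.ι = a.hom.left := IsOpenImmersion.lift_fac _ _ _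
    let b : Over V := Over.mk (Over.homMk l (by
      show l ≫ O.ι ≫ U.hom = a.left.hom
      rw [← Category.assoc, hl, Over.w a.hom]) : a.left ⟶ V)
    let j : (overMap o).obj b ≅ a := Over.isoMk (Iso.refl _) (by
      refine (Category.id_comp _).trans (Over.OverMorphism.ext ?_)
      exact hl.symm)
    have hj : OverId j.hom := OverId.of_eq rfl rfl
    let i : (σ.obj b).obj ≅ η.obj.snd.obj := y.toFunctor.mapIso j ≪≫ η.obj.iso
    let i' : σ.obj b ≅ η.obj.snd := ObjectProperty.isoMk _ i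
    let e : L.obj b ≅ η := fpIsoMk j i' (by
      show y.map j.hom ≫ η.obj.iso.hom = 𝟙 _ ≫ (y.map j.hom ≫ η.obj.iso.hom)
      rw [Category.id_comp])
    exact ⟨b, e, overId_fp _ hj⟩
  refine ⟨⟨(AlgSp.yon S).obj V, AlgSp.IsAlgSpace.yon_obj V⟩, BasedFunctor.comp (toOverCat V) L,
    isEquivOver_comp (toOverCat_isEquivOver V) hL, ?_⟩
  rw [show BasedFunctor.comp (BasedFunctor.comp (toOverCat V) L) (FibCat.fpFst y ι) =
    BasedFunctor.comp (toOverCat V) (overMap o) from rfl, spMapOfOver_overMap, spMapOfOver_toOverCat,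
    Category.id_comp]
  exact (AlgSp.repWith_yon_map_iff @IsOpenImmersion o).2 (inferInstanceAs (IsOpenImmersion O.ι))

theorem cls_mem_iff {W : ∀ T : Over S, Set (IsoNat.IsoCl 𝒳 T)} {η : 𝒳.obj} {T : Over S} (h : 𝒳.p.obj η = T) :
    IsoNat.cls (⟨η, rfl⟩ : 𝒳.p.Fiber (𝒳.p.obj η)) ∈ W (𝒳.p.obj η) ↔
      IsoNat.cls (⟨η, h⟩ : 𝒳.p.Fiber T) ∈ W T := by
  subst h; rfl

theorem isOpenSubstack_of_open_subfunctor (h𝒳 : IsAlgStack Scheme.fppfPrecoverage 𝒳)
    (W : ∀ T : Over S, Set (IsoNat.IsoCl 𝒳 T))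
    (hWpull : ∀ (T' T : Over S) (g : T' ⟶ T) (x' : 𝒳.p.Fiber T') (x : 𝒳.p.Fiber T) (a : x'.1 ⟶ x.1),
      𝒳.p.IsHomLift g a → IsoNat.cls x ∈ W T → IsoNat.cls x' ∈ W T')
    (hWopen : ∀ (T : Over S) (x : 𝒳.p.Fiber T), ∃ V : T.left.Opens,
      ∀ (T' : Over S) (g : T' ⟶ T) (x' : 𝒳.p.Fiber T') (a : x'.1 ⟶ x.1), 𝒳.p.IsHomLift g a →
        (IsoNat.cls x' ∈ W T' ↔ ∃ g' : T'.left ⟶ ↑V, g' ≫ V.ι = g.left)) :
    IsOpenSubstack 𝒳 (fun η => IsoNat.cls (⟨η, rfl⟩ : 𝒳.p.Fiber (𝒳.p.obj η)) ∈ W (𝒳.p.obj η))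
      Scheme.fppfPrecoverage := by
  have hQ : ∀ ⦃y x : 𝒳.obj⦄ (_ : y ⟶ x),
      IsoNat.cls (⟨x, rfl⟩ : 𝒳.p.Fiber (𝒳.p.obj x)) ∈ W (𝒳.p.obj x) →
      IsoNat.cls (⟨y, rfl⟩ : 𝒳.p.Fiber (𝒳.p.obj y)) ∈ W (𝒳.p.obj y) := fun y x φ h =>
    hWpull _ _ (𝒳.p.map φ) ⟨y, rfl⟩ ⟨x, rfl⟩ φ (Functor.IsHomLift.map φ) h
  have hi := isOpenImm_of_chart hQ fun U y => by
    obtain ⟨O, hO⟩ := hWopen U ⟨y.obj (idObj U), y.w_obj (idObj U)⟩
    refine ⟨O, fun a => ?_⟩
    let m : a ⟶ idObj U := Over.homMk a.hom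
    have hm : (FibCat.overCat U).p.IsHomLift a.hom m :=
      @Functor.IsHomLift.map _ _ _ _ (FibCat.overCat U).p _ _ m
    refine (cls_mem_iff (y.w_obj a)).trans ((hO a.left a.hom ⟨y.obj a, y.w_obj a⟩ (y.map m)
      (@BasedFunctor.preserves_isHomLift _ _ _ _ y _ _ _ _ _ m hm)).trans ?_)
    constructor
    · rintro ⟨g', hg⟩ v
      have : a.hom.left v = O.ι (g' v) := by rw [← hg]; rfl
      rw [this]
      exact (g' v).2
    · intro h
      exact ⟨IsOpenImmersion.lift O.ι a.hom.left (by rintro - ⟨v, rfl⟩; rw [Scheme.Opens.range_ι]; exact h v),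
        IsOpenImmersion.lift_fac _ _ _⟩
  exact ⟨⟨fun e h => hQ e.inv h⟩, isAlgStack_of_rep1 (fullSub_isFibGrpd h𝒳.isStack.1 _ hQ) h𝒳 _ (repWith_rep1 hi), hi⟩

end Groth.L11.IsoNat
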