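import Groth.Agent.L11.IsoNat.Lfp
import Groth.Agent.L24.St.SmoothLocal
import Groth.Agent.L24.St.FlatCover
import Groth.Agent.L23.InfSpace
import Groth.Agent.L23.InfEtaleRing
import Groth.Agent.L19.Thick.Affine
import Groth.Agent.S10629
import Groth.Agent.S1486

/-!
Smoothness of charts is detected by isomorphism classes.
-/

set_option autoImplicit false
set_option backward.isDefEq.respectTransparency false
set_option backward.isDefEq.respectTransparency.types false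

universe u

open CategoryTheory CategoryTheory.Limits AlgebraicGeometry Opposite Groth.L24.St

noncomputable section

namespace Groth.L11.IsoNat

variable {S : Scheme.{u}} {𝒳 𝒴 : AlgSt.Cat S}

theorem ARestr.trans {U T'' T' T : Over S} {f : FibCat.overCat U ⥤ᵇ 𝒳} {a'' : T'' ⟶ U} {a' : T' ⟶ U} {a : T ⟶ U}
    {s : T'' ⟶ T'} {r : T' ⟶ T} {g'' : AutPt f a''} {g' : AutPt f a'} {g : AutPt f a} (h' : ARestr s g'' g')
    (h : ARestr r g' g) : ARestr (s ≫ r) g'' g := by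
  obtain ⟨k', w'⟩ := h'
  obtain ⟨k, w⟩ := h
  refine ⟨by rw [Category.assoc, k, k'], ?_⟩
  rw [show ∀ p, ovm (s ≫ r) p = ovm s k' ≫ ovm r k from fun p => Over.OverMorphism.ext rfl]
  exact (congrArg (_ ≫ ·) (f.toFunctor.map_comp _ _)).trans ((Category.assoc _ _ _).symm.trans
    ((congrArg (· ≫ _) w').trans ((Category.assoc _ _ _).trans ((congrArg (_ ≫ ·) w).trans
      ((Category.assoc _ _ _).symm.trans (congrArg (· ≫ _) (f.toFunctor.map_comp _ _).symm))))))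

theorem ARestr.unique (h𝒳 : FibCat.IsFibGrpd 𝒳.p) {U T' T : Over S} {f : FibCat.overCat U ⥤ᵇ 𝒳} {a' : T' ⟶ U}
    {a : T ⟶ U} {r : T' ⟶ T} {g₁ g₂ : AutPt f a'} {g : AutPt f a} (h₁ : ARestr r g₁ g) (h₂ : ARestr r g₂ g) :
    g₁ = g₂ := by
  obtain ⟨k, w₁⟩ := h₁
  obtain ⟨_, w₂⟩ := h₂
  obtain ⟨g₁, hg₁⟩ := g₁
  obtain ⟨g₂, hg₂⟩ := g₂
  suffices g₁ = g₂ by subst this; rfl
  exact Iso.ext (ovm_cancel h𝒳 r k hg₁ hg₂ (w₁.trans w₂.symm))

theorem ARestr.refl {U T : Over S} {f : FibCat.overCat U ⥤ᵇ 𝒳} {a : T ⟶ U} (g : AutPt f a) : ARestr (𝟙 T) g g := by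
  refine ⟨Category.id_comp a, ?_⟩
  rw [show ovm (𝟙 T) (Category.id_comp a) = 𝟙 (Over.mk a) from rfl, f.toFunctor.map_id]
  exact (Category.comp_id _).trans (Category.id_comp _).symm

theorem exists_retraction (φ : IsoNat.FIso 𝒳 𝒴) (h𝒳 : FibCat.IsFibGrpd 𝒳.p) (h𝒴 : FibCat.IsFibGrpd 𝒴.p)
    {U V : Over S} {x : FibCat.overCat U ⥤ᵇ 𝒳} {y : FibCat.overCat U ⥤ᵇ 𝒴} {v : FibCat.overCat V ⥤ᵇ 𝒴}
    (hxy : φ.toEquiv U (IsoNat.objCls x) = IsoNat.objCls y)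
    (hx : AlgSt.RepByAlgSpWith (AlgSp.LocP @Smooth) x) (R : FpRep v y) {W₂ : Over S}
    {a₂ : (AlgSp.yon S).obj W₂ ⟶ R.F.obj} (ha₂ : AlgSp.RepWith @Etale a₂) (hρ : Smooth (R.pt a₂).a.left)
    {U' Z : Over S} [IsAffine Z.left] (i : U' ⟶ Z) (hi : MoreMor.IsFirstOrderThickening i.left) (u : U' ⟶ W₂)
    [IsOpenImmersion u.left] (e : Z ⟶ V) (he : i ≫ e = u ≫ (R.pt a₂).b) :
    ∃ r : Z ⟶ W₂, i ≫ r = u ∧ r ≫ (R.pt a₂).b = e := by
  obtain ⟨E', hE'⟩ := exists_chart h𝒳 ((φ.toEquiv Z).symm (IsoNat.objCls (BasedFunctor.comp (AlgSt.overMap e) v)))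
  have hE : φ.toEquiv Z (IsoNat.objCls E') = IsoNat.objCls (BasedFunctor.comp (AlgSt.overMap e) v) := by
    rw [hE', Equiv.apply_symm_apply]
  let ρ : U' ⟶ U := u ≫ (R.pt a₂).a
  have hρ' : Smooth ρ.left := inferInstanceAs (Smooth (u.left ≫ (R.pt a₂).a.left))
  let x₂ := BasedFunctor.comp (AlgSt.overMap ρ) x
  have hx₂ : AlgSt.RepByAlgSpWith (AlgSp.LocP @Smooth) x₂ :=
    repWith_comp_locP Groth.L23.etLocal_smooth (overCat_isFibGrpd U') (overCat_isFibGrpd U)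
      (repWith_mono (fun _ _ _ _ h => Groth.L23.locP_of_repWith Groth.L23.etLocal_smooth h)
        (repWith_overMap (R := @Smooth) hρ')) hx
  obtain ⟨R₂, hR₂⟩ := exists_fpRep h𝒳 hx₂ E'
  have hf : AlgSp.IsFormallySmoothMor R₂.d :=
    ((Groth.Agent.S10629.result (X := R₂.F) (Y := ⟨(AlgSp.yon S).obj Z, AlgSp.IsAlgSpace.yon_obj Z⟩)
      (ObjectProperty.homMk R₂.d)).1 hR₂).2
  -- classes on the two sides
  have hcls : ∀ {T : Over S} (b : T ⟶ Z) (a : T ⟶ U'),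
      IsoNat.cls (atFib E' b) = IsoNat.cls (atFib x₂ a) ↔
        IsoNat.cls (atFib v (b ≫ e)) = IsoNat.cls (atFib y (a ≫ ρ)) := by
    intro T b a
    have h1 : φ.toEquiv T (IsoNat.cls (atFib E' b)) = IsoNat.cls (atFib v (b ≫ e)) :=
      fIso_atFib φ h𝒴 E' _ hE b
    have h2 : φ.toEquiv T (IsoNat.cls (atFib x₂ a)) = IsoNat.cls (atFib y (a ≫ ρ)) :=
      fIso_atFib φ h𝒴 x y hxy (a ≫ ρ)
    rw [← h1, ← h2]
    exact (φ.toEquiv T).apply_eq_iff_eq.symm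
  obtain ⟨p₀, hp₀⟩ := exists_restr h𝒴 u (R.pt a₂)
  obtain ⟨t, htb, hta⟩ := (exists_pt_iff (v := E') (f := x₂) i (𝟙 U')).2 ((hcls i (𝟙 U')).2 (by
    rw [Category.id_comp, he]
    exact (exists_pt_iff (v := v) (f := y) _ _).1 ⟨p₀, hp₀.choose.symm, hp₀.choose_spec.choose.symm⟩))
  -- formal smoothness gives a retraction
  obtain ⟨l, hl₁, hl₂⟩ := Groth.L23.exists_lift_affine hf i hi (R₂.sec t) (𝟙 _)
    (by rw [R₂.sec_d, htb, Category.comp_id])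
  have hlb : (R₂.pt l).b = 𝟙 Z := yon_map_cancel (by rw [← R₂.map_b, hl₂, (AlgSp.yon S).map_id])
  let r₀ := (R₂.pt l).a
  have hr₀ : i ≫ r₀ = 𝟙 U' := by
    have := (R₂.pt_restr i l).choose_spec.choose
    rw [hl₁, R₂.pt_sec, hta] at this
    exact this
  obtain ⟨q, hqb, hqa⟩ := (exists_pt_iff (v := v) (f := y) e (r₀ ≫ ρ)).2 (by
    have := (hcls (R₂.pt l).b r₀).1 ((exists_pt_iff _ _).1 ⟨R₂.pt l, rfl, rfl⟩)
    rwa [hlb, Category.id_comp] at this)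
  -- correct the isomorphism
  obtain ⟨q₀, hq₀⟩ := exists_restr h𝒴 i q
  have hq₀a : q₀.a = ρ := by
    rw [← hq₀.choose_spec.choose, hqa, ← Category.assoc, hr₀, Category.id_comp]
  obtain ⟨g, hg⟩ := exists_tw q₀ p₀ (by rw [← hq₀.choose, hqb, he, hp₀.choose])
    (hq₀a.trans hp₀.choose_spec.choose)
  obtain ⟨g₁, hg₁⟩ := exists_aRestr h𝒴 r₀ (a' := q.a) (a := q₀.a) (by rw [hq₀a, hqa]) g
  obtain ⟨g₂, hg₂⟩ := exists_aRestr h𝒴 i hq₀.choose_spec.choose g₁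
  have hgg : g₂ = g := ARestr.unique h𝒴 (hr₀ ▸ hg₂.trans hg₁) (ARestr.refl g)
  subst hgg
  have hQ : Restr i p₀ (q.tw g₁) := hg ▸ hq₀.tw hg₂
  let L := R.sec (q.tw g₁)
  have hiL : (AlgSp.yon S).map u ≫ a₂ = (AlgSp.yon S).map i ≫ L := by
    rw [R.sec_restr hQ, ← R.sec_pt a₂, R.sec_restr hp₀]
  -- lift along the etale chart
  have hfa : AlgSp.IsFormallySmoothMor a₂ := fun sq =>
    ((Groth.L23.isFormallyEtaleMor_of_isEtaleMor (AlgSp.IsAlgSpace.yon_obj W₂) R.F.property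
      (isEtaleMor_of_repWith ha₂)) sq).exists
  obtain ⟨l', hl'₁, hl'₂⟩ := Groth.L23.exists_lift_affine hfa i hi ((AlgSp.yon S).map u) L hiL
  obtain ⟨r, hr⟩ := (AlgSp.yon S).map_surjective l'
  refine ⟨r, yon_map_cancel (by rw [(AlgSp.yon S).map_comp i r, hr, hl'₁]), yon_map_cancel ?_⟩
  rw [(AlgSp.yon S).map_comp r, hr, ← R.map_b a₂, ← Category.assoc, hl'₂, R.sec_d]
  exact congrArg _ hqb

theorem formallySmoothHom_chart (φ : IsoNat.FIso 𝒳 𝒴) (h𝒳 : FibCat.IsFibGrpd 𝒳.p) (h𝒴 : FibCat.IsFibGrpd 𝒴.p)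
    {U V : Over S} {x : FibCat.overCat U ⥤ᵇ 𝒳} {y : FibCat.overCat U ⥤ᵇ 𝒴} {v : FibCat.overCat V ⥤ᵇ 𝒴}
    (hxy : φ.toEquiv U (IsoNat.objCls x) = IsoNat.objCls y)
    (hx : AlgSt.RepByAlgSpWith (AlgSp.LocP @Smooth) x) (R : FpRep v y) {W₂ : Over S}
    {a₂ : (AlgSp.yon S).obj W₂ ⟶ R.F.obj} (ha₂ : AlgSp.RepWith @Etale a₂) (hρ : Smooth (R.pt a₂).a.left) :
    MoreMor.IsFormallySmoothHom (R.pt a₂).b.left := by
  rw [Groth.Agent.S1486.result]
  intro O O' hO hO' hle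
  algebraize [((R.pt a₂).b.left.appLE O' O hle).hom]
  let P := MvPolynomial Γ(W₂.left, O) Γ(V.left, O')
  let f : P →ₐ[Γ(V.left, O')] Γ(W₂.left, O) := MvPolynomial.aeval id
  have hf : Function.Surjective f := fun c => ⟨MvPolynomial.X c, MvPolynomial.aeval_X id c⟩
  let Q := P ⧸ RingHom.ker f.toRingHom ^ 2
  let π : Q →ₐ[Γ(V.left, O')] Γ(W₂.left, O) := f.kerSquareLift
  have hπ : Function.Surjective π := Ideal.Quotient.lift_surjective_of_surjective _ _ hf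
  have hsq : RingHom.ker π.toRingHom ^ 2 = ⊥ := by
    rw [show RingHom.ker π.toRingHom = (RingHom.ker f.toRingHom).cotangentIdeal from AlgHom.ker_kerSquareLift f,
      Ideal.cotangentIdeal_square]
  let al : Γ(V.left, O') ⟶ CommRingCat.of Q := CommRingCat.ofHom (algebraMap _ Q)
  let πc : CommRingCat.of Q ⟶ Γ(W₂.left, O) := CommRingCat.ofHom π.toRingHom
  have hal : al ≫ πc = (R.pt a₂).b.left.appLE O' O hle := CommRingCat.hom_ext π.comp_algebraMap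
  let Z : Over S := Over.mk (Spec.map al ≫ hO'.fromSpec ≫ V.hom)
  let U' : Over S := Over.mk (hO.fromSpec ≫ W₂.hom)
  let u : U' ⟶ W₂ := Over.homMk hO.fromSpec rfl
  have he0 : Spec.map πc ≫ Spec.map al ≫ hO'.fromSpec = hO.fromSpec ≫ (R.pt a₂).b.left := by
    rw [← Spec.map_comp_assoc, hal, IsAffineOpen.SpecMap_appLE_fromSpec]
  let i : U' ⟶ Z := Over.homMk (Spec.map πc) (by
    show Spec.map πc ≫ Spec.map al ≫ hO'.fromSpec ≫ V.hom = hO.fromSpec ≫ W₂.hom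
    rw [reassoc_of% he0, Over.w])
  let e : Z ⟶ V := Over.homMk (Spec.map al ≫ hO'.fromSpec) (Category.assoc _ _ _)
  have : IsAffine Z.left := isAffine_Spec _
  have : IsOpenImmersion u.left := inferInstanceAs (IsOpenImmersion hO.fromSpec)
  have hi : MoreMor.IsFirstOrderThickening i.left := Groth.L19.Thick.isFirstOrder_specMap πc hπ hsq
  obtain ⟨r, hr₁, hr₂⟩ := exists_retraction φ h𝒳 h𝒴 hxy hx R ha₂ hρ i hi u e (Over.OverMorphism.ext he0)
  have hr₁' : Spec.map πc ≫ r.left = hO.fromSpec := congrArg (fun t => t.left) hr₁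
  have hr₂' : r.left ≫ (R.pt a₂).b.left = Spec.map al ≫ hO'.fromSpec := congrArg (fun t => t.left) hr₂
  have hrange : Set.range r.left ⊆ Set.range hO.fromSpec := by
    rintro _ ⟨z, rfl⟩
    obtain ⟨w, rfl⟩ := hi.1.2.surj z
    exact ⟨w, congrArg (fun t : U'.left ⟶ W₂.left => t w) hr₁'.symm⟩
  let r' := IsOpenImmersion.lift hO.fromSpec r.left hrange
  have hr' : r' ≫ hO.fromSpec = r.left := IsOpenImmersion.lift_fac _ _ _
  obtain ⟨γ, hγ⟩ := Spec.map_surjective r'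
  have h1 : γ ≫ πc = 𝟙 _ := Spec.map_injective (by
    rw [Spec.map_comp, Spec.map_id, hγ, ← cancel_mono hO.fromSpec, Category.assoc, hr', hr₁', Category.id_comp])
  have h2 : (R.pt a₂).b.left.appLE O' O hle ≫ γ = al := Spec.map_injective (by
    rw [Spec.map_comp, hγ, ← cancel_mono hO'.fromSpec, Category.assoc, IsAffineOpen.SpecMap_appLE_fromSpec (R.pt a₂).b.left hO' hO,
      reassoc_of% hr', hr₂'])
  let g : Γ(W₂.left, O) →ₐ[Γ(V.left, O')] Q :=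
    { γ.hom with commutes' := fun b => congrArg (fun t => t.hom b) h2 }
  exact Algebra.FormallySmooth.of_split f g (AlgHom.ext fun c => congrArg (fun t => t.hom c) h1)

end Groth.L11.IsoNat
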