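import Groth.Agent.L11.IsoNat.Unramified
import Groth.Agent.L24.St.FpAlg
import Groth.Agent.L24.St.ChartTop

/-!
Etale charts are detected by isomorphism classes.
-/

set_option autoImplicit false

universe u

open CategoryTheory AlgebraicGeometry Groth.L24.St

noncomputable section

namespace Groth.L11.IsoNat

variable {S : Scheme.{u}} {𝒳 𝒴 : AlgSt.Cat S} {U : Over S}

theorem repWith_etale_of_fIso (φ : IsoNat.FIso 𝒳 𝒴) (h𝒳 : Good 𝒳)
    (h𝒴 : AlgSt.IsAlgStack Scheme.fppfPrecoverage 𝒴)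
    (hd : AlgSt.RepByAlgSpWith (AlgSp.IsSeparatedMor ⊓ AlgSp.IsQuasiCompactMor)
      (FibCat.diag (FibCat.toSelf 𝒴)))
    (hI : AlgSt.RepByAlgSpWith (AlgSp.LocP @LocallyOfFinitePresentation)
      (FibCat.inertiaToBase (FibCat.toSelf 𝒴)))
    {x : FibCat.overCat U ⥤ᵇ 𝒳} {y : FibCat.overCat U ⥤ᵇ 𝒴}
    (hxy : φ.toEquiv U (IsoNat.objCls x) = IsoNat.objCls y)
    (hx : AlgSt.RepByAlgSpWith AlgSp.IsEtaleMor x) :
    AlgSt.RepByAlgSpWith (AlgSp.LocP @LocallyOfFinitePresentation) y ∧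
      AlgSt.RepByAlgSpWith AlgSp.IsEtaleMor y := by
  have hx' := isEtaleMor_repWith_iff.1 hx
  have sm := repWith_mono (fun _ _ _ _ h => Groth.L23.locP_mono (Q := @Smooth) (fun g (hg : Etale g) => inferInstance) h) hx'
  have fp := repWith_mono (fun _ _ _ _ h => Groth.L23.locP_mono (Q := @LocallyOfFinitePresentation) (fun g (hg : Etale g) => inferInstance) h) hx'
  have ur := repWith_mono (fun _ _ _ _ h => Groth.L23.locP_mono (Q := @LocallyOfFiniteType ⊓ @FormallyUnramified)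
    (fun g (hg : Etale g) => ⟨inferInstance, inferInstance⟩) h) hx'
  refine ⟨repWith_lfp_of_fIso φ h𝒳.st.1 h𝒴.isStack.1 hd hI hxy fp, isEtaleMor_repWith_iff.2 ?_⟩
  refine repWith_mono (fun _ _ _ _ h => Groth.L23.locP_mono (fun g hg => ?_) h)
    (repWith_locP_and (repWith_smooth_of_fIso φ h𝒳.st.1 h𝒴 hd hI hxy sm)
      (repWith_unramified_of_fIso φ h𝒳 ⟨h𝒴.isStack, hd⟩ hI hxy fp ur))
  obtain ⟨(h1 : Smooth g), h2, (h3 : FormallyUnramified g)⟩ := hg
  exact Etale.of_formallyUnramified_of_flat _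

end Groth.L11.IsoNat
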