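import Groth.Agent.L11.IsoNat.Basic
import Groth.Agent.L24.St.Sp
import Groth.Agent.L23.Basic
import Groth.Prelude.Def_AlgSt3
import Groth.Prelude.Def_AlgSp3

/-!
With separated diagonal, automorphisms agreeing on a schematically dense open agree.
-/

set_option autoImplicit false
set_option backward.isDefEq.respectTransparency false
set_option backward.isDefEq.respectTransparency.types false

universe u

open CategoryTheory CategoryTheory.Limits AlgebraicGeometry Opposite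

noncomputable section

namespace Groth.L11.IsoNat

open Groth.L24.St

variable {S : Scheme.{u}} {𝒳 : AlgSt.Cat S} {V W : Over S}

/-- Every closed subscheme through which `j` factors is everything. -/
def ClosedDense (j : V ⟶ W) : Prop :=
  ∀ ⦃Z : Scheme.{u}⦄ (i : Z ⟶ W.left) [IsClosedImmersion i], (∃ l, l ≫ i = j.left) → IsIso i

/-- Two sections of a separated map which agree on a dense part agree. -/
theorem section_ext {F : AlgSp.Sp S} (d : F ⟶ (AlgSp.yon S).obj W) (hd : AlgSp.IsSeparatedMor d)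
    {σ τ : (AlgSp.yon S).obj W ⟶ F} (e : σ ≫ d = τ ≫ d) {j : V ⟶ W} (hj : ClosedDense j)
    (h : (AlgSp.yon S).map j ≫ σ = (AlgSp.yon S).map j ≫ τ) : σ = τ := by
  obtain ⟨Z, fst, snd, sq, hcl⟩ : ∃ (Z : Over S) (fst : (AlgSp.yon S).obj Z ⟶ F) (snd : Z ⟶ W),
      IsPullback fst ((AlgSp.yon S).map snd) (pullback.diagonal d) (pullback.lift σ τ e) ∧
        IsClosedImmersion snd.left :=
    ⟨_, _, _, hd.1.isPullback _, Groth.L23.repWith_snd hd _⟩
  have h1 : fst = (AlgSp.yon S).map snd ≫ σ := by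
    simpa using congrArg (· ≫ pullback.fst d d) sq.w
  have h2 : fst = (AlgSp.yon S).map snd ≫ τ := by
    simpa using congrArg (· ≫ pullback.snd d d) sq.w
  obtain ⟨l, hl⟩ := (AlgSp.yon S).map_surjective (sq.lift ((AlgSp.yon S).map j ≫ σ) ((AlgSp.yon S).map j) (by
    apply pullback.hom_ext <;> simp [h]))
  have hls : l ≫ snd = j := (AlgSp.yon S).map_injective (by rw [Functor.map_comp, hl, sq.lift_snd])
  have := hcl
  have : IsIso snd.left := hj snd.left ⟨l.left, congrArg CommaMorphism.left hls⟩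
  have : IsIso ((Over.forget S).map snd) := this
  have : IsIso snd := isIso_of_reflects_iso snd (Over.forget S)
  rw [← cancel_epi ((AlgSp.yon S).map snd), ← h1, h2]

theorem aut_ext_of_dense (hd : AlgSt.RepByAlgSpWith (AlgSp.IsSeparatedMor ⊓ AlgSp.IsQuasiCompactMor)
      (FibCat.diag (FibCat.toSelf 𝒳))) (h𝒳 : FibCat.IsFibGrpd 𝒳.p) {j : V ⟶ W} (hj : ClosedDense j)
    {z : 𝒳.p.Fiber W} {z' : 𝒳.p.Fiber V} (π : z'.1 ⟶ z.1) [hπ : 𝒳.p.IsHomLift j π] (a b : z ⟶ z)
    (e : π ≫ a.1 = π ≫ b.1) : a = b := by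
  let t := FibCat.toSelf 𝒳
  have h𝒯 : FibCat.IsFibGrpd (FibCat.selfOver (Over S)).p := (L09.Fib.isFibSet_id (Over S)).1
  have hfp : FibCat.IsFibGrpd (FibCat.fp t t).p := L09.Fib.fp_isFibGrpd h𝒳 h𝒳 h𝒯
  let Y : (FibCat.fp t t).obj := (FibCat.diag t).obj z.1
  obtain ⟨y, ε, hε⟩ := exists_overCat_functor (U := W) hfp Y z.2
  obtain ⟨F, E, hE, hP⟩ := hd W y
  obtain ⟨G, hG, -, ⟨β⟩⟩ := exists_inverse hE
  obtain ⟨_, _⟩ := eqv_fullFaithful hG
  -- the automorphisms `(𝟙, c)` of the diagonal object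
  have hmk : ∀ c : z ⟶ z, ∃ i : Y ≅ Y, OverId i.hom ∧ i.hom.hom.fst = 𝟙 z.1 ∧ i.hom.hom.snd = c.1 := by
    intro c
    have := isIso_fiberHom h𝒳 c
    have hc : t.map c.1 = 𝟙 _ := by
      obtain ⟨_, h1⟩ := (overId_of_lift c.2 : OverId c.1).eq
      exact h1.trans (eqToHom_refl _ _)
    refine ⟨fpIsoMk (Iso.refl _) (Functor.Fiber.fiberInclusion.mapIso (asIso c)) ?_,
      overId_fp _ (overId_id _), rfl, rfl⟩
    show t.map (𝟙 z.1) ≫ 𝟙 _ = 𝟙 _ ≫ t.map c.1
    rw [hc, CategoryTheory.Functor.map_id]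
  choose mk hmk1 hmk2 hmk3 using hmk
  let P : (z ⟶ z) → (FibCat.fp y (FibCat.diag t)).obj := fun c =>
    fpObj (idObj W) z.1 (ε ≪≫ mk c) (hε.comp (hmk1 c))
  -- restrictions to `V`
  let k : (FibCat.overCat W).obj := Over.mk j
  let m : k ⟶ idObj W := L09.Fib.toTerm k
  have hjz : 𝒳.p.obj z'.1 = V := z'.2
  have hmj : (FibCat.overCat W).p.IsHomLift j m := IsHomLift.map (FibCat.overCat W).p m
  let M : y.obj k ⟶ Y := y.map m ≫ ε.hom
  have hM : (FibCat.fp t t).p.IsHomLift j M := by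
    have : (FibCat.fp t t).p.IsHomLift j (y.map m) := (BasedFunctor.isHomLift_iff y j m).2 hmj
    have : (FibCat.fp t t).p.IsHomLift (𝟙 W) ε.hom := hε.lift (y.w_obj _)
    exact IsHomLift.comp_lift_id_right' (FibCat.fp t t).p j (y.map m) W ε.hom
  -- the second component of `M` factors through `π`
  obtain ⟨θ, hθ⟩ : ∃ θ : (y.obj k).obj.snd ⟶ z'.1, θ ≫ π = M.hom.snd := by
    have h1 : 𝒳.p.IsHomLift j M.hom.snd := L09.Fib.fp_snd_lift j M hM
    let q : 𝒳.p.Fiber V := ⟨(y.obj k).obj.snd, IsHomLift.domain_eq 𝒳.p j M.hom.snd⟩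
    obtain ⟨θ, hθ⟩ := exists_factor₁ h𝒳 j (x'' := q) π M.hom.snd
    exact ⟨θ.1, hθ⟩
  have hMc : M ≫ (mk a).hom = M ≫ (mk b).hom := by
    apply fp_ext
    · show M.hom.fst ≫ (mk a).hom.hom.fst = M.hom.fst ≫ (mk b).hom.hom.fst
      rw [hmk2, hmk2]
    · show M.hom.snd ≫ (mk a).hom.hom.snd = M.hom.snd ≫ (mk b).hom.hom.snd
      rw [hmk3, hmk3, ← hθ, Category.assoc, Category.assoc, e]
  have hR : (FibCat.fp t t).p.IsHomLift j ((FibCat.diag t).map π) :=
    (BasedFunctor.isHomLift_iff (FibCat.diag t) j π).2 hπ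
  let A : (FibCat.fp t t).p.Fiber V := ⟨y.obj k, y.w_obj k⟩
  let B : (FibCat.fp t t).p.Fiber V := ⟨(FibCat.diag t).obj z'.1, ((FibCat.diag t).w_obj _).trans z'.2⟩
  let C : (FibCat.fp t t).p.Fiber W := ⟨Y, ((FibCat.diag t).w_obj _).trans z.2⟩
  have : (FibCat.fp t t).p.IsHomLift (𝟙 W) (mk a).hom := (hmk1 a).lift z.2
  have : (FibCat.fp t t).p.IsHomLift j (M ≫ (mk a).hom) :=
    IsHomLift.comp_lift_id_right' (FibCat.fp t t).p j M W (mk a).hom
  obtain ⟨κ, hκ⟩ := exists_factor₁ hfp j (x'' := A) (x' := B) (x := C) ((FibCat.diag t).map π) (M ≫ (mk a).hom)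
  have := isIso_fiberHom hfp κ
  let P' : (FibCat.fp y (FibCat.diag t)).obj :=
    fpObj k z'.1 (Functor.Fiber.fiberInclusion.mapIso (asIso κ)) (overId_of_lift κ.2)
  let n : ∀ c : z ⟶ z, M ≫ (mk a).hom = M ≫ (mk c).hom → (P' ⟶ P c) := fun c hc => fpHom m π (by
    show y.map m ≫ ε.hom ≫ (mk c).hom = κ.1 ≫ (FibCat.diag t).map π
    rw [hκ, hc]
    exact (Category.assoc _ _ _).symm)
  let σ : (z ⟶ z) → F.obj.obj.obj (op W) := fun c => secAt G (P c)
  have hσj : F.obj.obj.map j.op (σ a) = F.obj.obj.map j.op (σ b) :=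
    (secAt_natural G (n a rfl)).trans (secAt_natural G (n b hMc)).symm
  let d := AlgSt.spMapOfOver (BasedFunctor.comp E (FibCat.fpFst y (FibCat.diag t)))
  have hdσ : ∀ c, d.hom.app (op W) (σ c) =
      secAt (BasedFunctor.comp (FibCat.fpFst y (FibCat.diag t)) (AlgSt.ofOverCat W)) (P c) := by
    intro c
    refine Eq.trans ?_ (secAt_congr
      (whiskerR β (BasedFunctor.comp (FibCat.fpFst y (FibCat.diag t)) (AlgSt.ofOverCat W))) (P c))
    exact (secAt_comp G (BasedFunctor.comp (BasedFunctor.comp E (FibCat.fpFst y (FibCat.diag t)))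
      (AlgSt.ofOverCat W)) (P c)).symm
  have hσ : σ a = σ b := by
    apply (GrothendieckTopology.uliftYonedaEquiv.{u + 1} (AlgSp.J S)).symm.injective
    refine section_ext d hP.1 ((AlgSp.J S).uliftYonedaEquiv.injective ?_) hj
      ((AlgSp.J S).uliftYonedaEquiv.injective ?_)
    · rw [GrothendieckTopology.uliftYonedaEquiv_comp, GrothendieckTopology.uliftYonedaEquiv_comp,
        Equiv.apply_symm_apply, Equiv.apply_symm_apply]
      exact (hdσ a).trans (Eq.trans rfl (hdσ b).symm)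
    · rw [← GrothendieckTopology.uliftYonedaEquiv_naturality, ← GrothendieckTopology.uliftYonedaEquiv_naturality,
        Equiv.apply_symm_apply, Equiv.apply_symm_apply]
      exact hσj
  have hb : (G.obj (P a)).base = (G.obj (P b)).base := (baseEq G (P a)).trans (baseEq G (P b)).symm
  let δ : G.obj (P a) ≅ G.obj (P b) := eltIso hb (by
    have := congrArg (F.obj.obj.map (eqToHom (baseEq G (P a))).op) hσ
    simp only [σ, secAt] at this
    erw [map_eqToHom_trans, map_eqToHom_trans] at this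
    simpa using this.symm)
  obtain ⟨μ, hμ⟩ := G.toFunctor.map_surjective δ.hom
  have hμ1 : OverId μ := by
    have h1 : (AlgSt.ofSp F.obj).p.IsHomLift (𝟙 W) (G.map μ) := by
      show (AlgSt.ofSp F.obj).p.IsHomLift (𝟙 W) (G.toFunctor.map μ)
      rw [hμ]
      exact (eltIso_overId _ _).lift (baseEq G (P a))
    exact overId_of_lift ((BasedFunctor.isHomLift_iff G (𝟙 W) μ).1 h1)
  have hfst : μ.hom.fst = 𝟙 (idObj W) := by
    obtain ⟨_, h2⟩ := hμ1.eq
    exact Over.OverMorphism.ext (h2.trans (eqToHom_refl _ _))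
  have hw : y.map μ.hom.fst ≫ ε.hom ≫ (mk b).hom = (ε.hom ≫ (mk a).hom) ≫ (FibCat.diag t).map μ.hom.snd :=
    μ.hom.w
  rw [hfst, show y.map (𝟙 (idObj W)) = 𝟙 _ from y.toFunctor.map_id _] at hw
  erw [Category.id_comp] at hw
  rw [Category.assoc] at hw
  replace hw := (cancel_epi ε.hom).1 hw
  have h1 : (mk b).hom.hom.fst = (mk a).hom.hom.fst ≫ μ.hom.snd :=
    congrArg (fun l : Y ⟶ Y => l.hom.fst) hw
  have h2 : (mk b).hom.hom.snd = (mk a).hom.hom.snd ≫ μ.hom.snd :=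
    congrArg (fun l : Y ⟶ Y => l.hom.snd) hw
  rw [hmk2, hmk2] at h1
  rw [hmk3, hmk3, show μ.hom.snd = 𝟙 z.1 from (h1.trans (Category.id_comp _)).symm] at h2
  exact Functor.Fiber.hom_ext ((Category.comp_id _).symm.trans h2.symm)

end Groth.L11.IsoNat
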