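import Groth.Agent.L11.IsoNat.Theta
import Groth.Agent.L11.IsoNat.Sep
import Groth.Agent.L11.IsoNat.Basic
import Mathlib.CategoryTheory.Endomorphism
import Mathlib.Data.List.FinRange

/-!
Objects over the doubled axes glued from constant transition automorphisms.
-/

set_option autoImplicit false
set_option backward.isDefEq.respectTransparency false
set_option backward.isDefEq.respectTransparency.types false

universe u

open CategoryTheory CategoryTheory.Limits AlgebraicGeometry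

noncomputable section

namespace Groth.L11.IsoNat

variable {S : Scheme.{u}} {𝒳 : AlgSt.Cat S}

theorem lift_ext' (h : FibCat.IsFibGrpd 𝒳.p) {T : Over S} (G : FibCat.overCat T ⥤ᵇ 𝒳) {k l : Over T} (n : k ⟶ l)
    {a b : G.obj k ⟶ G.obj k} (ha : 𝒳.p.IsHomLift (𝟙 k.left) a) (hb : 𝒳.p.IsHomLift (𝟙 k.left) b)
    (e : a ≫ G.map n = b ≫ G.map n) : a = b := by
  have := lift_map G n
  have := L09.Fib.stronglyCartesian_of_isFibGrpd _ h n.left (G.map n)
  exact Functor.IsStronglyCartesian.ext 𝒳.p n.left (G.map n) (𝟙 k.left) e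

theorem isIso_vert (h : FibCat.IsFibGrpd 𝒳.p) {Q : Over S} {x y : 𝒳.obj} (a : x ⟶ y) (ha : 𝒳.p.IsHomLift (𝟙 Q) a) :
    IsIso a :=
  L09.Fib.isIso_of_isFibGrpd _ h (𝟙 Q) a

theorem appLift {T : Over S} {F G : FibCat.overCat T ⥤ᵇ 𝒳} (θ : F ⟶ G) (k : Over T) :
    𝒳.p.IsHomLift (𝟙 k.left) (θ.toNatTrans.app k) := θ.isHomLift' k

theorem isIso_natTrans (h : FibCat.IsFibGrpd 𝒳.p) {T : Over S} {H G : FibCat.overCat T ⥤ᵇ 𝒳} (θ : H ⟶ G) :
    Nonempty (H ≅ G) := by
  have : ∀ k, IsIso (θ.toNatTrans.app k) := fun k => isIso_vert h _ (θ.isHomLift' k)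
  exact ⟨Groth.L24.St.mkIso2 (fun k => asIso (θ.toNatTrans.app k)) (fun _ _ n => θ.toNatTrans.naturality n)
    (fun k => Groth.L24.St.overId_app θ k)⟩

/-! ### Operations on families -/

variable {T : Over S} {P : Sieve T}

/-- Composition of families. -/
def Fam.comp {F G H : FibCat.overCat T ⥤ᵇ 𝒳} (γ : Fam P F G) (δ : Fam P G H) : Fam P F H where
  app k hk := γ.app k hk ≫ δ.app k hk
  lift k hk := by
    have := γ.lift k hk
    have := δ.lift k hk
    exact vert_comp _ _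
  nat {k l} n hk hl := by
    rw [← Category.assoc, γ.nat n hk hl, Category.assoc, δ.nat n hk hl, Category.assoc]

@[simp] theorem Fam.comp_app {F G H : FibCat.overCat T ⥤ᵇ 𝒳} (γ : Fam P F G) (δ : Fam P G H) (k : Over T)
    (hk : P k.hom) : (γ.comp δ).app k hk = γ.app k hk ≫ δ.app k hk := rfl

/-- The inverse family. -/
def Fam.inv (h : FibCat.IsFibGrpd 𝒳.p) {F G : FibCat.overCat T ⥤ᵇ 𝒳} (γ : Fam P F G) : Fam P G F where
  app k hk := @CategoryTheory.inv _ _ _ _ (γ.app k hk) (isIso_vert h _ (γ.lift k hk))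
  lift k hk := by
    have := γ.lift k hk
    have := isIso_vert h _ (γ.lift k hk)
    exact IsHomLift.lift_id_inv_isIso 𝒳.p k.left _
  nat {k l} n hk hl := by
    have := isIso_vert h _ (γ.lift k hk)
    have := isIso_vert h _ (γ.lift l hl)
    rw [IsIso.eq_inv_comp, ← Category.assoc, ← γ.nat n hk hl, Category.assoc, IsIso.hom_inv_id, Category.comp_id]

@[simp] theorem Fam.inv_comp (h : FibCat.IsFibGrpd 𝒳.p) {F G : FibCat.overCat T ⥤ᵇ 𝒳} (γ : Fam P F G) (k : Over T)
    (hk : P k.hom) : (γ.inv h).app k hk ≫ γ.app k hk = 𝟙 _ :=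
  have := isIso_vert h _ (γ.lift k hk)
  IsIso.inv_hom_id _

@[simp] theorem Fam.comp_inv (h : FibCat.IsFibGrpd 𝒳.p) {F G : FibCat.overCat T ⥤ᵇ 𝒳} (γ : Fam P F G) (k : Over T)
    (hk : P k.hom) : γ.app k hk ≫ (γ.inv h).app k hk = 𝟙 _ :=
  have := isIso_vert h _ (γ.lift k hk)
  IsIso.hom_inv_id _

@[simp] theorem Fam.inv_comp_assoc (h : FibCat.IsFibGrpd 𝒳.p) {F G : FibCat.overCat T ⥤ᵇ 𝒳} (γ : Fam P F G)
    (k : Over T) (hk : P k.hom) {Z : 𝒳.obj} (r : G.obj k ⟶ Z) :
    (γ.inv h).app k hk ≫ γ.app k hk ≫ r = r := by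
  rw [← Category.assoc, Fam.inv_comp, Category.id_comp]

@[simp] theorem Fam.comp_inv_assoc (h : FibCat.IsFibGrpd 𝒳.p) {F G : FibCat.overCat T ⥤ᵇ 𝒳} (γ : Fam P F G)
    (k : Over T) (hk : P k.hom) {Z : 𝒳.obj} (r : F.obj k ⟶ Z) :
    γ.app k hk ≫ (γ.inv h).app k hk ≫ r = r := by
  rw [← Category.assoc, Fam.comp_inv, Category.id_comp]

/-- A morphism of functors as a family. -/
def Fam.ofNat (P : Sieve T) {F G : FibCat.overCat T ⥤ᵇ 𝒳} (θ : F ⟶ G) : Fam P F G where
  app k _ := θ.toNatTrans.app k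
  lift k _ := θ.isHomLift' k
  nat n _ _ := θ.toNatTrans.naturality n

@[simp] theorem Fam.ofNat_app (P : Sieve T) {F G : FibCat.overCat T ⥤ᵇ 𝒳} (θ : F ⟶ G) (k : Over T) (hk : P k.hom) :
    (Fam.ofNat P θ).app k hk = θ.toNatTrans.app k := rfl

/-! ### Forms -/

variable {n m : ℕ} (G₀ : FibCat.overCat T ⥤ᵇ 𝒳)

/-- The trivial object over the doubled axes. -/
abbrev GC (n : ℕ) : FibCat.overCat (Theta.Co T n) ⥤ᵇ 𝒳 := BasedFunctor.comp (AlgSt.overMap (Theta.proj T)) G₀

/-- The constant transition attached to an automorphism. -/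
abbrev constApp (g : Aut G₀) (k : Over (Theta.Co T n)) : (GC G₀ n).obj k ⟶ (GC G₀ n).obj k :=
  g.hom.toNatTrans.app ((Over.map (Theta.proj T)).obj k)

/-- A constant automorphism as a family. -/
def constFam (g : Aut G₀) (P : Sieve (Theta.Co T n)) : Fam P (GC G₀ n) (GC G₀ n) where
  app k _ := constApp G₀ g k
  lift k _ := appLift g.hom ((Over.map (Theta.proj T)).obj k)
  nat {k l} m _ _ := g.hom.toNatTrans.naturality ((Over.map (Theta.proj T)).map m)

/-- `H` is glued from the trivial object by the constant transitions `g`. -/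
def IsForm (g : Fin n → Aut G₀) (H : FibCat.overCat (Theta.Co T n) ⥤ᵇ 𝒳) : Prop :=
  ∃ γ : ∀ b, Fam ((Theta.cover T n).P b) H (GC G₀ n), ∀ i (k : Over (Theta.Co T n)) (hk : (Theta.cover T n).I i k.hom),
    (γ true).app k ((Theta.cover T n).le i true _ hk) ≫ constApp G₀ (g i) k =
      (γ false).app k ((Theta.cover T n).le i false _ hk)

theorem exists_isForm (h : Stk.IsStack (AlgSp.J S) 𝒳) (g : Fin n → Aut G₀) : ∃ H, IsForm G₀ g H := by
  obtain ⟨H, γ, hγ⟩ := exists_form h (Theta.cover T n) (G := GC G₀ n)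
    (α := fun i => Groth.L24.St.whiskerL (AlgSt.overMap (Theta.proj T)) (g i))
  exact ⟨H, γ, hγ⟩

/-- Forms whose transitions differ by constants on the two sides are isomorphic. -/
theorem isForm_iso (h : Stk.IsStack (AlgSp.J S) 𝒳) {g g' : Fin n → Aut G₀} {H H' : FibCat.overCat (Theta.Co T n) ⥤ᵇ 𝒳}
    (hH : IsForm G₀ g H) (hH' : IsForm G₀ g' H') {a b : Aut G₀} (e : ∀ i, g' i * a = b * g i) :
    Nonempty (H ≅ H') := by
  obtain ⟨γ, hγ⟩ := hH
  obtain ⟨γ', hγ'⟩ := hH'
  let c : Bool → Aut G₀ := fun x => if x then a else b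
  let δ : ∀ x, Fam ((Theta.cover T n).P x) H H' := fun x =>
    ((γ x).comp (constFam G₀ (c x) _)).comp ((γ' x).inv h.1)
  obtain ⟨θ, -⟩ := glue_hom h (Theta.cover T n) δ (fun i k hk => by
    have e' : constApp G₀ a k ≫ constApp G₀ (g' i) k = constApp G₀ (g i) k ≫ constApp G₀ b k :=
      congrArg (fun t : Aut G₀ => constApp G₀ t k) (e i)
    have := isIso_vert h.1 _ ((γ' true).lift k ((Theta.cover T n).le i true _ hk))
    have := isIso_vert h.1 _ ((γ' false).lift k ((Theta.cover T n).le i false _ hk))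
    show ((γ true).app k _ ≫ constApp G₀ a k) ≫ inv ((γ' true).app k _) =
      ((γ false).app k _ ≫ constApp G₀ b k) ≫ inv ((γ' false).app k _)
    rw [IsIso.eq_comp_inv, ← hγ' i k hk, Category.assoc, IsIso.inv_hom_id_assoc, Category.assoc, e',
      reassoc_of% (hγ i k hk)])
  exact isIso_natTrans h.1 θ

/-! ### Values along sections -/

/-- The value at a section over `s` of a family of endomorphisms. -/
def evAt {P : Sieve (Theta.Co T n)} (φ : Fam P (GC G₀ n) (GC G₀ n)) {Q : Over S} (σ : Q ⟶ Theta.Co T n)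
    (hσ : P σ) (s : Q ⟶ T) (hs : σ ≫ Theta.proj T = s) : G₀.obj (Over.mk s) ⟶ G₀.obj (Over.mk s) :=
  let e : Over.mk s ≅ (Over.map (Theta.proj T)).obj (Over.mk σ) := Over.isoMk (Iso.refl _) (by simpa using hs)
  G₀.map e.hom ≫ φ.app (Over.mk σ) hσ ≫ G₀.map e.inv

theorem evAt_lift {P : Sieve (Theta.Co T n)} (φ : Fam P (GC G₀ n) (GC G₀ n)) {Q : Over S} (σ : Q ⟶ Theta.Co T n)
    (hσ : P σ) (s : Q ⟶ T) (hs : σ ≫ Theta.proj T = s) :
    𝒳.p.IsHomLift (𝟙 Q) (evAt G₀ φ σ hσ s hs) := by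
  let e : Over.mk s ≅ (Over.map (Theta.proj T)).obj (Over.mk σ) := Over.isoMk (Iso.refl _) (by simpa using hs)
  have h1 : 𝒳.p.IsHomLift (𝟙 Q) (φ.app (Over.mk σ) hσ) := φ.lift (Over.mk σ) hσ
  have h2 : 𝒳.p.IsHomLift (𝟙 Q) (G₀.map e.hom) := lift_map G₀ e.hom
  have h3 : 𝒳.p.IsHomLift (𝟙 Q) (G₀.map e.inv) := lift_map G₀ e.inv
  have := vert_comp (Q := Q) (φ.app (Over.mk σ) hσ) (G₀.map e.inv)
  exact vert_comp (Q := Q) (G₀.map e.hom) (φ.app (Over.mk σ) hσ ≫ G₀.map e.inv)

theorem evAt_comp {P : Sieve (Theta.Co T n)} (φ ψ : Fam P (GC G₀ n) (GC G₀ n)) {Q : Over S} (σ : Q ⟶ Theta.Co T n)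
    (hσ : P σ) (s : Q ⟶ T) (hs : σ ≫ Theta.proj T = s) :
    evAt G₀ (φ.comp ψ) σ hσ s hs = evAt G₀ φ σ hσ s hs ≫ evAt G₀ ψ σ hσ s hs := by
  simp only [evAt, Fam.comp_app, Category.assoc]
  congr 2
  rw [← Functor.map_comp_assoc, Iso.inv_hom_id, CategoryTheory.Functor.map_id, Category.id_comp]

theorem evAt_const {P : Sieve (Theta.Co T n)} (g : Aut G₀) {Q : Over S} (σ : Q ⟶ Theta.Co T n)
    (hσ : P σ) (s : Q ⟶ T) (hs : σ ≫ Theta.proj T = s) :
    evAt G₀ (constFam G₀ g P) σ hσ s hs = g.hom.toNatTrans.app (Over.mk s) := by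
  simp only [evAt]
  rw [← Category.assoc]
  erw [g.hom.toNatTrans.naturality]
  rw [Category.assoc, ← Functor.map_comp, Iso.hom_inv_id, CategoryTheory.Functor.map_id, Category.comp_id]

theorem evAt_congr {P : Sieve (Theta.Co T n)} (φ : Fam P (GC G₀ n) (GC G₀ n)) {Q : Over S}
    {σ σ' : Q ⟶ Theta.Co T n} (hσ : P σ) (hσ' : P σ') (s : Q ⟶ T) (hs : σ ≫ Theta.proj T = s)
    (hs' : σ' ≫ Theta.proj T = s) (e : σ = σ') : evAt G₀ φ σ hσ s hs = evAt G₀ φ σ' hσ' s hs' := by
  subst e; rfl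

theorem evAt_nat {P : Sieve (Theta.Co T n)} (φ : Fam P (GC G₀ n) (GC G₀ n)) {Q Q' : Over S} (r : Q' ⟶ Q)
    (σ : Q ⟶ Theta.Co T n) (hσ : P σ) (s : Q ⟶ T) (hs : σ ≫ Theta.proj T = s) (σ' : Q' ⟶ Theta.Co T n)
    (hσ' : P σ') (s' : Q' ⟶ T) (hs' : σ' ≫ Theta.proj T = s') (eσ : r ≫ σ = σ') (es : r ≫ s = s') :
    G₀.map (Over.homMk r es : Over.mk s' ⟶ Over.mk s) ≫ evAt G₀ φ σ hσ s hs =
      evAt G₀ φ σ' hσ' s' hs' ≫ G₀.map (Over.homMk r es : Over.mk s' ⟶ Over.mk s) := by
  let e : Over.mk s ≅ (Over.map (Theta.proj T)).obj (Over.mk σ) := Over.isoMk (Iso.refl _) (by simpa using hs)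
  let e' : Over.mk s' ≅ (Over.map (Theta.proj T)).obj (Over.mk σ') := Over.isoMk (Iso.refl _) (by simpa using hs')
  let m : Over.mk σ' ⟶ Over.mk σ := Over.homMk r eσ
  have h1 : (Over.homMk r es : Over.mk s' ⟶ Over.mk s) ≫ e.hom = e'.hom ≫ (Over.map (Theta.proj T)).map m := by
    apply Over.OverMorphism.ext; simp [e, e', m]
  have h2 : (Over.map (Theta.proj T)).map m ≫ e.inv = e'.inv ≫ (Over.homMk r es : Over.mk s' ⟶ Over.mk s) := by
    apply Over.OverMorphism.ext; simp [e, e', m]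
  have h3 : G₀.map ((Over.map (Theta.proj T)).map m) ≫ φ.app (Over.mk σ) hσ =
      φ.app (Over.mk σ') hσ' ≫ G₀.map ((Over.map (Theta.proj T)).map m) := φ.nat m hσ' hσ
  show G₀.map _ ≫ G₀.map e.hom ≫ φ.app _ hσ ≫ G₀.map e.inv = (G₀.map e'.hom ≫ φ.app _ hσ' ≫ G₀.map e'.inv) ≫ _
  rw [← Functor.map_comp_assoc, h1, Functor.map_comp_assoc, reassoc_of% h3, ← Functor.map_comp, h2,
    Functor.map_comp, Category.assoc, Category.assoc]

theorem origin_sieve (b : Bool) {Q : Over S} (s : Q ⟶ T) :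
    (Theta.cover T n).P b (s ≫ Theta.originX T n ≫ Theta.incl T b) :=
  ⟨s ≫ Theta.originX T n, Category.assoc _ _ _⟩

theorem origin_proj (b : Bool) {Q : Over S} (s : Q ⟶ T) :
    (s ≫ Theta.originX T n ≫ Theta.incl T b) ≫ Theta.proj T = s := by simp

/-- The value at the origin of a family on one of the two copies. -/
def atOrigin (b : Bool) (φ : Fam ((Theta.cover T n).P b) (GC G₀ n) (GC G₀ n)) : G₀ ⟶ G₀ where
  app k := evAt G₀ φ (k.hom ≫ Theta.originX T n ≫ Theta.incl T b) (origin_sieve b k.hom) k.hom (origin_proj b k.hom)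
  naturality k l r := by
    exact evAt_nat G₀ φ r.left _ (origin_sieve b l.hom) l.hom (origin_proj b l.hom) _ (origin_sieve b k.hom) k.hom
      (origin_proj b k.hom) (by rw [← Category.assoc, Over.w r]) (Over.w r)
  isHomLift' k := evAt_lift G₀ φ _ _ _ _

/-- The value at the origin, as an automorphism. -/
def atOriginAut (h : FibCat.IsFibGrpd 𝒳.p) (b : Bool) (φ : Fam ((Theta.cover T n).P b) (GC G₀ n) (GC G₀ n)) : Aut G₀ :=
  Groth.L24.St.mkIso2 (fun k => @asIso _ _ _ _ ((atOrigin G₀ b φ).toNatTrans.app k)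
      (isIso_vert h _ ((atOrigin G₀ b φ).isHomLift' k)))
    (fun _ _ r => (atOrigin G₀ b φ).toNatTrans.naturality r)
    (fun k => Groth.L24.St.overId_app (atOrigin G₀ b φ) k)

/-- Endomorphisms of the two copies compatible with constant transitions are compatible at the origin. -/
theorem origin_rel (h : Stk.IsStack (AlgSp.J S) 𝒳)
    (hd : AlgSt.RepByAlgSpWith (AlgSp.IsSeparatedMor ⊓ AlgSp.IsQuasiCompactMor) (FibCat.diag (FibCat.toSelf 𝒳)))
    (φ : ∀ b, Fam ((Theta.cover T n).P b) (GC G₀ n) (GC G₀ n)) (g g' : Fin n → Aut G₀)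
    (e : ∀ i (k : Over (Theta.Co T n)) (hk : (Theta.cover T n).I i k.hom),
      (φ true).app k ((Theta.cover T n).le i true _ hk) ≫ constApp G₀ (g' i) k =
        constApp G₀ (g i) k ≫ (φ false).app k ((Theta.cover T n).le i false _ hk)) (i : Fin n) :
    g' i * atOriginAut G₀ h.1 true (φ true) = atOriginAut G₀ h.1 false (φ false) * g i := by
  apply Iso.ext
  apply BasedNatTrans.homCategory.ext
  ext p
  show (atOrigin G₀ true (φ true)).toNatTrans.app p ≫ (g' i).hom.toNatTrans.app p =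
    (g i).hom.toNatTrans.app p ≫ (atOrigin G₀ false (φ false)).toNatTrans.app p
  let 𝒰 := p.left.left.affineOpenCover
  let W : 𝒰.I₀ → Over S := fun j => Over.mk (𝒰.f j ≫ p.left.hom)
  refine vert_ext h G₀ (Sieve.generate (Presieve.ofArrows W fun j => (Over.homMk (𝒰.f j) rfl : W j ⟶ p.left)))
    (Groth.L24.St.generate_mem_J W _ (fun j => inferInstanceAs (Flat (𝒰.f j)))
      (fun j => inferInstanceAs (LocallyOfFinitePresentation (𝒰.f j)))
      (fun t => ⟨𝒰.idx t, 𝒰.covers t⟩)) ?_ ?_ fun k r hr => ?_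
  · have := appLift (atOrigin G₀ true (φ true)) p
    have := appLift (g' i).hom p
    exact vert_comp (Q := p.left) _ _
  · have := appLift (atOrigin G₀ false (φ false)) p
    have := appLift (g i).hom p
    exact vert_comp (Q := p.left) _ _
  obtain ⟨_, c, _, ⟨j⟩, hc⟩ := hr
  -- reduce to the affine piece
  let gp : Spec (𝒰.X j) ⟶ T.left := 𝒰.f j ≫ p.hom.left
  let pc : Theta.pieceO T gp ⟶ T := Theta.pieceHom T gp
  let piece : Over T := Over.mk pc
  suffices hpiece : (atOrigin G₀ true (φ true)).toNatTrans.app piece ≫ (g' i).hom.toNatTrans.app piece =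
      (g i).hom.toNatTrans.app piece ≫ (atOrigin G₀ false (φ false)).toNatTrans.app piece by
    have hW : (Over.homMk (𝒰.f j) rfl : W j ⟶ p.left) ≫ p.hom =
        (Over.homMk (𝟙 _) (by
          show 𝟙 _ ≫ (gp ≫ T.hom) = 𝒰.f j ≫ p.left.hom
          rw [Category.id_comp, Category.assoc, Over.w p.hom]) : W j ⟶ Theta.pieceO T gp) ≫ pc := by
      apply Over.OverMorphism.ext
      show 𝒰.f j ≫ p.hom.left = 𝟙 _ ≫ 𝒰.f j ≫ p.hom.left
      rw [Category.id_comp]
    let d : W j ⟶ Theta.pieceO T gp := Over.homMk (𝟙 _) (by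
      show 𝟙 _ ≫ (gp ≫ T.hom) = 𝒰.f j ≫ p.left.hom
      rw [Category.id_comp, Category.assoc, Over.w p.hom])
    let r₁ : k ⟶ piece := Over.homMk (c ≫ d) (by
      show (c ≫ d) ≫ pc = k.hom
      rw [Category.assoc, ← hW, ← Category.assoc, hc, Over.w r])
    have nL := ((atOrigin G₀ true (φ true)).toNatTrans.naturality r)
    have nR := ((atOrigin G₀ false (φ false)).toNatTrans.naturality r)
    rw [reassoc_of% nL, (g' i).hom.toNatTrans.naturality r, reassoc_of% ((g i).hom.toNatTrans.naturality r), nR,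
      ← Category.assoc, ← Category.assoc]
    congr 1
    refine lift_ext' h.1 G₀ r₁ ?_ ?_ ?_
    · have := appLift (atOrigin G₀ true (φ true)) k
      have := appLift (g' i).hom k
      exact vert_comp (Q := k.left) _ _
    · have := appLift (atOrigin G₀ false (φ false)) k
      have := appLift (g i).hom k
      exact vert_comp (Q := k.left) _ _
    rw [Category.assoc, Category.assoc, ← (g' i).hom.toNatTrans.naturality r₁,
      ← (atOrigin G₀ false (φ false)).toNatTrans.naturality r₁,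
      ← reassoc_of% ((atOrigin G₀ true (φ true)).toNatTrans.naturality r₁),
      ← reassoc_of% ((g i).hom.toNatTrans.naturality r₁), hpiece]
  -- the line over the affine piece
  let lp : Theta.lineW T gp ⟶ T := Theta.lineP T gp
  let σ : Bool → (Theta.lineW T gp ⟶ Theta.Co T n) := fun b => Theta.lineX T gp i ≫ Theta.incl T b
  have hσ : ∀ b, (Theta.cover T n).P b (σ b) := fun b => ⟨_, rfl⟩
  have hσp : ∀ b, σ b ≫ Theta.proj T = lp := fun b => by simp [σ, lp]
  let τ : Theta.lineV T gp ⟶ Theta.Co T n := (Theta.lineJ T gp ≫ Theta.lineX T gp i) ≫ Theta.incl T true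
  have hτI : (Theta.cover T n).I i τ := by
    obtain ⟨k', hk'⟩ := Theta.exists_fac_of_mem T (Theta.lineJ T gp ≫ Theta.lineX T gp i) (i := i)
      (fun x => Theta.lineJ_mem T gp i x)
    exact ⟨k', by rw [← Category.assoc, hk']⟩
  have hτσ : ∀ b, Theta.lineJ T gp ≫ σ b = τ := fun b => by
    cases b
    · exact ((Category.assoc _ _ _).symm.trans (Theta.incl_eq_of_mem T _
        (fun x => TopologicalSpace.Opens.mem_iSup.2 ⟨i, Theta.lineJ_mem T gp i x⟩)).symm)
    · exact (Category.assoc _ _ _).symm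
  let lv : Theta.lineV T gp ⟶ T := Theta.lineJ T gp ≫ lp
  have hτp : τ ≫ Theta.proj T = lv := by
    rw [← hτσ true, Category.assoc, hσp]
  let z : 𝒳.p.Fiber (Theta.lineW T gp) := ⟨G₀.obj (Over.mk lp), G₀.w_obj _⟩
  let z' : 𝒳.p.Fiber (Theta.lineV T gp) := ⟨G₀.obj (Over.mk lv), G₀.w_obj _⟩
  let πJ : Over.mk lv ⟶ Over.mk lp := Over.homMk (Theta.lineJ T gp) rfl
  let L : G₀.obj (Over.mk lp) ⟶ G₀.obj (Over.mk lp) :=
    evAt G₀ (φ true) (σ true) (hσ true) lp (hσp true) ≫ (g' i).hom.toNatTrans.app (Over.mk lp)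
  let R : G₀.obj (Over.mk lp) ⟶ G₀.obj (Over.mk lp) :=
    (g i).hom.toNatTrans.app (Over.mk lp) ≫ evAt G₀ (φ false) (σ false) (hσ false) lp (hσp false)
  have hL : 𝒳.p.IsHomLift (𝟙 (Theta.lineW T gp)) L := by
    have := evAt_lift G₀ (φ true) (σ true) (hσ true) lp (hσp true)
    have : 𝒳.p.IsHomLift (𝟙 (Theta.lineW T gp)) ((g' i).hom.toNatTrans.app (Over.mk lp)) :=
      (g' i).hom.isHomLift' (Over.mk lp)
    exact vert_comp _ _
  have hR : 𝒳.p.IsHomLift (𝟙 (Theta.lineW T gp)) R := by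
    have := evAt_lift G₀ (φ false) (σ false) (hσ false) lp (hσp false)
    have : 𝒳.p.IsHomLift (𝟙 (Theta.lineW T gp)) ((g i).hom.toNatTrans.app (Over.mk lp)) :=
      (g i).hom.isHomLift' (Over.mk lp)
    exact vert_comp _ _
  have hπ : 𝒳.p.IsHomLift (Theta.lineJ T gp) (G₀.map πJ) := lift_map G₀ πJ
  have hLR : L = R := by
    refine congrArg Subtype.val (aut_ext_of_dense hd h.1 (Theta.closedDense_lineJ T gp) (z := z) (z' := z')
      (G₀.map πJ) (⟨L, hL⟩ : z ⟶ z) ⟨R, hR⟩ ?_)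
    have n1 := evAt_nat G₀ (φ true) (Theta.lineJ T gp) (σ true) (hσ true) lp (hσp true) τ
      ((Theta.cover T n).le i true _ hτI) lv hτp (hτσ true) rfl
    have n2 := evAt_nat G₀ (φ false) (Theta.lineJ T gp) (σ false) (hσ false) lp (hσp false) τ
      ((Theta.cover T n).le i false _ hτI) lv hτp (hτσ false) rfl
    have key : evAt G₀ (φ true) τ ((Theta.cover T n).le i true _ hτI) lv hτp ≫ (g' i).hom.toNatTrans.app (Over.mk lv) =
        (g i).hom.toNatTrans.app (Over.mk lv) ≫ evAt G₀ (φ false) τ ((Theta.cover T n).le i false _ hτI) lv hτp := by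
      rw [← evAt_const G₀ (P := (Theta.cover T n).I i) (g' i) τ hτI lv hτp,
        ← evAt_const G₀ (P := (Theta.cover T n).I i) (g i) τ hτI lv hτp]
      have h0 := e i (Over.mk τ) hτI
      simp only [evAt, constFam, Category.assoc]
      congr 1
      rw [← Functor.map_comp_assoc, ← Functor.map_comp_assoc, Iso.inv_hom_id, CategoryTheory.Functor.map_id,
        Category.id_comp, Category.id_comp, ← Category.assoc, ← Category.assoc]
      exact congrArg (· ≫ _) h0
    show G₀.map πJ ≫ L = G₀.map πJ ≫ R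
    simp only [L, R]
    rw [reassoc_of% n1, (g' i).hom.toNatTrans.naturality πJ, ← Category.assoc, key, Category.assoc,
      reassoc_of% ((g i).hom.toNatTrans.naturality πJ)]
    exact congrArg _ n2.symm
  -- restrict to the origin
  let π0 : piece ⟶ Over.mk lp := Over.homMk (Theta.lineZero T gp) (by
    show Theta.lineZero T gp ≫ lp = pc
    have := congrArg (· ≫ Theta.projX T) (Theta.lineZero_lineX T gp i)
    simpa [lp, pc] using this)
  have hz : ∀ b, Theta.lineZero T gp ≫ σ b = pc ≫ Theta.originX T n ≫ Theta.incl T b := fun b => by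
    simp only [σ]
    rw [← Category.assoc, Theta.lineZero_lineX, Category.assoc]
  have m1 := evAt_nat G₀ (φ true) (Theta.lineZero T gp) (σ true) (hσ true) lp (hσp true) _
    (origin_sieve true pc) pc (origin_proj true pc) (hz true) (Over.w π0)
  have m2 := evAt_nat G₀ (φ false) (Theta.lineZero T gp) (σ false) (hσ false) lp (hσp false) _
    (origin_sieve false pc) pc (origin_proj false pc) (hz false) (Over.w π0)
  refine lift_ext' h.1 G₀ π0 ?_ ?_ ?_
  · have := appLift (atOrigin G₀ true (φ true)) piece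
    have := appLift (g' i).hom piece
    exact vert_comp (Q := piece.left) _ _
  · have := appLift (atOrigin G₀ false (φ false)) piece
    have := appLift (g i).hom piece
    exact vert_comp (Q := piece.left) _ _
  rw [Category.assoc, Category.assoc]
  refine Eq.trans ?_ ((congrArg (G₀.map π0 ≫ ·) hLR).trans ?_)
  · simp only [L]
    rw [reassoc_of% m1, ← (g' i).hom.toNatTrans.naturality π0]
    rfl
  · simp only [R]
    rw [reassoc_of% ((g i).hom.toNatTrans.naturality π0)]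
    exact congrArg _ m2

end Groth.L11.IsoNat
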