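import Groth.Prelude.Def_AlgSt
import Groth.Agent.L09.StkGlue
import Mathlib.CategoryTheory.Sites.Grothendieck

/-!
Gluing in a stack along two pieces with a prescribed transition.
-/

set_option autoImplicit false
set_option backward.isDefEq.respectTransparency false
set_option backward.isDefEq.respectTransparency.types false

set_option autoImplicit false
set_option backward.isDefEq.respectTransparency false
set_option backward.isDefEq.respectTransparency.types false

universe w v₂ u₂ v u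

open CategoryTheory Category

noncomputable section

namespace Groth.L11.IsoNat

variable {𝒞 : Type u} [Category.{v} 𝒞]

/-- The union of a family of sieves. -/
def unionSieve {C : 𝒞} {κ : Type w} (P : κ → Sieve C) : Sieve C where
  arrows _ f := ∃ b, P b f
  downward_closed := fun ⟨b, hb⟩ g => ⟨b, (P b).downward_closed hb g⟩

/-- Two pieces covering `C`, whose intersection is covered by disjoint pieces indexed by `κ`. -/
structure Cover2 (J : GrothendieckTopology 𝒞) (C : 𝒞) (κ : Type w) where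
  P : Bool → Sieve C
  I : κ → Sieve C
  cover : unionSieve P ∈ J C
  le : ∀ i b, I i ≤ P b
  inter : ∀ ⦃Q : 𝒞⦄ (q : Q ⟶ C), P true q → P false q → (unionSieve I).pullback q ∈ J Q
  disj : ∀ ⦃i j : κ⦄ ⦃Q : 𝒞⦄ (q : Q ⟶ C), i ≠ j → I i q → I j q → ⊥ ∈ J Q

variable {J : GrothendieckTopology 𝒞} {C : 𝒞} {κ : Type w} {𝒳 : BasedCategory.{v₂, u₂} 𝒞}

/-- A natural family of vertical morphisms on a sieve. -/
structure Fam (P : Sieve C) (H G : FibCat.overCat C ⥤ᵇ 𝒳) where
  app : ∀ k : Over C, P k.hom → (H.obj k ⟶ G.obj k)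
  lift : ∀ (k : Over C) (h : P k.hom), 𝒳.p.IsHomLift (𝟙 k.left) (app k h)
  nat : ∀ {k l : Over C} (n : k ⟶ l) (hk : P k.hom) (hl : P l.hom), H.map n ≫ app l hl = app k hk ≫ G.map n

theorem lift_map {C : 𝒞} (H : FibCat.overCat C ⥤ᵇ 𝒳) {k l : Over C} (n : k ⟶ l) :
    𝒳.p.IsHomLift n.left (H.map n) :=
  (BasedFunctor.isHomLift_iff H n.left n).2 (IsHomLift.map (FibCat.overCat C).p n)

theorem vert_comp {Q : 𝒞} {x y z : 𝒳.obj} (a : x ⟶ y) (b : y ⟶ z) [𝒳.p.IsHomLift (𝟙 Q) a]
    [𝒳.p.IsHomLift (𝟙 Q) b] : 𝒳.p.IsHomLift (𝟙 Q) (a ≫ b) := by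
  have := IsHomLift.comp 𝒳.p (𝟙 Q) (𝟙 Q) a b
  rwa [Category.id_comp] at this

theorem vert_inv {Q : 𝒞} {x y : 𝒳.obj} (a : x ≅ y) [𝒳.p.IsHomLift (𝟙 Q) a.hom] :
    𝒳.p.IsHomLift (𝟙 Q) a.inv :=
  IsHomLift.lift_id_inv 𝒳.p Q a

/-- Vertical morphisms agreeing on a covering sieve agree. -/
theorem vert_ext (h : Stk.IsStack J 𝒳) (H : FibCat.overCat C ⥤ᵇ 𝒳) {k : Over C} {y : 𝒳.obj} (R : Sieve k.left)
    (hR : R ∈ J k.left) {a b : H.obj k ⟶ y} (ha : 𝒳.p.IsHomLift (𝟙 k.left) a) (hb : 𝒳.p.IsHomLift (𝟙 k.left) b)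
    (e : ∀ (k' : Over C) (n : k' ⟶ k), R n.left → H.map n ≫ a = H.map n ≫ b) : a = b := by
  have : (Stk.resSieve R 𝒳).IsEquivalence := h.2 R hR
  refine L09.Stk.eq_of_locally h.1 (inferInstance : (Stk.resSieve R 𝒳).Faithful) a b fun V f hf => ?_
  let k' : Over C := Over.mk (f ≫ k.hom)
  let n : k' ⟶ k := Over.homMk f rfl
  exact ⟨H.obj k', H.map n, lift_map H n, e k' n hf⟩

/-- Lifts of one morphism agreeing on a covering sieve agree. -/
theorem vert_ext_lift (h : Stk.IsStack J 𝒳) (G : FibCat.overCat C ⥤ᵇ 𝒳) {k l : Over C} (n : k ⟶ l)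
    {a b : G.obj k ⟶ G.obj l} (ha : 𝒳.p.IsHomLift n.left a) (hb : 𝒳.p.IsHomLift n.left b) (R : Sieve k.left)
    (hR : R ∈ J k.left) (e : ∀ (k' : Over C) (m : k' ⟶ k), R m.left → G.map m ≫ a = G.map m ≫ b) : a = b := by
  have := lift_map G n
  have := L09.Fib.stronglyCartesian_of_isFibGrpd _ h.1 n.left (G.map n)
  let a' := Functor.IsCartesian.map 𝒳.p n.left (G.map n) a
  let b' := Functor.IsCartesian.map 𝒳.p n.left (G.map n) b
  have ea : a' ≫ G.map n = a := Functor.IsCartesian.fac _ _ _ _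
  have eb : b' ≫ G.map n = b := Functor.IsCartesian.fac _ _ _ _
  have : a' = b' := by
    refine vert_ext h G R hR (Functor.IsCartesian.map_isHomLift _ _ _ _) (Functor.IsCartesian.map_isHomLift _ _ _ _)
      fun k' m hm => ?_
    have := lift_map G m
    have h1 : 𝒳.p.IsHomLift m.left (G.map m ≫ a') := by
      have : 𝒳.p.IsHomLift (𝟙 k.left) a' := Functor.IsCartesian.map_isHomLift _ _ _ _
      exact IsHomLift.comp_lift_id_right' 𝒳.p m.left (G.map m) k.left a'
    have h2 : 𝒳.p.IsHomLift m.left (G.map m ≫ b') := by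
      have : 𝒳.p.IsHomLift (𝟙 k.left) b' := Functor.IsCartesian.map_isHomLift _ _ _ _
      exact IsHomLift.comp_lift_id_right' 𝒳.p m.left (G.map m) k.left b'
    apply Functor.IsStronglyCartesian.ext 𝒳.p n.left (G.map n) m.left
    rw [Category.assoc, Category.assoc, ea, eb]
    exact e k' m hm
  rw [← ea, ← eb, this]

theorem vert_ext_empty (h : Stk.IsStack J 𝒳) {Q : 𝒞} (hQ : ⊥ ∈ J Q) {x y : 𝒳.obj} {a b : x ⟶ y}
    (ha : 𝒳.p.IsHomLift (𝟙 Q) a) (hb : 𝒳.p.IsHomLift (𝟙 Q) b) : a = b := by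
  have : (Stk.resSieve (⊥ : Sieve Q) 𝒳).IsEquivalence := h.2 ⊥ hQ
  exact L09.Stk.eq_of_locally h.1 (inferInstance : (Stk.resSieve (⊥ : Sieve Q) 𝒳).Faithful) a b fun V f hf => hf.elim

theorem Fam.ext_cover (h : Stk.IsStack J 𝒳) (D : Cover2 J C κ) {H G : FibCat.overCat C ⥤ᵇ 𝒳}
    (γ : ∀ b, Fam (D.P b) H G)
    (e : ∀ i (k : Over C) (hk : D.I i k.hom), (γ true).app k (D.le i true _ hk) = (γ false).app k (D.le i false _ hk))
    (k : Over C) (ht : D.P true k.hom) (hf : D.P false k.hom) : (γ true).app k ht = (γ false).app k hf := by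
  refine vert_ext h H ((unionSieve D.I).pullback k.hom) (D.inter k.hom ht hf) ((γ true).lift k ht)
    ((γ false).lift k hf) fun k' n hn => ?_
  obtain ⟨i, hi⟩ : ∃ i, D.I i k'.hom := by
    rw [← Over.w n]; exact hn
  rw [(γ true).nat n (D.le i true _ hi) ht, (γ false).nat n (D.le i false _ hi) hf, e i k' hi]

/-- Morphisms given on the two pieces and agreeing on the intersection glue. -/
theorem glue_hom (h : Stk.IsStack J 𝒳) (D : Cover2 J C κ) {H G : FibCat.overCat C ⥤ᵇ 𝒳}
    (γ : ∀ b, Fam (D.P b) H G)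
    (e : ∀ i (k : Over C) (hk : D.I i k.hom), (γ true).app k (D.le i true _ hk) = (γ false).app k (D.le i false _ hk)) :
    ∃ θ : H ⟶ G, ∀ b (k : Over C) (hk : D.P b k.hom), θ.toNatTrans.app k = (γ b).app k hk := by
  have key : ∀ (k : Over C) b b' (hb : D.P b k.hom) (hb' : D.P b' k.hom), (γ b).app k hb = (γ b').app k hb' := by
    intro k b b' hb hb'
    cases b <;> cases b'
    · rfl
    · exact (Fam.ext_cover h D γ e k hb' hb).symm
    · exact Fam.ext_cover h D γ e k hb hb'
    · rfl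
  have : (Stk.resSieve (unionSieve D.P) 𝒳).IsEquivalence := h.2 (unionSieve D.P) D.cover
  let τ : (Stk.resSieve (unionSieve D.P) 𝒳).obj H ⟶ (Stk.resSieve (unionSieve D.P) 𝒳).obj G :=
    { app := fun k => (γ k.property.choose).app k.obj k.property.choose_spec
      naturality := fun k l n => by
        show H.map n.hom ≫ (γ l.property.choose).app l.obj l.property.choose_spec =
          (γ k.property.choose).app k.obj k.property.choose_spec ≫ G.map n.hom
        have hk : D.P l.property.choose k.obj.hom := by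
          rw [← Over.w n.hom]; exact (D.P _).downward_closed l.property.choose_spec _
        rw [(γ _).nat n.hom hk, key k.obj l.property.choose k.property.choose]
      isHomLift' := fun k => (γ k.property.choose).lift k.obj k.property.choose_spec }
  obtain ⟨θ, hθ⟩ := (Stk.resSieve (unionSieve D.P) 𝒳).map_surjective τ
  refine ⟨θ, fun b k hk => ?_⟩
  have := congrArg (fun t => t.toNatTrans.app (⟨k, b, hk⟩ : (Stk.sieveCat (unionSieve D.P)).obj)) hθ
  exact this.trans (key k _ _ _ _)

section Twist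

variable (h : Stk.IsStack J 𝒳) (D : Cover2 J C κ) {G : FibCat.overCat C ⥤ᵇ 𝒳} (α : κ → (G ≅ G))

/-- The component of an automorphism of a based functor. -/
abbrev autApp (g : G ≅ G) (k : Over C) : G.obj k ⟶ G.obj k := g.hom.toNatTrans.app k

include h in
theorem exists_twist (k : Over C) (ht : D.P true k.hom) (hf : D.P false k.hom) :
    ∃ t : G.obj k ≅ G.obj k, 𝒳.p.IsHomLift (𝟙 k.left) t.hom ∧
      ∀ (i : κ) (k' : Over C) (n : k' ⟶ k), D.I i k'.hom → G.map n ≫ t.hom = autApp (α i) k' ≫ G.map n := by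
  classical
  let G' : FibCat.overCat k.left ⥤ᵇ 𝒳 :=
    BasedFunctor.comp (⟨Over.map k.hom, Over.mapForget_eq k.hom⟩ : FibCat.overCat k.left ⥤ᵇ FibCat.overCat C) G
  let R : Sieve k.left := (unionSieve D.I).pullback k.hom
  have : (Stk.resSieve R 𝒳).IsEquivalence := h.2 R (D.inter k.hom ht hf)
  have key : ∀ (m : Over C) i j, D.I i m.hom → D.I j m.hom → autApp (α i) m = autApp (α j) m := by
    intro m i j hi hj
    by_cases hij : i = j
    · subst hij; rfl
    · exact vert_ext_empty h (D.disj m.hom hij hi hj) ((α i).hom.isHomLift' m) ((α j).hom.isHomLift' m)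
  let τ : (Stk.resSieve R 𝒳).obj G' ⟶ (Stk.resSieve R 𝒳).obj G' :=
    { app := fun m => autApp (α m.property.choose) ((Over.map k.hom).obj m.obj)
      naturality := fun m l n => by
        show G.map ((Over.map k.hom).map n.hom) ≫ autApp (α l.property.choose) ((Over.map k.hom).obj l.obj) =
          autApp (α m.property.choose) ((Over.map k.hom).obj m.obj) ≫ G.map ((Over.map k.hom).map n.hom)
        have hm : D.I l.property.choose ((Over.map k.hom).obj m.obj).hom := by
          rw [← Over.w ((Over.map k.hom).map n.hom)]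
          exact (D.I _).downward_closed l.property.choose_spec _
        refine ((α l.property.choose).hom.toNatTrans.naturality _).trans ?_
        exact congrArg (· ≫ _) (key ((Over.map k.hom).obj m.obj) _ _ hm m.property.choose_spec)
      isHomLift' := fun m => (α m.property.choose).hom.isHomLift' ((Over.map k.hom).obj m.obj) }
  obtain ⟨θ, hθ⟩ := (Stk.resSieve R 𝒳).map_surjective τ
  let k₀ : Over k.left := Over.mk (𝟙 k.left)
  let e : (Over.map k.hom).obj k₀ ≅ k := Over.isoMk (Iso.refl _) (by simp [k₀])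
  let a : G.obj k ⟶ G.obj k := G.map e.inv ≫ θ.toNatTrans.app k₀ ≫ G.map e.hom
  have ha : 𝒳.p.IsHomLift (𝟙 k.left) a := by
    have h1 : 𝒳.p.IsHomLift (𝟙 k.left) (G.map e.inv) := lift_map G e.inv
    have h2 : 𝒳.p.IsHomLift (𝟙 k.left) (G.map e.hom) := lift_map G e.hom
    have h3 : 𝒳.p.IsHomLift (𝟙 k.left) (θ.toNatTrans.app k₀) := θ.isHomLift' k₀
    have := vert_comp (Q := k.left) (θ.toNatTrans.app k₀) (G.map e.hom)
    exact vert_comp (Q := k.left) (G.map e.inv) (θ.toNatTrans.app k₀ ≫ G.map e.hom)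
  have := L09.Fib.isIso_of_isFibGrpd _ h.1 (𝟙 k.left) a
  refine ⟨asIso a, ha, fun i k' n hi => ?_⟩
  let m : Over k.left := Over.mk n.left
  have hm : R m.hom := ⟨i, by show D.I i (n.left ≫ k.hom); rw [Over.w n]; exact hi⟩
  let d : k' ≅ (Over.map k.hom).obj m := Over.isoMk (Iso.refl _) (by simp [m])
  have hn : n = d.hom ≫ (Over.map k.hom).map (L09.Fib.toTerm m) ≫ e.hom := by
    apply Over.OverMorphism.ext
    simp [d, e, m, k₀, L09.Fib.toTerm]
  have hθm : θ.toNatTrans.app m = autApp (α i) ((Over.map k.hom).obj m) :=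
    (congrArg (fun t => t.toNatTrans.app (⟨m, hm⟩ : (Stk.sieveCat R).obj)) hθ).trans
      (key _ _ _ hm.choose_spec (by show D.I i (n.left ≫ k.hom); rw [Over.w n]; exact hi))
  have hθn : G.map ((Over.map k.hom).map (L09.Fib.toTerm m)) ≫ θ.toNatTrans.app k₀ =
      autApp (α i) ((Over.map k.hom).obj m) ≫ G.map ((Over.map k.hom).map (L09.Fib.toTerm m)) := by
    rw [← hθm]; exact θ.toNatTrans.naturality (L09.Fib.toTerm m)
  show G.map n ≫ G.map e.inv ≫ θ.toNatTrans.app k₀ ≫ G.map e.hom = autApp (α i) k' ≫ G.map n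
  rw [hn, ← Functor.map_comp_assoc, Category.assoc, Category.assoc, e.hom_inv_id, Category.comp_id,
    Functor.map_comp, Category.assoc, reassoc_of% hθn, ← Category.assoc, (α i).hom.toNatTrans.naturality]
  simp only [Functor.map_comp, Category.assoc]

variable {α}

/-- The twist from index `a` to index `b` at an object lying in both pieces. -/
def tw (k : Over C) (a b : Bool) (ha : D.P a k.hom) (hb : D.P b k.hom) : G.obj k ⟶ G.obj k :=
  match a, b, ha, hb with
  | true, false, ha, hb => (exists_twist h D α k ha hb).choose.hom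
  | false, true, ha, hb => (exists_twist h D α k hb ha).choose.inv
  | true, true, _, _ => 𝟙 _
  | false, false, _, _ => 𝟙 _

theorem tw_lift (k : Over C) (a b : Bool) (ha : D.P a k.hom) (hb : D.P b k.hom) :
    𝒳.p.IsHomLift (𝟙 k.left) (tw h D (α := α) k a b ha hb) := by
  have hid : 𝒳.p.IsHomLift (𝟙 k.left) (𝟙 (G.obj k)) := IsHomLift.id (G.w_obj k)
  cases a <;> cases b
  · exact hid
  · have := (exists_twist h D α k hb ha).choose_spec.1
    exact vert_inv _
  · exact (exists_twist h D α k ha hb).choose_spec.1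
  · exact hid

theorem twist_nat {k l : Over C} (n : k ⟶ l) (htk : D.P true k.hom) (hfk : D.P false k.hom) (htl : D.P true l.hom)
    (hfl : D.P false l.hom) :
    G.map n ≫ tw h D (α := α) l true false htl hfl = tw h D (α := α) k true false htk hfk ≫ G.map n := by
  have := lift_map G n
  refine vert_ext_lift h G n ?_ ?_ ((unionSieve D.I).pullback k.hom) (D.inter k.hom htk hfk) fun k' m hm => ?_
  · have := tw_lift h D (α := α) l true false htl hfl
    exact IsHomLift.comp_lift_id_right' 𝒳.p n.left (G.map n) l.left _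
  · have := tw_lift h D (α := α) k true false htk hfk
    exact IsHomLift.comp_lift_id_left' 𝒳.p k.left _ n.left (G.map n)
  · obtain ⟨i, hi⟩ : ∃ i, D.I i k'.hom := by rw [← Over.w m]; exact hm
    have h1 : G.map (m ≫ n) ≫ tw h D (α := α) l true false htl hfl = autApp (α i) k' ≫ G.map (m ≫ n) :=
      (exists_twist h D α l htl hfl).choose_spec.2 i k' (m ≫ n) hi
    have h2 : G.map m ≫ tw h D (α := α) k true false htk hfk = autApp (α i) k' ≫ G.map m :=
      (exists_twist h D α k htk hfk).choose_spec.2 i k' m hi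
    rw [← Functor.map_comp_assoc, h1, reassoc_of% h2, Functor.map_comp]

theorem tw_nat {k l : Over C} (n : k ⟶ l) (a b : Bool) (hak : D.P a k.hom) (hbk : D.P b k.hom)
    (hal : D.P a l.hom) (hbl : D.P b l.hom) :
    G.map n ≫ tw h D (α := α) l a b hal hbl = tw h D (α := α) k a b hak hbk ≫ G.map n := by
  cases a <;> cases b
  · simp [tw]
  · have := twist_nat h D (α := α) n hbk hak hbl hal
    simp only [tw] at this ⊢
    rw [Iso.comp_inv_eq, Category.assoc, this, Iso.inv_hom_id_assoc]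
  · exact twist_nat h D n hak hbk hal hbl
  · simp [tw]

theorem tw_self (k : Over C) (a : Bool) (ha : D.P a k.hom) : tw h D (α := α) k a a ha ha = 𝟙 _ := by
  cases a <;> rfl

theorem tw_trans (k : Over C) (a b c : Bool) (ha : D.P a k.hom) (hb : D.P b k.hom) (hc : D.P c k.hom) :
    tw h D (α := α) k a b ha hb ≫ tw h D (α := α) k b c hb hc = tw h D (α := α) k a c ha hc := by
  cases a <;> cases b <;> cases c <;> simp [tw]

include h in
/-- A form of `G` with the transition `α`. -/
theorem exists_form : ∃ (H : FibCat.overCat C ⥤ᵇ 𝒳) (γ : ∀ b, Fam (D.P b) H G),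
    ∀ i (k : Over C) (hk : D.I i k.hom),
      (γ true).app k (D.le i true _ hk) ≫ autApp (α i) k = (γ false).app k (D.le i false _ hk) := by
  let idx : (Stk.sieveCat (unionSieve D.P)).obj → Bool := fun k => k.property.choose
  have hidx : ∀ k, D.P (idx k) k.obj.hom := fun k => k.property.choose_spec
  have hres : ∀ {k l : (Stk.sieveCat (unionSieve D.P)).obj} (n : k ⟶ l), D.P (idx l) k.obj.hom := fun {k l} n => by
    rw [← Over.w n.hom]; exact (D.P _).downward_closed (hidx l) _
  have hlift : ∀ {k l : (Stk.sieveCat (unionSieve D.P)).obj} (n : k ⟶ l),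
      𝒳.p.IsHomLift n.hom.left (tw h D (α := α) k.obj (idx k) (idx l) (hidx k) (hres n) ≫ G.map n.hom) :=
    fun {k l} n => by
      have := lift_map G n.hom
      have := tw_lift h D (α := α) k.obj (idx k) (idx l) (hidx k) (hres n)
      exact IsHomLift.comp_lift_id_left' 𝒳.p k.obj.left _ n.hom.left (G.map n.hom)
  let F₀ : (Stk.sieveCat (unionSieve D.P)).obj ⥤ 𝒳.obj :=
    { obj := fun k => G.obj k.obj
      map := fun {k l} n => tw h D (α := α) k.obj (idx k) (idx l) (hidx k) (hres n) ≫ G.map n.hom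
      map_id := fun k => by
        show tw h D (α := α) k.obj (idx k) (idx k) _ _ ≫ G.map (𝟙 k.obj) = _
        rw [G.toFunctor.map_id, Category.comp_id]
        exact tw_self h D k.obj _ _
      map_comp := fun {k l m} n p => by
        have hkm : D.P (idx m) k.obj.hom := hres (n ≫ p)
        show tw h D (α := α) k.obj (idx k) (idx m) _ _ ≫ G.map (n.hom ≫ p.hom) = _
        rw [G.toFunctor.map_comp, Category.assoc,
          reassoc_of% (tw_nat h D (α := α) n.hom (idx l) (idx m) (hres n) hkm (hidx l) (hres p)),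
          ← Category.assoc (tw h D (α := α) k.obj _ _ _ _) (tw h D (α := α) k.obj _ _ _ _), tw_trans] }
  let F : Stk.sieveCat (unionSieve D.P) ⥤ᵇ 𝒳 :=
    { toFunctor := F₀
      w := CategoryTheory.Functor.ext (fun k => G.w_obj k.obj) (fun k l n =>
        have := hlift n
        IsHomLift.fac' 𝒳.p n.hom.left (F₀.map n)) }
  have : (Stk.resSieve (unionSieve D.P) 𝒳).IsEquivalence := h.2 (unionSieve D.P) D.cover
  let H := (Stk.resSieve (unionSieve D.P) 𝒳).objPreimage F
  let e : (Stk.resSieve (unionSieve D.P) 𝒳).obj H ≅ F := (Stk.resSieve (unionSieve D.P) 𝒳).objObjPreimageIso F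
  let γ : ∀ b, Fam (D.P b) H G := fun b =>
    { app := fun k hk => e.hom.toNatTrans.app ⟨k, b, hk⟩ ≫
        tw h D (α := α) k (idx ⟨k, b, hk⟩) b (hidx ⟨k, b, hk⟩) hk
      lift := fun k hk => by
        have h1 : 𝒳.p.IsHomLift (𝟙 k.left) (e.hom.toNatTrans.app ⟨k, b, hk⟩) := e.hom.isHomLift' ⟨k, b, hk⟩
        have h2 := tw_lift h D (α := α) k (idx ⟨k, b, hk⟩) b (hidx ⟨k, b, hk⟩) hk
        exact vert_comp (Q := k.left) _ _
      nat := fun {k l} n hk hl => by
        have := e.hom.toNatTrans.naturality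
          (ObjectProperty.homMk n : (⟨k, b, hk⟩ : (Stk.sieveCat (unionSieve D.P)).obj) ⟶ ⟨l, b, hl⟩)
        change H.map n ≫ e.hom.toNatTrans.app ⟨l, b, hl⟩ = e.hom.toNatTrans.app ⟨k, b, hk⟩ ≫ _ ≫ G.map n at this
        rw [reassoc_of% this, tw_nat h D (α := α) n (idx ⟨l, b, hl⟩) b (hres (ObjectProperty.homMk n :
            (⟨k, b, hk⟩ : (Stk.sieveCat (unionSieve D.P)).obj) ⟶ ⟨l, b, hl⟩)) hk (hidx ⟨l, b, hl⟩) hl,
          Category.assoc, ← Category.assoc (tw h D (α := α) k _ _ _ _) (tw h D (α := α) k _ _ _ _), tw_trans] }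
  refine ⟨H, γ, fun i k hk => ?_⟩
  have ht := D.le i true _ hk
  have hf := D.le i false _ hk
  have h1 : autApp (α i) k = tw h D (α := α) k true false ht hf := by
    have := (exists_twist h D α k ht hf).choose_spec.2 i k (𝟙 k) hk
    rw [G.toFunctor.map_id, Category.id_comp, Category.comp_id] at this
    exact this.symm
  show (_ ≫ _) ≫ _ = _ ≫ _
  rw [h1, Category.assoc, tw_trans]

end Twist

end Groth.L11.IsoNat
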