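import Groth.Agent.L23.SourceDescent
import Groth.Agent.L23.SchemeFacts
import Mathlib.AlgebraicGeometry.Morphisms.FinitePresentation

/-!
Finite presentation descends along etale local retracts.
-/

set_option autoImplicit false
set_option backward.isDefEq.respectTransparency false

universe u

open CategoryTheory CategoryTheory.Limits AlgebraicGeometry

namespace Groth.L11.IsoNat

theorem lfp_of_local_retract {P W W' V : Scheme.{u}} (π : P ⟶ W) (h : W ⟶ V) (c : W' ⟶ W) [Etale c] [Surjective c]
    (s : W' ⟶ P) (hs : s ≫ π = c) (hP : LocallyOfFinitePresentation (π ≫ h)) :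
    LocallyOfFinitePresentation h := by
  let r : W' ⟶ pullback π c := pullback.lift s (𝟙 _) (by simp [hs])
  have h1 : LocallyOfFinitePresentation (pullback.snd π c ≫ c ≫ h) := by
    rw [← pullback.condition_assoc]
    infer_instance
  have : LocallyOfFiniteType (pullback.snd π c) := locallyOfFiniteType_of_comp _ (c ≫ h)
  have h2 : LocallyOfFinitePresentation r := by
    have : LocallyOfFinitePresentation (r ≫ pullback.snd π c) := by
      rw [pullback.lift_snd]; infer_instance
    exact Groth.L23.lfp_of_comp_lft r (pullback.snd π c) this
  have h3 : LocallyOfFinitePresentation (c ≫ h) := by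
    have : LocallyOfFinitePresentation (r ≫ pullback.snd π c ≫ c ≫ h) := inferInstance
    rwa [pullback.lift_snd_assoc, Category.id_comp] at this
  exact Groth.L23.locallyOfFinitePresentation_of_etale_comp' c h h3

end Groth.L11.IsoNat
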