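import Groth.Agent.L11.IsoNat.Basic
import Groth.Agent.L11.IsoNat.PtsAut
import Groth.Agent.L11.IsoNat.Retract
import Groth.Agent.L24.St.OverSpace2
import Groth.Agent.L24.St.LocPFppf
import Groth.Agent.S12765

/-!
Finite presentation of charts is detected by isomorphism classes.
-/

set_option autoImplicit false
set_option backward.isDefEq.respectTransparency false
set_option backward.isDefEq.respectTransparency.types false

universe u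

open CategoryTheory CategoryTheory.Limits AlgebraicGeometry Opposite Groth.L24.St

noncomputable section

namespace Groth.L11.IsoNat

variable {S : Scheme.{u}} {𝒳 𝒴 : AlgSt.Cat S}

theorem exists_fpRep (h : FibCat.IsFibGrpd 𝒳.p) {P : MorphismProperty (AlgSp.Sp S)} {U V : Over S}
    {f : FibCat.overCat U ⥤ᵇ 𝒳} (hf : AlgSt.RepByAlgSpWith P f) (v : FibCat.overCat V ⥤ᵇ 𝒳) :
    ∃ R : FpRep v f, P R.d := by
  obtain ⟨F, e, he, hP⟩ := hf V v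
  exact ⟨⟨F, e, he, h⟩, hP⟩

theorem rep1_chart (h : FibCat.IsFibGrpd 𝒳.p) {P : MorphismProperty (AlgSp.Sp S)}
    (hd : AlgSt.RepByAlgSpWith P (FibCat.diag (FibCat.toSelf 𝒳))) {U : Over S} (f : FibCat.overCat U ⥤ᵇ 𝒳) :
    AlgSt.RepByAlgSp1 f :=
  (Groth.Agent.S12765.result h).1 (repWith_rep1 hd) U f

theorem exists_pt_iff {U V T : Over S} {v : FibCat.overCat V ⥤ᵇ 𝒳} {f : FibCat.overCat U ⥤ᵇ 𝒳} (b : T ⟶ V)
    (a : T ⟶ U) :
    (∃ p : Pt v f T, p.b = b ∧ p.a = a) ↔ IsoNat.cls (atFib v b) = IsoNat.cls (atFib f a) := by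
  constructor
  · rintro ⟨⟨b, a, θ, hθ⟩, rfl, rfl⟩
    refine cls_eq_iff.2 ⟨{
      hom := ⟨θ.hom, hθ.lift (v.w_obj _)⟩
      inv := ⟨θ.inv, hθ.inv.lift (f.w_obj _)⟩
      hom_inv_id := Functor.Fiber.hom_ext θ.hom_inv_id
      inv_hom_id := Functor.Fiber.hom_ext θ.inv_hom_id }⟩
  · intro h
    obtain ⟨i⟩ := cls_eq_iff.1 h
    exact ⟨⟨b, a, Functor.Fiber.fiberInclusion.mapIso i, overId_of_lift i.hom.2⟩, rfl, rfl⟩

/-- Points transfer along the bijection of classes. -/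
theorem exists_pt_transfer (φ : IsoNat.FIso 𝒳 𝒴) (h𝒴 : FibCat.IsFibGrpd 𝒴.p) {U V T : Over S}
    {x : FibCat.overCat U ⥤ᵇ 𝒳} {y : FibCat.overCat U ⥤ᵇ 𝒴} {v' : FibCat.overCat V ⥤ᵇ 𝒳}
    {v : FibCat.overCat V ⥤ᵇ 𝒴} (hxy : φ.toEquiv U (IsoNat.objCls x) = IsoNat.objCls y)
    (hv : φ.toEquiv V (IsoNat.objCls v') = IsoNat.objCls v) (b : T ⟶ V) (a : T ⟶ U) :
    (∃ p : Pt v' x T, p.b = b ∧ p.a = a) ↔ ∃ p : Pt v y T, p.b = b ∧ p.a = a := by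
  rw [exists_pt_iff, exists_pt_iff, ← fIso_atFib φ h𝒴 v' v hv b, ← fIso_atFib φ h𝒴 x y hxy a]
  exact (φ.toEquiv T).apply_eq_iff_eq.symm

theorem yon_map_cancel {A B : Over S} {f g : A ⟶ B} (h : (AlgSp.yon S).map f = (AlgSp.yon S).map g) : f = g :=
  (AlgSp.yon S).map_injective h

theorem lfp_d_of_fIso (φ : IsoNat.FIso 𝒳 𝒴) (h𝒴 : FibCat.IsFibGrpd 𝒴.p)
    (hI : AlgSt.RepByAlgSpWith (AlgSp.LocP @LocallyOfFinitePresentation)
      (FibCat.inertiaToBase (FibCat.toSelf 𝒴)))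
    {U V : Over S} {x : FibCat.overCat U ⥤ᵇ 𝒳} {y : FibCat.overCat U ⥤ᵇ 𝒴} {v' : FibCat.overCat V ⥤ᵇ 𝒳}
    {v : FibCat.overCat V ⥤ᵇ 𝒴} (hxy : φ.toEquiv U (IsoNat.objCls x) = IsoNat.objCls y)
    (hv : φ.toEquiv V (IsoNat.objCls v') = IsoNat.objCls v) (R' : FpRep v' x) (R : FpRep v y)
    (hR' : AlgSp.LocP @LocallyOfFinitePresentation R'.d) : AlgSp.LocP @LocallyOfFinitePresentation R.d := by
  obtain ⟨W₂, a₂, ha₂, has₂⟩ := R.F.property.atlas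
  let p₂ := R.pt a₂
  refine Groth.L23.locP_of_chart Groth.L23.etLocal_lfp ha₂ has₂ (AlgSp.repWith_id _ V) (h := p₂.b)
    (by rw [Category.comp_id]; exact R.map_b a₂) ?_
  -- the chart on the other side
  obtain ⟨W, a', ha', has'⟩ := R'.F.property.atlas
  let p' := R'.pt a'
  have hψ : LocallyOfFinitePresentation p'.b.left :=
    hR' a' (𝟙 _) p'.b ha' (AlgSp.repWith_id _ V) (by rw [Category.comp_id]; exact R'.map_b a')
  obtain ⟨q, hqb, hqa⟩ := (exists_pt_transfer φ h𝒴 hxy hv p'.b p'.a).1 ⟨p', rfl, rfl⟩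
  obtain ⟨r₂, hr₂b, hr₂a⟩ := (exists_pt_transfer φ h𝒴 hxy hv p₂.b p₂.a).2 ⟨p₂, rfl, rfl⟩
  -- lift to the chart
  obtain ⟨W₃, j₃, c₃, sq₃⟩ := Groth.L23.exists_isPullback_of_representable ha'.1 (R'.sec r₂)
  have hc₃ : Etale c₃.left := Groth.L23.repWith_prop ha' sq₃
  have hc₃s : Surjective c₃.left := Groth.L23.repWith_prop has' sq₃
  have e₃ := congrArg R'.pt sq₃.w
  obtain ⟨kb, ka, -⟩ := e₃ ▸ R'.pt_restr j₃ a'
  obtain ⟨kb', ka', -⟩ := R'.pt_restr c₃ (R'.sec r₂)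
  rw [R'.pt_sec] at kb' ka'
  have kb'' : j₃ ≫ q.b = c₃ ≫ p₂.b := by rw [hqb, ← hr₂b]; exact kb.trans kb'.symm
  have ka'' : j₃ ≫ q.a = c₃ ≫ p₂.a := by rw [hqa, ← hr₂a]; exact ka.trans ka'.symm
  obtain ⟨θ', hθ'⟩ := exists_restr h𝒴 j₃ q
  obtain ⟨σ', hσ'⟩ := exists_restr h𝒴 c₃ p₂
  obtain ⟨g, hg⟩ := exists_tw θ' σ' (hθ'.choose.symm.trans (kb''.trans hσ'.choose))
    (hθ'.choose_spec.choose.symm.trans (ka''.trans hσ'.choose_spec.choose))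
  -- the inertia of `y`
  obtain ⟨G, eG, heG, hdG⟩ := hI U y
  obtain ⟨J, aJ, haJ, haJs⟩ := G.property.atlas
  obtain ⟨bJ, γ, hγ⟩ := exists_autOf y eG aJ
  have hbJ : (AlgSp.yon S).map bJ = aJ ≫ AlgSt.spMapOfOver (BasedFunctor.comp eG
      (FibCat.fpFst y (FibCat.inertiaToBase (FibCat.toSelf 𝒴)))) := by
    obtain ⟨j, hj, -⟩ := hγ
    apply (AlgSp.J S).uliftYonedaEquiv.injective
    rw [GrothendieckTopology.uliftYonedaEquiv_comp, GrothendieckTopology.uliftYonedaEquiv_uliftYoneda_map]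
    refine congrArg ULift.up (Eq.trans ?_ (congrArg (· ≫ _) hj))
    exact (Over.w j.hom).symm
  have hJ : LocallyOfFinitePresentation bJ.left :=
    hdG aJ (𝟙 _) bJ haJ (AlgSp.repWith_id _ U) (by rw [Category.comp_id]; exact hbJ.symm)
  obtain ⟨lg, hlg⟩ := exists_autSection y eG heG g
  obtain ⟨W₄, j₄, c₄, sq₄⟩ := Groth.L23.exists_isPullback_of_representable haJ.1 lg
  have hc₄ : Etale c₄.left := Groth.L23.repWith_prop haJ sq₄
  have hc₄s : Surjective c₄.left := Groth.L23.repWith_prop haJs sq₄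
  obtain ⟨b₄, g₄, hg₄⟩ := exists_autOf y eG ((AlgSp.yon S).map j₄ ≫ aJ)
  have hgj : ARestr j₄ g₄ γ := AutOf.restr y eG j₄ hg₄ hγ
  have hgc : ARestr c₄ g₄ g := AutOf.restr y eG c₄ (sq₄.w ▸ hg₄) hlg
  -- the product of the two charts
  let P₀ : Over S := Over.mk (pullback.fst q.a.left bJ.left ≫ W.hom)
  let π₁ : P₀ ⟶ W := Over.homMk (pullback.fst q.a.left bJ.left) rfl
  let π₂ : P₀ ⟶ J := Over.homMk (pullback.snd q.a.left bJ.left) (by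
    show pullback.snd q.a.left bJ.left ≫ J.hom = pullback.fst q.a.left bJ.left ≫ W.hom
    rw [← Over.w bJ, ← Over.w q.a, ← Category.assoc, ← Category.assoc, pullback.condition])
  have hπ : π₁ ≫ q.a = π₂ ≫ bJ := Over.OverMorphism.ext pullback.condition
  obtain ⟨q₀, hq₀⟩ := exists_restr h𝒴 π₁ q
  obtain ⟨γ₀, hγ₀⟩ := exists_aRestr h𝒴 π₂ (hπ.symm.trans hq₀.choose_spec.choose) γ
  let lP := R.sec (q₀.tw γ₀)
  obtain ⟨P, π, pr, sqP⟩ := Groth.L23.exists_isPullback_of_representable ha₂.1 lP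
  have hpr : Etale pr.left := Groth.L23.repWith_prop ha₂ sqP
  obtain ⟨m, hm₁, hm₂⟩ : ∃ m : W₄ ⟶ P₀, m ≫ π₁ = c₄ ≫ j₃ ∧ m ≫ π₂ = j₄ := by
    have h1 : (c₄ ≫ j₃) ≫ q.a = j₄ ≫ bJ := by
      rw [Category.assoc, hθ'.choose_spec.choose]
      exact hgc.choose.trans hgj.choose.symm
    have h2 : (c₄ ≫ j₃).left ≫ q.a.left = j₄.left ≫ bJ.left := congrArg (fun t => t.left) h1
    refine ⟨Over.homMk (pullback.lift (c₄ ≫ j₃).left j₄.left h2) (by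
      show pullback.lift _ _ _ ≫ pullback.fst q.a.left bJ.left ≫ W.hom = W₄.hom
      rw [pullback.lift_fst_assoc]
      exact Over.w (c₄ ≫ j₃)), ?_, ?_⟩
    · exact Over.OverMorphism.ext (pullback.lift_fst _ _ _)
    · exact Over.OverMorphism.ext (pullback.lift_snd _ _ _)
  -- the two points over `W₄` agree
  obtain ⟨θ₄, hθ₄⟩ := exists_restr h𝒴 c₄ θ'
  have hθ₄a : θ₄.a = b₄ := hθ₄.choose_spec.choose.symm.trans hgc.choose
  subst hθ₄a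
  have hg' : Restr (c₄ ≫ c₃) (θ₄.tw g₄) p₂ := by
    have := (hθ₄.tw hgc).trans (hg ▸ hσ')
    exact this
  have hm' : Restr m (θ₄.tw g₄) (q₀.tw γ₀) := by
    obtain ⟨q₄, hq₄⟩ := exists_restr h𝒴 m q₀
    have e : θ₄ = q₄ := Restr.unique h𝒴 (hθ₄.trans hθ') (hm₁ ▸ hq₄.trans hq₀)
    subst e
    obtain ⟨g', hg'⟩ := exists_aRestr h𝒴 m hq₄.choose_spec.choose γ₀
    suffices g' = g₄ by rw [← this]; exact hq₄.tw hg'
    obtain ⟨k1, e1⟩ := hg'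
    obtain ⟨k2, e2⟩ := hγ₀
    obtain ⟨k3, e3⟩ := hgj
    obtain ⟨g', hg'o⟩ := g'
    obtain ⟨g₄', hg₄o⟩ := g₄
    suffices g' = g₄' by subst this; rfl
    refine Iso.ext (ovm_cancel h𝒴 j₄ k3 hg'o hg₄o (Eq.trans ?_ e3.symm))
    rw [show ovm j₄ k3 = ovm m k1 ≫ ovm π₂ k2 from
      Over.OverMorphism.ext (show j₄ = m ≫ π₂ from hm₂.symm)]
    exact (congrArg (_ ≫ ·) (y.toFunctor.map_comp _ _)).trans ((Category.assoc _ _ _).symm.trans
      ((congrArg (· ≫ _) e1).trans ((Category.assoc _ _ _).trans ((congrArg (_ ≫ ·) e2).trans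
        ((Category.assoc _ _ _).symm.trans (congrArg (· ≫ _) (y.toFunctor.map_comp _ _).symm))))))
  have hpts : (AlgSp.yon S).map (c₄ ≫ c₃) ≫ a₂ = (AlgSp.yon S).map m ≫ lP := by
    rw [R.sec_restr hm', ← R.sec_pt a₂, R.sec_restr hg']
  obtain ⟨s, hs⟩ := (AlgSp.yon S).map_surjective (sqP.lift ((AlgSp.yon S).map (c₄ ≫ c₃)) ((AlgSp.yon S).map m) hpts)
  have hsπ : s ≫ π = c₄ ≫ c₃ := yon_map_cancel (by rw [(AlgSp.yon S).map_comp s π, hs, sqP.lift_fst])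
  have hπb : π ≫ p₂.b = pr ≫ π₁ ≫ p'.b := by
    apply yon_map_cancel
    have e2 : (AlgSp.yon S).map π ≫ (AlgSp.yon S).map p₂.b = (AlgSp.yon S).map pr ≫ (AlgSp.yon S).map q₀.b := by
      rw [← R.map_b a₂, show (AlgSp.yon S).map q₀.b = lP ≫ R.d from (R.sec_d (q₀.tw γ₀)).symm, ← Category.assoc,
        sqP.w, Category.assoc]
    rw [(AlgSp.yon S).map_comp π, e2, ← (AlgSp.yon S).map_comp, ← hqb]
    exact congrArg (fun t => (AlgSp.yon S).map (pr ≫ t)) hq₀.choose.symm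
  have : Etale (c₄ ≫ c₃).left := inferInstanceAs (Etale (c₄.left ≫ c₃.left))
  have : Surjective (c₄ ≫ c₃).left := inferInstanceAs (Surjective (c₄.left ≫ c₃.left))
  refine lfp_of_local_retract π.left p₂.b.left (c₄ ≫ c₃).left s.left (congrArg (fun t => t.left) hsπ) ?_
  rw [show π.left ≫ p₂.b.left = pr.left ≫ π₁.left ≫ p'.b.left from congrArg (fun t => t.left) hπb]
  show LocallyOfFinitePresentation (pr.left ≫ pullback.fst q.a.left bJ.left ≫ p'.b.left)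
  infer_instance

theorem repWith_lfp_of_fIso (φ : IsoNat.FIso 𝒳 𝒴) (h𝒳 : FibCat.IsFibGrpd 𝒳.p) (h𝒴 : FibCat.IsFibGrpd 𝒴.p)
    {P : MorphismProperty (AlgSp.Sp S)} (hd : AlgSt.RepByAlgSpWith P (FibCat.diag (FibCat.toSelf 𝒴)))
    (hI : AlgSt.RepByAlgSpWith (AlgSp.LocP @LocallyOfFinitePresentation)
      (FibCat.inertiaToBase (FibCat.toSelf 𝒴)))
    {U : Over S} {x : FibCat.overCat U ⥤ᵇ 𝒳} {y : FibCat.overCat U ⥤ᵇ 𝒴}
    (hxy : φ.toEquiv U (IsoNat.objCls x) = IsoNat.objCls y)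
    (hx : AlgSt.RepByAlgSpWith (AlgSp.LocP @LocallyOfFinitePresentation) x) :
    AlgSt.RepByAlgSpWith (AlgSp.LocP @LocallyOfFinitePresentation) y := by
  intro V v
  obtain ⟨v', hv'⟩ := exists_chart h𝒳 ((φ.toEquiv V).symm (IsoNat.objCls v))
  obtain ⟨R', hR'⟩ := exists_fpRep h𝒳 hx v'
  obtain ⟨F, e, he⟩ := rep1_chart h𝒴 hd y V v
  exact ⟨F, e, he, lfp_d_of_fIso φ h𝒴 hI hxy (by rw [hv', Equiv.apply_symm_apply]) R' ⟨F, e, he, h𝒴⟩ hR'⟩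

end Groth.L11.IsoNat
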