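import Groth.Agent.L24.St.SpaceMap
import Groth.Agent.L24.St.Stack
import Groth.Agent.L24.St.Calc
import Groth.Agent.L24.St.Sp

/-!
Points of a space representing the fibre product of two charts.
-/

set_option autoImplicit false
set_option backward.isDefEq.respectTransparency false
set_option backward.isDefEq.respectTransparency.types false

universe u

open CategoryTheory CategoryTheory.Limits AlgebraicGeometry Opposite Groth.L24.St

noncomputable section

namespace Groth.L11.IsoNat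

variable {S : Scheme.{u}} {𝒳 : AlgSt.Cat S} {V U : Over S}

/-- A point of the fibre product of two charts. -/
structure Pt (v : FibCat.overCat V ⥤ᵇ 𝒳) (f : FibCat.overCat U ⥤ᵇ 𝒳) (T : Over S) where
  b : T ⟶ V
  a : T ⟶ U
  θ : v.obj (Over.mk b) ≅ f.obj (Over.mk a)
  hθ : OverId θ.hom

variable {v : FibCat.overCat V ⥤ᵇ 𝒳} {f : FibCat.overCat U ⥤ᵇ 𝒳}

/-- The object of the fibre product of a point. -/
def Pt.obj {T : Over S} (p : Pt v f T) : (FibCat.fp v f).obj := fpObj (Over.mk p.b) (Over.mk p.a) p.θ p.hθ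

/-- One point is the restriction of another. -/
def Restr {T' T : Over S} (r : T' ⟶ T) (p' : Pt v f T') (p : Pt v f T) : Prop :=
  ∃ (hb : r ≫ p.b = p'.b) (ha : r ≫ p.a = p'.a),
    v.map (Over.homMk r hb : Over.mk p'.b ⟶ Over.mk p.b) ≫ p.θ.hom =
      p'.θ.hom ≫ f.map (Over.homMk r ha : Over.mk p'.a ⟶ Over.mk p.a)

theorem Pt.ext' {T : Over S} {p q : Pt v f T} (h : Restr (𝟙 T) p q) : p = q := by
  obtain ⟨hb, ha, e⟩ := h
  obtain ⟨b, a, θ, hθ⟩ := p
  obtain ⟨b', a', θ', hθ'⟩ := q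
  obtain rfl : b' = b := (Category.id_comp b').symm.trans hb
  obtain rfl : a' = a := (Category.id_comp a').symm.trans ha
  have e1 : (Over.homMk (𝟙 T) (Category.id_comp b') : Over.mk b' ⟶ Over.mk b') = 𝟙 _ := rfl
  have e2 : (Over.homMk (𝟙 T) (Category.id_comp a') : Over.mk a' ⟶ Over.mk a') = 𝟙 _ := rfl
  rw [e1, e2, v.toFunctor.map_id, f.toFunctor.map_id] at e
  have : θ = θ' := Iso.ext (((Category.id_comp _).symm.trans e).trans (Category.comp_id _)).symm
  subst this; rfl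

theorem exists_pt_obj {T : Over S} (X : (FibCat.fp v f).obj) (hX : (FibCat.fp v f).p.obj X = T) :
    ∃ (p : Pt v f T) (i : p.obj ≅ X), OverId i.hom := by
  obtain ⟨⟨k, l, θ⟩, hθ⟩ := X
  change k.left = T at hX
  subst hX
  have hθ' : OverId θ.hom := overId_of_lift hθ
  obtain ⟨e, -⟩ := hθ'.eq
  have e' : k.left = l.left := (v.w_obj k).symm.trans (e.trans (f.w_obj l))
  obtain ⟨L, R, g⟩ := l
  change k.left = L at e'
  subst e'
  obtain ⟨L', R', g'⟩ := k
  exact ⟨⟨g', g, θ, hθ'⟩, Iso.refl _, overId_id _⟩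

theorem restr_of_hom {T' T : Over S} {r : T' ⟶ T} {p' : Pt v f T'} {p : Pt v f T} (m : p'.obj ⟶ p.obj)
    (hm : (FibCat.fp v f).p.IsHomLift r m) : Restr r p' p := by
  have h1 : m.hom.fst.left = r := by
    have : (FibCat.overCat V).p.IsHomLift r m.hom.fst := (L09.Fib.fp_isHomLift_iff _ m).1 hm
    have h := IsHomLift.fac' (FibCat.overCat V).p r m.hom.fst
    simp at h
    exact h
  have h2 : m.hom.snd.left = r := by
    have : (FibCat.overCat U).p.IsHomLift r m.hom.snd := L09.Fib.fp_snd_lift r m hm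
    have h := IsHomLift.fac' (FibCat.overCat U).p r m.hom.snd
    simp at h
    exact h
  have hb : r ≫ p.b = p'.b := by
    have := Over.w m.hom.fst
    rw [h1] at this
    exact this
  have ha : r ≫ p.a = p'.a := by
    have := Over.w m.hom.snd
    rw [h2] at this
    exact this
  refine ⟨hb, ha, ?_⟩
  rw [show (Over.homMk r hb : Over.mk p'.b ⟶ Over.mk p.b) = m.hom.fst from Over.OverMorphism.ext h1.symm,
    show (Over.homMk r ha : Over.mk p'.a ⟶ Over.mk p.a) = m.hom.snd from Over.OverMorphism.ext h2.symm]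
  exact m.hom.w

/-- The hom of objects given by a restriction. -/
theorem exists_hom_of_restr {T' T : Over S} {r : T' ⟶ T} {p' : Pt v f T'} {p : Pt v f T} (h : Restr r p' p) :
    ∃ m : p'.obj ⟶ p.obj, (FibCat.fp v f).p.IsHomLift r m := by
  obtain ⟨hb, ha, e⟩ := h
  refine ⟨fpHom (Over.homMk r hb) (Over.homMk r ha) e, (L09.Fib.fp_isHomLift_iff _ _).2 ?_⟩
  exact IsHomLift.map (FibCat.overCat V).p (Over.homMk r hb : Over.mk p'.b ⟶ Over.mk p.b)

variable {F : AlgSp.Sp S} (e : AlgSt.ofSp F ⥤ᵇ FibCat.fp v f)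

/-- The point of the fibre product of a section is `p`. -/
def PtOf {T : Over S} (l : (AlgSp.yon S).obj T ⟶ F) (p : Pt v f T) : Prop :=
  ∃ i : p.obj ≅ e.obj ⟨T, (AlgSp.J S).uliftYonedaEquiv l⟩, OverId i.hom

theorem exists_ptOf {T : Over S} (l : (AlgSp.yon S).obj T ⟶ F) : ∃ p : Pt v f T, PtOf e l p :=
  exists_pt_obj _ (e.w_obj _)

theorem PtOf.restr {T' T : Over S} (r : T' ⟶ T) {l : (AlgSp.yon S).obj T ⟶ F} {p' : Pt v f T'} {p : Pt v f T}
    (hp' : PtOf e ((AlgSp.yon S).map r ≫ l) p') (hp : PtOf e l p) : Restr r p' p := by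
  obtain ⟨i', hi'⟩ := hp'
  obtain ⟨i, hi⟩ := hp
  let m₀ : (⟨T', (AlgSp.J S).uliftYonedaEquiv ((AlgSp.yon S).map r ≫ l)⟩ : (AlgSt.ofSp F).obj) ⟶
      ⟨T, (AlgSp.J S).uliftYonedaEquiv l⟩ := ⟨r, ((AlgSp.J S).uliftYonedaEquiv_naturality l r).trans rfl⟩
  have h0 : (FibCat.fp v f).p.IsHomLift r (e.map m₀) :=
    (BasedFunctor.isHomLift_iff e r m₀).2 (IsHomLift.map (AlgSt.ofSp F).p m₀)
  have h1 : (FibCat.fp v f).p.IsHomLift (𝟙 T') i'.hom := hi'.lift rfl
  have h2 : (FibCat.fp v f).p.IsHomLift (𝟙 T) i.inv := hi.inv.lift (e.w_obj _)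
  refine restr_of_hom (i'.hom ≫ e.map m₀ ≫ i.inv) ?_
  have h3 : (FibCat.fp v f).p.IsHomLift r (e.map m₀ ≫ i.inv) :=
    IsHomLift.comp_lift_id_right' (FibCat.fp v f).p r (e.map m₀) T i.inv
  exact IsHomLift.comp_lift_id_left' (FibCat.fp v f).p T' i'.hom r (e.map m₀ ≫ i.inv)

theorem PtOf.eq {T : Over S} {l : (AlgSp.yon S).obj T ⟶ F} {p q : Pt v f T} (hp : PtOf e l p) (hq : PtOf e l q) :
    p = q :=
  Pt.ext' (PtOf.restr e (𝟙 T) (by rw [CategoryTheory.Functor.map_id, Category.id_comp]; exact hp) hq)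

theorem PtOf.fst {T : Over S} {l : (AlgSp.yon S).obj T ⟶ F} {p : Pt v f T} (hp : PtOf e l p) :
    l ≫ AlgSt.spMapOfOver (BasedFunctor.comp e (FibCat.fpFst v f)) = (AlgSp.yon S).map p.b := by
  obtain ⟨i, hi⟩ := hp
  apply (AlgSp.J S).uliftYonedaEquiv.injective
  rw [GrothendieckTopology.uliftYonedaEquiv_comp]
  let j := i.hom.hom.fst
  have hj : OverId j := overId_of_lift ((L09.Fib.fp_isHomLift_iff _ i.hom).1 (hi.lift rfl))
  obtain ⟨he, hm⟩ := hj.eq
  have hw := Over.w j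
  rw [show j.left = eqToHom he from hm] at hw
  show ULift.up (eqToHom _ ≫ (e.obj _).obj.fst.hom) = _
  refine Eq.trans (congrArg ULift.up ?_)
    (show ULift.up p.b = ((AlgSp.J S).uliftYonedaEquiv ((AlgSp.yon S).map p.b)) from ?_)
  · exact hw
  · rw [GrothendieckTopology.uliftYonedaEquiv_uliftYoneda_map]

variable (he : FibCat.IsEquivOver e)

include he in
theorem exists_section {T : Over S} (p : Pt v f T) : ∃ l : (AlgSp.yon S).obj T ⟶ F, PtOf e l p := by
  obtain ⟨⟨T₁, s⟩, i, hi⟩ := eqv_exists_overId he p.obj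
  obtain ⟨he1, -⟩ := hi.eq
  have hT : T₁ = T := (e.w_obj _).symm.trans he1
  subst hT
  exact ⟨(AlgSp.J S).uliftYonedaEquiv.symm s, by rw [PtOf, Equiv.apply_symm_apply]; exact ⟨i.symm, hi.inv⟩⟩

include he in
theorem section_eq {T : Over S} {l l' : (AlgSp.yon S).obj T ⟶ F} {p : Pt v f T} (hl : PtOf e l p)
    (hl' : PtOf e l' p) : l = l' := by
  obtain ⟨_, _⟩ := eqv_fullFaithful he
  obtain ⟨i, hi⟩ := hl
  obtain ⟨i', hi'⟩ := hl'
  obtain ⟨μ, hμ⟩ := e.toFunctor.map_surjective (i.inv ≫ i'.hom)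
  have h1 : (FibCat.fp v f).p.IsHomLift (𝟙 T) (e.map μ) := by
    show (FibCat.fp v f).p.IsHomLift (𝟙 T) (e.toFunctor.map μ)
    rw [hμ]
    exact (hi.inv.comp hi').lift (e.w_obj _)
  have h2 : μ.hom = 𝟙 T := by
    have := (BasedFunctor.isHomLift_iff e (𝟙 T) μ).1 h1
    have h := IsHomLift.fac' (AlgSt.ofSp F).p (𝟙 T) μ
    simp at h
    exact h
  apply (AlgSp.J S).uliftYonedaEquiv.injective
  have := μ.map_sec
  rw [h2] at this
  simpa using this.symm

include he in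
theorem ptOf_restr (h𝒳 : FibCat.IsFibGrpd 𝒳.p) {T' T : Over S} (r : T' ⟶ T) {l : (AlgSp.yon S).obj T ⟶ F} {p' : Pt v f T'} {p : Pt v f T}
    (hp : PtOf e l p) (hr : Restr r p' p) : PtOf e ((AlgSp.yon S).map r ≫ l) p' := by
  obtain ⟨q, hq⟩ := exists_ptOf e ((AlgSp.yon S).map r ≫ l)
  suffices p' = q by rwa [this]
  obtain ⟨hb, ha, hw⟩ := hr
  obtain ⟨hb', ha', hw'⟩ := PtOf.restr e r hq hp
  obtain ⟨b, a, θ, hθ⟩ := p'
  obtain ⟨b', a', θ', hθ'⟩ := q
  dsimp at hb ha hw hb' ha' hw'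
  subst hb; subst ha; subst hb'; subst ha'
  suffices θ = θ' by subst this; rfl
  ext
  let n : Over.mk (r ≫ p.a) ⟶ Over.mk p.a := Over.homMk r rfl
  have : 𝒳.p.IsHomLift r (f.map n) :=
    (BasedFunctor.isHomLift_iff f r n).2 (IsHomLift.map (FibCat.overCat U).p n)
  have := L09.Fib.stronglyCartesian_of_isFibGrpd _ h𝒳 r (f.map n)
  have : 𝒳.p.IsHomLift (𝟙 T') θ.hom := hθ.lift (v.w_obj _)
  have : 𝒳.p.IsHomLift (𝟙 T') θ'.hom := hθ'.lift (v.w_obj _)
  exact Functor.IsStronglyCartesian.ext 𝒳.p r (f.map n) (𝟙 T') (hw.symm.trans hw')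

/-! ### The bundled correspondence -/

/-- A space representing a fibre product of two charts. -/
structure FpRep (v : FibCat.overCat V ⥤ᵇ 𝒳) (f : FibCat.overCat U ⥤ᵇ 𝒳) where
  F : AlgSp.Space S
  e : AlgSt.ofSp F.obj ⥤ᵇ FibCat.fp v f
  he : FibCat.IsEquivOver e
  grpd : FibCat.IsFibGrpd 𝒳.p

namespace FpRep

variable (R : FpRep v f) {T : Over S}

/-- The projection. -/
def d : R.F.obj ⟶ (AlgSp.yon S).obj V := AlgSt.spMapOfOver (BasedFunctor.comp R.e (FibCat.fpFst v f))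

/-- The point of a section. -/
def pt (l : (AlgSp.yon S).obj T ⟶ R.F.obj) : Pt v f T := (exists_ptOf R.e l).choose

/-- The section of a point. -/
def sec (p : Pt v f T) : (AlgSp.yon S).obj T ⟶ R.F.obj := (exists_section R.e R.he p).choose

theorem pt_ptOf (l : (AlgSp.yon S).obj T ⟶ R.F.obj) : PtOf R.e l (R.pt l) := (exists_ptOf R.e l).choose_spec

theorem sec_ptOf (p : Pt v f T) : PtOf R.e (R.sec p) p := (exists_section R.e R.he p).choose_spec

@[simp] theorem pt_sec (p : Pt v f T) : R.pt (R.sec p) = p := PtOf.eq R.e (R.pt_ptOf _) (R.sec_ptOf p)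

@[simp] theorem sec_pt (l : (AlgSp.yon S).obj T ⟶ R.F.obj) : R.sec (R.pt l) = l :=
  section_eq R.e R.he (R.sec_ptOf _) (R.pt_ptOf l)

theorem pt_injective {l l' : (AlgSp.yon S).obj T ⟶ R.F.obj} (h : R.pt l = R.pt l') : l = l' := by
  rw [← R.sec_pt l, h, sec_pt]

theorem pt_restr {T' : Over S} (r : T' ⟶ T) (l : (AlgSp.yon S).obj T ⟶ R.F.obj) :
    Restr r (R.pt ((AlgSp.yon S).map r ≫ l)) (R.pt l) :=
  PtOf.restr R.e r (R.pt_ptOf _) (R.pt_ptOf l)

theorem sec_restr {T' : Over S} {r : T' ⟶ T} {p' : Pt v f T'} {p : Pt v f T} (h : Restr r p' p) :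
    (AlgSp.yon S).map r ≫ R.sec p = R.sec p' :=
  section_eq R.e R.he (ptOf_restr R.e R.he R.grpd r (R.sec_ptOf p) h) (R.sec_ptOf p')

theorem map_b (l : (AlgSp.yon S).obj T ⟶ R.F.obj) : l ≫ R.d = (AlgSp.yon S).map (R.pt l).b :=
  PtOf.fst R.e (R.pt_ptOf l)

theorem sec_d (p : Pt v f T) : R.sec p ≫ R.d = (AlgSp.yon S).map p.b := PtOf.fst R.e (R.sec_ptOf p)

end FpRep

end Groth.L11.IsoNat
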