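import Groth.Agent.L11.IsoNat.QcPoints
import Groth.Agent.L24.Sub.OpenSub

/-!
Quasi-compactness of a morphism tested on quasi-compact open substacks.
-/

set_option autoImplicit false
set_option backward.isDefEq.respectTransparency false
set_option backward.isDefEq.respectTransparency.types false

universe u

open CategoryTheory AlgebraicGeometry AlgSt

noncomputable section

namespace Groth.L11.IsoNat

open Groth.L24.St Groth.L24.Sub

variable {S : Scheme.{u}} {𝒳 𝒴 : AlgSt.Cat S}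

theorem isQuasiCompact_within (h : IsAlgStack Scheme.fppfPrecoverage 𝒴) {W : Set (Points 𝒴)} (hW : IsOpen W)
    (hc : IsCompact W) : IsQuasiCompact (fullSub 𝒴 (Within W)) := by
  obtain ⟨O, x, hO, h1, h2⟩ := exists_chart_compact h hc hW subset_rfl
  have hI := (isOpenSubstack_within h hW).2.1
  have hr : Set.range (Points.map x) ⊆ W := by
    rintro _ ⟨p, rfl⟩
    obtain ⟨t, rfl⟩ := (overPtEquiv O).symm.surjective p
    exact h2 ⟨t, rfl⟩
  let σ : FibCat.overCat O ⥤ᵇ fullSub 𝒴 (Within W) :=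
    { toFunctor := ObjectProperty.lift _ x.toFunctor
        ((forall_within_iff (overCat_isFibGrpd O) h.isStack.1 W x).2 hr)
      w := x.w }
  have := hO
  refine isQuasiCompact_of_surjective hI (continuous_ofChart hI σ) fun p => ?_
  have hp : Points.map (subIncl 𝒴 (Within W)) p ∈ W := (range_within h.isStack.1 W).subset ⟨p, rfl⟩
  obtain ⟨t, ht⟩ := h1 hp
  refine ⟨t, ?_⟩
  have hff : (subIncl 𝒴 (Within W)).toFunctor.Full := inferInstanceAs (ObjectProperty.ι (Within W)).Full
  have hfa : (subIncl 𝒴 (Within W)).toFunctor.Faithful := inferInstanceAs (ObjectProperty.ι (Within W)).Faithful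
  apply injective_map_of_fullFaithful hI.isStack.1 h.isStack.1 (subIncl 𝒴 (Within W))
  rw [← ht, ofChart_eq_map, ofChart_eq_map, Function.comp_apply, Function.comp_apply, ← map_comp_apply]
  rfl

theorem isQuasiCompactMor_iff_openImm [QuasiSeparatedSpace S] (h𝒳 : IsAlgStack Scheme.fppfPrecoverage 𝒳)
    (h𝒴 : IsAlgStack Scheme.fppfPrecoverage 𝒴)
    (hΔ : RepByAlgSpWith AlgSp.IsQuasiCompactMor (FibCat.diag (FibCat.toSelf 𝒴))) (f : 𝒳 ⥤ᵇ 𝒴) :
    IsQuasiCompactMor Scheme.fppfPrecoverage f ↔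
      ∀ (𝒴' : AlgSt.Cat S), IsAlgStack Scheme.fppfPrecoverage 𝒴' → IsQuasiCompact 𝒴' →
        ∀ (j : 𝒴' ⥤ᵇ 𝒴), IsOpenImm j → IsQuasiCompact (FibCat.fp j f) := by
  refine ⟨fun h 𝒴' h1 h2 j _ => h 𝒴' h1 h2 j, fun h => isQuasiCompactMor_of_preimage h𝒳 h𝒴 hΔ fun W hW hc => ?_⟩
  have hI := isOpenSubstack_within h𝒴 hW
  let ι := subIncl 𝒴 (Within W)
  have hq := h _ hI.2.1 (isQuasiCompact_within h𝒴 hW hc) ι hI.2.2
  have hP := isAlgStack_fp hI.2.1 h𝒳 h𝒴 ι f
  have := compactSpace_of_isQuasiCompact hP hq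
  have e : Points.map f ⁻¹' W = Set.range (Points.map (FibCat.fpSnd ι f)) := by
    ext b
    constructor
    · intro hb
      have hb' : Points.map f b ∈ Set.range (Points.map ι) := by
        rw [range_within h𝒴.isStack.1 W]; exact hb
      obtain ⟨p, hp⟩ := hb'
      obtain ⟨w, -, hw⟩ := exists_points_fp h𝒳.isStack.1 h𝒴.isStack.1 hI.2.1.isStack.1 f ι p b hp
      exact ⟨w, hw⟩
    · rintro ⟨w, rfl⟩
      have hcomm : Points.map ι (Points.map (FibCat.fpFst ι f) w) = Points.map f (Points.map (FibCat.fpSnd ι f) w) := by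
        rw [← map_comp_apply, ← map_comp_apply, map_congr (FibCat.fpIso ι f)]
      rw [Set.mem_preimage, ← hcomm]
      exact (range_within h𝒴.isStack.1 W).subset ⟨_, rfl⟩
  rw [e]
  exact isCompact_range (continuous_map h𝒳 _)

end Groth.L11.IsoNat
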