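import Groth.Agent.L24.St.QcSep
import Groth.Agent.L24.St.Spectral

/-!
Quasi-compactness of a morphism read on spaces of points.
-/

set_option autoImplicit false
set_option backward.isDefEq.respectTransparency false
set_option backward.isDefEq.respectTransparency.types false

universe u

open CategoryTheory AlgebraicGeometry AlgSt

noncomputable section

namespace Groth.L11.IsoNat

open Groth.L24.St

variable {S : Scheme.{u}} {𝒳 𝒴 : AlgSt.Cat S}

/-- A compact open piece of an atlas whose image contains a given compact set and is contained in a given open. -/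
theorem exists_chart_compact (h : IsAlgStack Scheme.fppfPrecoverage 𝒳) {C W : Set (Points 𝒳)} (hC : IsCompact C)
    (hW : IsOpen W) (hCW : C ⊆ W) :
    ∃ (O : Over S) (x : FibCat.overCat O ⥤ᵇ 𝒳), CompactSpace O.left ∧ C ⊆ Set.range (Points.ofChart x) ∧
      Set.range (Points.ofChart x) ⊆ W := by
  obtain ⟨V, y, hy, hys⟩ := h.atlas
  have hsurj := surjective_ofChart_of_repWith h.isStack.1 hys
  let A := {O : TopologicalSpace.Opens ↥V.left // IsCompact (O : Set ↥V.left) ∧ Points.ofChart y '' (O : Set ↥V.left) ⊆ W}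
  obtain ⟨s, hs⟩ := hC.elim_finite_subcover (fun O : A => Points.ofChart y '' (O.1 : Set ↥V.left))
    (fun O => isOpenMap_ofChart isOpenMap_of_smooth h.isStack.1 hy _ O.1.2) (fun p hp => by
      obtain ⟨t, rfl⟩ := hsurj p
      obtain ⟨O, hO, ht, hsub⟩ := V.left.isBasis_affineOpens.exists_subset_of_mem_open
        (show t ∈ Points.ofChart y ⁻¹' W from hCW hp) (hW.preimage (continuous_ofChart h y))
      obtain ⟨O', hO', rfl⟩ := hO
      exact Set.mem_iUnion.2 ⟨⟨O', hO'.isCompact, Set.image_subset_iff.2 hsub⟩, t, ht, rfl⟩)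
  let O₀ : TopologicalSpace.Opens ↥V.left := ⨆ O ∈ s, O.1
  have hO₀ : (O₀ : Set ↥V.left) = ⋃ O ∈ s, (O.1 : Set ↥V.left) := by simp [O₀]
  have hc : IsCompact (O₀ : Set ↥V.left) := by
    rw [hO₀]; exact s.finite_toSet.isCompact_biUnion fun O _ => O.2.1
  let j : Over.mk (Scheme.Opens.ι (X := V.left) O₀ ≫ V.hom) ⟶ V := Over.homMk (Scheme.Opens.ι (X := V.left) O₀) rfl
  refine ⟨_, BasedFunctor.comp (overMap j) y, isCompact_iff_compactSpace.1 hc, fun p hp => ?_, ?_⟩
  · obtain ⟨O, hO, t, ht, rfl⟩ := Set.mem_iUnion₂.1 (hs hp)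
    have ht' : t ∈ (O₀ : Set ↥V.left) := hO₀ ▸ Set.mem_biUnion hO ht
    refine ⟨(⟨t, ht'⟩ : Scheme.Opens.toScheme (X := V.left) O₀), ?_⟩
    rw [ofChart_overMap_comp]
    rfl
  · rintro _ ⟨t, rfl⟩
    rw [ofChart_overMap_comp]
    have ht : j.left t ∈ (O₀ : Set ↥V.left) := t.2
    rw [hO₀] at ht
    obtain ⟨O, hO, ht⟩ := Set.mem_iUnion₂.1 ht
    exact O.2.2 ⟨_, ht, rfl⟩

theorem isCompact_preimage (h𝒳 : IsAlgStack Scheme.fppfPrecoverage 𝒳) (h𝒴 : IsAlgStack Scheme.fppfPrecoverage 𝒴)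
    {f : 𝒳 ⥤ᵇ 𝒴} (hf : IsQuasiCompactMor Scheme.fppfPrecoverage f) {W : Set (Points 𝒴)} (hW : IsOpen W)
    (hWc : IsCompact W) : IsCompact (Points.map f ⁻¹' W) := by
  obtain ⟨O, x, hO, h1, h2⟩ := exists_chart_compact h𝒴 hWc hW subset_rfl
  have hP := isAlgStack_fp (isAlgStack_overCat O) h𝒳 h𝒴 x f
  have := compactSpace_of_isQuasiCompact hP (hf _ (isAlgStack_overCat O) (isQuasiCompact_overCat O) x)
  have hcomm : ∀ w, Points.map x (Points.map (FibCat.fpFst x f) w) = Points.map f (Points.map (FibCat.fpSnd x f) w) := by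
    intro w
    rw [← map_comp_apply, ← map_comp_apply, map_congr (FibCat.fpIso x f)]
  have e : Points.map f ⁻¹' W = Set.range (Points.map (FibCat.fpSnd x f)) := by
    ext b
    constructor
    · intro hb
      obtain ⟨t, ht⟩ := h1 hb
      rw [ofChart_eq_map] at ht
      obtain ⟨w, -, hw⟩ := exists_points_fp h𝒳.isStack.1 h𝒴.isStack.1 (overCat_isFibGrpd O) f x (ptOver t) b ht
      exact ⟨w, hw⟩
    · rintro ⟨w, rfl⟩
      apply h2
      refine ⟨overPtEquiv O (Points.map (FibCat.fpFst x f) w), ?_⟩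
      rw [ofChart_eq_map, Function.comp_apply]
      exact (congrArg _ ((overPtEquiv O).symm_apply_apply _)).trans (hcomm w)
  rw [e]
  exact isCompact_range (continuous_map h𝒳 _)

theorem isQuasiCompactMor_of_preimage [QuasiSeparatedSpace S] (h𝒳 : IsAlgStack Scheme.fppfPrecoverage 𝒳)
    (h𝒴 : IsAlgStack Scheme.fppfPrecoverage 𝒴)
    (hΔ : RepByAlgSpWith AlgSp.IsQuasiCompactMor (FibCat.diag (FibCat.toSelf 𝒴))) {f : 𝒳 ⥤ᵇ 𝒴}
    (hf : ∀ W : Set (Points 𝒴), IsOpen W → IsCompact W → IsCompact (Points.map f ⁻¹' W)) :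
    IsQuasiCompactMor Scheme.fppfPrecoverage f := by
  intro 𝒵 h𝒵 hq g
  have := compactSpace_of_isQuasiCompact h𝒵 hq
  let A := {W : Set (Points 𝒴) // IsOpen W ∧ IsCompact W}
  obtain ⟨s, hs⟩ := isCompact_univ.elim_finite_subcover (fun W : A => Points.map g ⁻¹' W.1)
    (fun W => W.2.1.preimage (continuous_map h𝒴 g)) (fun a _ => by
      obtain ⟨V, h1, h2, h3, -⟩ := exists_compact_nhd h𝒴 (Points.map g a) Set.univ isOpen_univ (Set.mem_univ _)
      exact Set.mem_iUnion.2 ⟨⟨V, h1, h2⟩, h3⟩)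
  let W : Set (Points 𝒴) := ⋃ V ∈ s, V.1
  have hWo : IsOpen W := isOpen_biUnion fun V _ => V.2.1
  have hWc : IsCompact W := s.finite_toSet.isCompact_biUnion fun V _ => V.2.2
  obtain ⟨O, y, hO, h1, -⟩ := exists_chart_compact h𝒳 (hf W hWo hWc) (hWo.preimage (continuous_map h𝒴 f)) subset_rfl
  have hP := isAlgStack_fp h𝒵 h𝒳 h𝒴 g f
  have hQ := isAlgStack_fp hP (isAlgStack_overCat O) h𝒳 (FibCat.fpSnd g f) y
  have hq' : IsQuasiCompact (FibCat.fp (FibCat.fpSnd g f) y) :=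
    (isQuasiCompact_iff_of_isEquivOver (fpComp_isEquivOver g y f)).2
      (isQuasiCompact_fp h𝒵 (isAlgStack_overCat O) h𝒴 hΔ hq (isQuasiCompact_overCat O) g _)
  have := compactSpace_of_isQuasiCompact hQ hq'
  refine isQuasiCompact_of_surjective hP (continuous_map hP (FibCat.fpFst (FibCat.fpSnd g f) y)) fun w => ?_
  have hw : Points.map (FibCat.fpSnd g f) w ∈ Points.map f ⁻¹' W := by
    have hcomm : Points.map g (Points.map (FibCat.fpFst g f) w) = Points.map f (Points.map (FibCat.fpSnd g f) w) := by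
      rw [← map_comp_apply, ← map_comp_apply, map_congr (FibCat.fpIso g f)]
    rw [Set.mem_preimage, ← hcomm]
    obtain ⟨V, hV, hV'⟩ := Set.mem_iUnion₂.1 (hs (Set.mem_univ (Points.map (FibCat.fpFst g f) w)))
    exact Set.mem_iUnion₂.2 ⟨V, hV, hV'⟩
  obtain ⟨t, ht⟩ := h1 hw
  rw [ofChart_eq_map] at ht
  obtain ⟨v, hv, -⟩ := exists_points_fp (overCat_isFibGrpd O) h𝒳.isStack.1 hP.isStack.1 y (FibCat.fpSnd g f) w
    (ptOver t) ht.symm
  exact ⟨v, hv⟩

end Groth.L11.IsoNat
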