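import Groth.Agent.L11.IsoNat.Glue
import Groth.Agent.L24.St.MonoLocal
import Groth.Prelude.Def_AlgSp
import Mathlib.AlgebraicGeometry.Limits
import Mathlib.AlgebraicGeometry.AffineSpace
import Mathlib.AlgebraicGeometry.OpenImmersion

/-!
The union of `n` coordinate axes with a doubled origin, over an arbitrary base scheme.
-/

set_option autoImplicit false
set_option backward.isDefEq.respectTransparency false
set_option backward.isDefEq.respectTransparency.types false

universe u

open CategoryTheory CategoryTheory.Limits AlgebraicGeometry MvPolynomial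

noncomputable section

namespace Groth.L11.IsoNat.Theta

variable {n m : ℕ}

/-- The ideal of the union of the axes. -/
def axesIdeal (n : ℕ) : Ideal (MvPolynomial (Fin n) (ULift.{u} ℤ)) :=
  Ideal.span {p | ∃ i j : Fin n, i ≠ j ∧ p = X i * X j}

/-- The ring of the union of the axes. -/
def R (n : ℕ) : CommRingCat.{u} := CommRingCat.of (MvPolynomial (Fin n) (ULift.{u} ℤ) ⧸ axesIdeal.{u} n)

/-- The coordinates. -/
def coord (i : Fin n) : R.{u} n := Ideal.Quotient.mk (axesIdeal n) (X i)

theorem coord_mul {i j : Fin n} (h : i ≠ j) : coord.{u} i * coord j = 0 := by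
  show Ideal.Quotient.mk (axesIdeal n) (X i) * Ideal.Quotient.mk (axesIdeal n) (X j) = 0
  rw [← map_mul, Ideal.Quotient.eq_zero_iff_mem]
  exact Ideal.subset_span ⟨i, j, h, rfl⟩

/-- A point of the union of the axes. -/
def evalHom {A : Type u} [CommRing A] (v : Fin n → A) (h : ∀ i j, i ≠ j → v i * v j = 0) :
    R.{u} n ⟶ CommRingCat.of A :=
  CommRingCat.ofHom (Ideal.Quotient.lift (axesIdeal n)
    (eval₂Hom ((Int.castRingHom A).comp ULift.ringEquiv.toRingHom) v) (fun p hp => by
      have : axesIdeal.{u} n ≤ RingHom.ker (eval₂Hom ((Int.castRingHom A).comp ULift.ringEquiv.toRingHom) v) := by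
        rw [axesIdeal, Ideal.span_le]
        rintro _ ⟨i, j, hij, rfl⟩
        simp [h i j hij]
      exact this hp))

@[simp] theorem evalHom_coord {A : Type u} [CommRing A] (v : Fin n → A) (h : ∀ i j, i ≠ j → v i * v j = 0)
    (i : Fin n) : (evalHom v h) (coord i) = v i := by
  show Ideal.Quotient.lift (axesIdeal n) _ _ (Ideal.Quotient.mk (axesIdeal n) (X i)) = v i
  simp

theorem hom_ext {A : CommRingCat.{u}} {f g : R.{u} n ⟶ A} (h : ∀ i, f (coord i) = g (coord i)) : f = g := by
  apply CommRingCat.hom_ext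
  refine Ideal.Quotient.ringHom_ext (MvPolynomial.ringHom_ext (fun r => ?_) h)
  have : (f.hom.comp ((Ideal.Quotient.mk (axesIdeal n)).comp C)).comp ULift.ringEquiv.symm.toRingHom =
      (g.hom.comp ((Ideal.Quotient.mk (axesIdeal n)).comp C)).comp ULift.ringEquiv.symm.toRingHom :=
    RingHom.ext_int _ _
  exact DFunLike.congr_fun this r.down

/-- The union of the axes over the integers. -/
abbrev Bs (n : ℕ) : Scheme.{u} := Spec (R.{u} n)

/-- The branch through the `i`-th axis. -/
def br (i : Fin n) : (Bs.{u} n).Opens := PrimeSpectrum.basicOpen (coord.{u} i)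

theorem br_disjoint {i j : Fin n} (h : i ≠ j) : br.{u} i ⊓ br j = ⊥ := by
  rw [br, br]
  exact (PrimeSpectrum.basicOpen_mul _ _).symm.trans (by rw [coord_mul h]; exact PrimeSpectrum.basicOpen_zero)

variable {S : Scheme.{u}} (T : Over S)

/-- The union of the axes over `T`. -/
def Xs (n : ℕ) : Scheme.{u} := pullback (specULiftZIsTerminal.from T.left) (specULiftZIsTerminal.from (Bs.{u} n))

/-- The projection to the base. -/
def pr1 : Xs T n ⟶ T.left := pullback.fst _ _

/-- The projection to the axes. -/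
def pr2 : Xs T n ⟶ Bs.{u} n := pullback.snd _ _

/-- A map into the union of the axes over `T`. -/
def liftX {Q : Scheme.{u}} (p : Q ⟶ T.left) (a : Q ⟶ Bs.{u} n) : Q ⟶ Xs T n :=
  pullback.lift p a (specULiftZIsTerminal.hom_ext _ _)

@[simp] theorem liftX_pr1 {Q : Scheme.{u}} (p : Q ⟶ T.left) (a : Q ⟶ Bs.{u} n) : liftX T p a ≫ pr1 T = p :=
  pullback.lift_fst _ _ _

@[simp] theorem liftX_pr2 {Q : Scheme.{u}} (p : Q ⟶ T.left) (a : Q ⟶ Bs.{u} n) : liftX T p a ≫ pr2 T = a :=
  pullback.lift_snd _ _ _

theorem X_ext {Q : Scheme.{u}} {f g : Q ⟶ Xs T n} (h1 : f ≫ pr1 T = g ≫ pr1 T) (h2 : f ≫ pr2 T = g ≫ pr2 T) :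
    f = g := pullback.hom_ext h1 h2

/-- The `i`-th branch over `T`. -/
def vOpen (i : Fin n) : (Xs T n).Opens := pr2 T ⁻¹ᵁ br i

theorem vOpen_disjoint {i j : Fin n} (h : i ≠ j) : vOpen T i ⊓ vOpen T j = ⊥ := by
  rw [vOpen, vOpen, ← Scheme.Hom.preimage_inf, br_disjoint h]
  rfl

/-- The complement of the origin. -/
def punct : (Xs T n).Opens := ⨆ i, vOpen T i

/-- The union of the axes with a doubled origin, over `T`. -/
def Cs (n : ℕ) : Scheme.{u} := pushout (punct T (n := n)).ι (punct T (n := n)).ι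

/-- The structure map of the doubled axes. -/
def piS : Cs T n ⟶ T.left := pushout.desc (pr1 T) (pr1 T) rfl

/-- The union of the axes as an object over `S`. -/
def Xo (n : ℕ) : Over S := Over.mk (pr1 T (n := n) ≫ T.hom)

/-- The doubled axes as an object over `S`. -/
def Co (n : ℕ) : Over S := Over.mk (piS T (n := n) ≫ T.hom)

/-- The projection of the doubled axes. -/
def proj : Co T n ⟶ T := Over.homMk (piS T) rfl

/-- The projection of the axes. -/
def projX : Xo T n ⟶ T := Over.homMk (pr1 T) rfl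

/-- The two copies of the axes. -/
def incl : Bool → (Xo T n ⟶ Co T n)
  | true => Over.homMk (pushout.inl _ _) (by
      show pushout.inl _ _ ≫ piS T ≫ T.hom = pr1 T ≫ T.hom
      rw [← Category.assoc, piS, pushout.inl_desc])
  | false => Over.homMk (pushout.inr _ _) (by
      show pushout.inr _ _ ≫ piS T ≫ T.hom = pr1 T ≫ T.hom
      rw [← Category.assoc, piS, pushout.inr_desc])

@[reassoc (attr := simp)] theorem incl_proj (b : Bool) : incl T b ≫ proj T = projX T (n := n) := by
  apply Over.OverMorphism.ext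
  cases b
  · exact pushout.inr_desc _ _ _
  · exact pushout.inl_desc _ _ _

instance incl_isOpenImmersion (b : Bool) : IsOpenImmersion (incl T b (n := n)).left := by
  cases b
  · exact inferInstanceAs (IsOpenImmersion (colimit.ι (span (punct T (n := n)).ι (punct T (n := n)).ι) WalkingSpan.right))
  · exact inferInstanceAs (IsOpenImmersion (colimit.ι (span (punct T (n := n)).ι (punct T (n := n)).ι) WalkingSpan.left))

theorem incl_eq_of_mem {Q : Over S} (l : Q ⟶ Xo T n) (h : ∀ x, l.left x ∈ punct T (n := n)) :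
    l ≫ incl T true = l ≫ incl T false := by
  apply Over.OverMorphism.ext
  have hl : Set.range l.left ⊆ Set.range (punct T (n := n)).ι := by
    rw [Scheme.Opens.range_ι]; rintro _ ⟨x, rfl⟩; exact h x
  show l.left ≫ pushout.inl _ _ = l.left ≫ pushout.inr _ _
  rw [← IsOpenImmersion.lift_fac _ _ hl, Category.assoc, Category.assoc, pushout.condition]

theorem mem_punct_of_eq {a b : ↥(Xs T n)}
    (h : (incl T true (n := n)).left a = (incl T false (n := n)).left b) : a ∈ punct T (n := n) ∧ a = b := by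
  obtain ⟨k, fi, fj, x, ha, hb⟩ := (Scheme.IsLocallyDirected.ι_eq_ι_iff
    (span (punct T (n := n)).ι (punct T (n := n)).ι) (i := WalkingSpan.left) (j := WalkingSpan.right)).1 h
  obtain (_ | (_ | _)) := k
  · obtain rfl : fi = WalkingSpan.Hom.fst := Subsingleton.elim _ _
    obtain rfl : fj = WalkingSpan.Hom.snd := Subsingleton.elim _ _
    simp only [span_map_fst] at ha
    simp only [span_map_snd] at hb
    subst ha; subst hb
    exact ⟨x.2, rfl⟩
  · cases fj
  · cases fi

theorem jointly_surjective (c : ↥(Cs T n)) : ∃ (b : Bool) (x : ↥(Xs T n)), (incl T b).left x = c := by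
  obtain ⟨k, x, rfl⟩ := Scheme.IsLocallyDirected.ι_jointly_surjective
    (span (punct T (n := n)).ι (punct T (n := n)).ι) c
  obtain (_ | (_ | _)) := k
  · refine ⟨true, (punct T (n := n)).ι x, ?_⟩
    exact (Scheme.Hom.comp_apply _ _ x).symm.trans (congrArg (fun f : (span (punct T (n := n)).ι (punct T (n := n)).ι).obj none ⟶
        colimit (span (punct T (n := n)).ι (punct T (n := n)).ι) => f x)
      (colimit.w (span (punct T (n := n)).ι (punct T (n := n)).ι) WalkingSpan.Hom.fst))
  · exact ⟨true, x, rfl⟩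
  · exact ⟨false, x, rfl⟩

/-- Morphisms to `C` lifting along a given morphism. -/
def liftSieve {U C : Over S} (u : U ⟶ C) : Sieve C where
  arrows Q q := ∃ l : Q ⟶ U, l ≫ u = q
  downward_closed := fun ⟨l, hl⟩ g => ⟨g ≫ l, by rw [Category.assoc, hl]⟩

/-- The `i`-th branch as an object over `S`. -/
def Vo (i : Fin n) : Over S := Over.mk ((vOpen T i).ι ≫ (Xo T n).hom)

/-- The inclusion of the `i`-th branch. -/
def vIncl (i : Fin n) : Vo T i ⟶ Xo T n := Over.homMk (vOpen T i).ι rfl

theorem exists_fac_of_mem {Q : Over S} (l : Q ⟶ Xo T n) {i : Fin n} (h : ∀ x, l.left x ∈ vOpen T i) :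
    ∃ k : Q ⟶ Vo T i, k ≫ vIncl T i = l := by
  have hl : Set.range l.left ⊆ Set.range (vOpen T i).ι := by
    rw [Scheme.Opens.range_ι]; rintro _ ⟨x, rfl⟩; exact h x
  refine ⟨Over.homMk (IsOpenImmersion.lift (vOpen T i).ι l.left hl) ?_,
    Over.OverMorphism.ext (IsOpenImmersion.lift_fac _ _ hl)⟩
  show _ ≫ (vOpen T i).ι ≫ (Xo T n).hom = _
  rw [← Category.assoc, IsOpenImmersion.lift_fac]
  exact Over.w l

theorem vIncl_incl (i : Fin n) : vIncl T i ≫ incl T true = vIncl T i ≫ incl T false :=
  incl_eq_of_mem T _ fun x => le_iSup (vOpen T) i x.2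

theorem generate_le_bot_mem {Q : Over S} [IsEmpty ↥Q.left] : ⊥ ∈ AlgSp.J S Q := by
  refine GrothendieckTopology.superset_covering _ ?_ (Groth.L24.St.generate_mem_J (T := Q)
    (fun i : PEmpty.{u + 1} => i.elim) (fun i => i.elim) (fun i => i.elim) (fun i => i.elim)
    (fun t => isEmptyElim t))
  rintro V f ⟨_, _, _, ⟨i⟩, _⟩
  exact i.elim

theorem cover_of_opens {Q : Over S} {ι : Type u} (O : ι → Q.left.Opens) (hO : ∀ t, ∃ i, t ∈ O i) (P : Sieve Q)
    (hP : ∀ i, P (Over.homMk (O i).ι rfl : Over.mk ((O i).ι ≫ Q.hom) ⟶ Q)) : P ∈ AlgSp.J S Q := by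
  refine GrothendieckTopology.superset_covering _ ?_ (Groth.L24.St.generate_mem_J (T := Q)
    (fun i => Over.mk ((O i).ι ≫ Q.hom)) (fun i => Over.homMk (O i).ι rfl)
    (fun i => inferInstanceAs (Flat (O i).ι)) (fun i => inferInstanceAs (LocallyOfFinitePresentation (O i).ι))
    (fun t => ?_))
  · rintro V f ⟨_, g, _, ⟨i⟩, rfl⟩
    exact P.downward_closed (hP i) g
  · obtain ⟨i, hi⟩ := hO t
    exact ⟨i, ⟨t, hi⟩, rfl⟩

/-- The doubled axes are covered by the two copies, meeting in the disjoint branches. -/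
def cover (n : ℕ) : Cover2 (AlgSp.J S) (Co T n) (Fin n) where
  P b := liftSieve (incl T b)
  I i := liftSieve (vIncl T i ≫ incl T true)
  cover := by
    refine GrothendieckTopology.superset_covering _ ?_ (Groth.L24.St.generate_mem_J (T := Co T n)
      (fun _ : ULift.{u} Bool => Xo T n) (fun b => incl T b.down) (fun b => inferInstance) (fun b => inferInstance)
      (fun c => ?_))
    · rintro V f ⟨_, g, _, ⟨b⟩, rfl⟩
      exact ⟨b.down, g, rfl⟩
    · obtain ⟨b, x, hx⟩ := jointly_surjective T c
      exact ⟨⟨b⟩, x, hx⟩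
  le i b := by
    rintro Q q ⟨k, rfl⟩
    refine ⟨k ≫ vIncl T i, ?_⟩
    cases b
    · rw [Category.assoc, vIncl_incl]
    · rw [Category.assoc]
  inter Q q ht hf := by
    obtain ⟨l, hl⟩ := ht
    obtain ⟨l', hl'⟩ := hf
    refine cover_of_opens (ι := ULift.{u} (Fin n)) (fun i => l.left ⁻¹ᵁ vOpen T i.down) (fun t => ?_) _
      (fun i => ⟨i.down, ?_⟩)
    · have e : (incl T true (n := n)).left (l.left t) = (incl T false (n := n)).left (l'.left t) :=
        congrArg (fun f : Q ⟶ Co T n => f.left t) (hl.trans hl'.symm)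
      obtain ⟨i, hi⟩ := TopologicalSpace.Opens.mem_iSup.1 (mem_punct_of_eq T e).1
      exact ⟨⟨i⟩, hi⟩
    · obtain ⟨k, hk⟩ := exists_fac_of_mem T
        ((Over.homMk (l.left ⁻¹ᵁ vOpen T i.down).ι rfl : Over.mk ((l.left ⁻¹ᵁ vOpen T i.down).ι ≫ Q.hom) ⟶ Q) ≫ l) (i := i.down) (fun x => x.2)
      exact ⟨k, by rw [← Category.assoc, hk, Category.assoc, hl]⟩
  disj i j Q q hij hi hj := by
    obtain ⟨k, hk⟩ := hi
    obtain ⟨k', hk'⟩ := hj
    have : IsEmpty ↥Q.left := ⟨fun x => by
      have e : (incl T true (n := n)).left ((k ≫ vIncl T i).left x) =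
          (incl T true (n := n)).left ((k' ≫ vIncl T j).left x) :=
        congrArg (fun f : Q ⟶ Co T n => f.left x) ((Category.assoc _ _ _).trans
          ((hk.trans hk'.symm).trans (Category.assoc _ _ _).symm))
      have e' := (incl T true (n := n)).left.isOpenEmbedding.injective e
      have h1 : (k ≫ vIncl T i).left x ∈ vOpen T i := (k.left x).2
      have h2 : (k ≫ vIncl T i).left x ∈ vOpen T j := e' ▸ (k'.left x).2
      have h3 : (k ≫ vIncl T i).left x ∈ vOpen T i ⊓ vOpen T j := ⟨h1, h2⟩
      rw [vOpen_disjoint T hij] at h3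
      exact h3⟩
    exact generate_le_bot_mem

/-- The origin. -/
def originX (n : ℕ) : T ⟶ Xo T n :=
  Over.homMk (liftX T (𝟙 _) (specULiftZIsTerminal.from T.left ≫
      Spec.map (evalHom (A := ULift.{u} ℤ) (fun _ : Fin n => 0) (fun _ _ _ => mul_zero _)))) (by
    show liftX T _ _ ≫ pr1 T ≫ T.hom = T.hom
    rw [← Category.assoc, liftX_pr1, Category.id_comp])

@[reassoc (attr := simp)] theorem originX_projX : originX T n ≫ projX T = 𝟙 T :=
  Over.OverMorphism.ext (liftX_pr1 T _ _)

/-- Coordinates of the map of axes attached to an injection. -/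
def reVal (σ : Fin m ↪ Fin n) (k : Fin n) : R.{u} m := ∑ i, if σ i = k then coord i else 0

theorem reVal_apply (σ : Fin m ↪ Fin n) (i : Fin m) : reVal.{u} σ (σ i) = coord i := by
  rw [reVal, Finset.sum_eq_single i]
  · simp
  · intro j _ hj; simp [hj]
  · simp

theorem reVal_mul (σ : Fin m ↪ Fin n) {k l : Fin n} (h : k ≠ l) : reVal.{u} σ k * reVal σ l = 0 := by
  rw [reVal, reVal, Finset.sum_mul_sum]
  refine Finset.sum_eq_zero fun i _ => Finset.sum_eq_zero fun j _ => ?_
  by_cases hi : σ i = k <;> by_cases hj : σ j = l <;> simp [hi, hj]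
  exact coord_mul fun e => h (by rw [← hi, ← hj, e])

/-- The map of axes attached to an injection. -/
def reX (σ : Fin m ↪ Fin n) : Xo T m ⟶ Xo T n :=
  Over.homMk (liftX T (pr1 T) (pr2 T ≫ Spec.map (evalHom (A := (R.{u} m)) (reVal σ) (fun _ _ h => reVal_mul σ h))))
    (by
      show liftX T _ _ ≫ pr1 T ≫ T.hom = pr1 T ≫ T.hom
      rw [← Category.assoc, liftX_pr1])

@[reassoc (attr := simp)] theorem reX_projX (σ : Fin m ↪ Fin n) : reX T σ ≫ projX T = projX T :=
  Over.OverMorphism.ext (liftX_pr1 T _ _)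

theorem preimage_liftX {Q : Scheme.{u}} (p : Q ⟶ T.left) {B : CommRingCat.{u}} (a : Q ⟶ Spec B)
    (φ : R.{u} n ⟶ B) (i : Fin n) :
    liftX T p (a ≫ Spec.map φ) ⁻¹ᵁ vOpen T i = a ⁻¹ᵁ PrimeSpectrum.basicOpen (φ (coord i)) := by
  rw [vOpen, ← Scheme.Hom.comp_preimage, liftX_pr2, Scheme.Hom.comp_preimage, br, SpecMap_preimage_basicOpen]

theorem reX_mem (σ : Fin m ↪ Fin n) {i : Fin m} {x : ↥(Xs T m)} (h : x ∈ vOpen T i) :
    (reX T σ).left x ∈ vOpen T (σ i) := by
  show x ∈ liftX T _ _ ⁻¹ᵁ vOpen T (σ i)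
  rw [preimage_liftX, evalHom_coord, reVal_apply]
  exact h

theorem reX_mem_punct (σ : Fin m ↪ Fin n) (x : ↥(punct T (n := m)).toScheme) :
    (reX T σ).left ((punct T (n := m)).ι x) ∈ punct T (n := n) := by
  obtain ⟨i, hi⟩ := TopologicalSpace.Opens.mem_iSup.1 x.2
  exact TopologicalSpace.Opens.mem_iSup.2 ⟨σ i, reX_mem T σ hi⟩

/-- The map of doubled axes attached to an injection. -/
def reC (σ : Fin m ↪ Fin n) : Co T m ⟶ Co T n :=
  Over.homMk (pushout.desc ((reX T σ).left ≫ (incl T true).left) ((reX T σ).left ≫ (incl T false).left) (by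
      let j : Over.mk ((punct T (n := m)).ι ≫ (Xo T m).hom) ⟶ Xo T m := Over.homMk (punct T (n := m)).ι rfl
      exact congrArg CommaMorphism.left (incl_eq_of_mem T (j ≫ reX T σ) (fun x => reX_mem_punct T σ x))))
    (by
      apply pushout.hom_ext
      · rw [pushout.inl_desc_assoc, Category.assoc]
        exact ((congrArg ((reX T σ).left ≫ ·) (Over.w (incl T true))).trans (Over.w (reX T σ))).trans
          (Over.w (incl T true)).symm
      · rw [pushout.inr_desc_assoc, Category.assoc]
        exact ((congrArg ((reX T σ).left ≫ ·) (Over.w (incl T false))).trans (Over.w (reX T σ))).trans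
          (Over.w (incl T false)).symm)

@[reassoc (attr := simp)] theorem incl_reC (σ : Fin m ↪ Fin n) (b : Bool) :
    incl T b ≫ reC T σ = reX T σ ≫ incl T b := by
  apply Over.OverMorphism.ext
  cases b
  · exact pushout.inr_desc _ _ _
  · exact pushout.inl_desc _ _ _

@[reassoc (attr := simp)] theorem reC_proj (σ : Fin m ↪ Fin n) : reC T σ ≫ proj T = proj T := by
  apply Over.OverMorphism.ext
  apply pushout.hom_ext
  · show pushout.inl _ _ ≫ (pushout.desc _ _ _ ≫ piS T) = pushout.inl _ _ ≫ piS T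
    rw [pushout.inl_desc_assoc]
    exact ((Category.assoc _ _ _).trans (congrArg ((reX T σ).left ≫ ·) (pushout.inl_desc _ _ _))).trans
      ((congrArg CommaMorphism.left (reX_projX T σ)).trans (pushout.inl_desc _ _ _).symm)
  · show pushout.inr _ _ ≫ (pushout.desc _ _ _ ≫ piS T) = pushout.inr _ _ ≫ piS T
    rw [pushout.inr_desc_assoc]
    exact ((Category.assoc _ _ _).trans (congrArg ((reX T σ).left ≫ ·) (pushout.inr_desc _ _ _))).trans
      ((congrArg CommaMorphism.left (reX_projX T σ)).trans (pushout.inr_desc _ _ _).symm)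

theorem reC_I (σ : Fin m ↪ Fin n) {i : Fin m} {Q : Over S} {q : Q ⟶ Co T m} (h : (cover T m).I i q) :
    (cover T n).I (σ i) (q ≫ reC T σ) := by
  obtain ⟨k, rfl⟩ := h
  obtain ⟨k', hk'⟩ := exists_fac_of_mem T ((k ≫ vIncl T i) ≫ reX T σ) (i := σ i)
    (fun x => reX_mem T σ (k.left x).2)
  refine ⟨k', ?_⟩
  rw [← Category.assoc, hk']
  simp

theorem reC_P (σ : Fin m ↪ Fin n) {b : Bool} {Q : Over S} {q : Q ⟶ Co T m} (h : (cover T m).P b q) :
    (cover T n).P b (q ≫ reC T σ) := by
  obtain ⟨k, rfl⟩ := h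
  exact ⟨k ≫ reX T σ, by simp⟩

section Affine

variable {A : CommRingCat.{u}} (g : Spec A ⟶ T.left)

/-- The affine piece of the base. -/
def pieceO : Over S := Over.mk (g ≫ T.hom)

/-- The piece into the base. -/
def pieceHom : pieceO T g ⟶ T := Over.homMk g rfl

/-- The affine line over the piece. -/
def lineW : Over S :=
  Over.mk (Spec.map (CommRingCat.ofHom (Polynomial.C : A →+* Polynomial A)) ≫ g ≫ T.hom)

/-- The punctured line over the piece. -/
def lineV : Over S :=
  Over.mk (Spec.map (CommRingCat.ofHom (algebraMap (Polynomial A) (Localization.Away (Polynomial.X : Polynomial A)))) ≫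
    (lineW T g).hom)

/-- The punctured line in the line. -/
def lineJ : lineV T g ⟶ lineW T g :=
  Over.homMk (Spec.map (CommRingCat.ofHom (algebraMap (Polynomial A) (Localization.Away (Polynomial.X : Polynomial A))))) rfl

/-- The line maps to the base. -/
def lineP : lineW T g ⟶ T :=
  Over.homMk (Spec.map (CommRingCat.ofHom (Polynomial.C : A →+* Polynomial A)) ≫ g) (Category.assoc _ _ _)

/-- The zero section of the line. -/
def lineZero : pieceO T g ⟶ lineW T g :=
  Over.homMk (Spec.map (CommRingCat.ofHom (Polynomial.evalRingHom (0 : A)))) (by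
    show Spec.map _ ≫ Spec.map _ ≫ g ≫ T.hom = g ≫ T.hom
    rw [← Spec.map_comp_assoc, ← CommRingCat.ofHom_comp,
      show (Polynomial.evalRingHom (0 : A)).comp Polynomial.C = RingHom.id A from RingHom.ext fun a => by simp,
      CommRingCat.ofHom_id]
    exact (congrArg (· ≫ g ≫ T.hom) (Spec.map_id A)).trans (Category.id_comp _))

/-- The `i`-th axis over the piece. -/
def lineX (i : Fin n) : lineW T g ⟶ Xo T n :=
  Over.homMk (liftX T (lineP T g).left (𝟙 (Spec (CommRingCat.of (Polynomial A))) ≫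
      Spec.map (evalHom (A := Polynomial A) (Pi.single i Polynomial.X) (fun k l h => by
        by_cases hk : k = i
        · subst hk; simp [Ne.symm h]
        · simp [hk])))) (by
    show liftX T _ _ ≫ pr1 T ≫ T.hom = (lineW T g).hom
    rw [← Category.assoc, liftX_pr1]
    exact Category.assoc _ _ _)

@[reassoc (attr := simp)] theorem lineX_projX (i : Fin n) : lineX T g i ≫ projX T = lineP T g :=
  Over.OverMorphism.ext (liftX_pr1 T _ _)

theorem lineJ_mem (i : Fin n) (x : ↥(lineV T g).left) : (lineJ T g ≫ lineX T g i).left x ∈ vOpen T i := by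
  show (lineJ T g).left x ∈ liftX T _ _ ⁻¹ᵁ vOpen T i
  rw [preimage_liftX, evalHom_coord, Pi.single_eq_same]
  show algebraMap (Polynomial A) (Localization.Away (Polynomial.X : Polynomial A)) Polynomial.X ∉ x.asIdeal
  exact fun hx => x.isPrime.ne_top (Ideal.eq_top_of_isUnit_mem _ hx
    (IsLocalization.Away.algebraMap_isUnit (Polynomial.X : Polynomial A)))

theorem lineZero_lineX (i : Fin n) : lineZero T g ≫ lineX T g i = pieceHom T g ≫ originX T n := by
  apply Over.OverMorphism.ext
  apply X_ext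
  · show (_ ≫ liftX T _ _) ≫ pr1 T = (g ≫ liftX T _ _) ≫ pr1 T
    rw [Category.assoc, Category.assoc, liftX_pr1, liftX_pr1, Category.comp_id]
    show Spec.map _ ≫ Spec.map _ ≫ g = g
    rw [← Spec.map_comp_assoc, ← CommRingCat.ofHom_comp,
      show (Polynomial.evalRingHom (0 : A)).comp Polynomial.C = RingHom.id A from RingHom.ext fun a => by simp,
      CommRingCat.ofHom_id]
    exact (congrArg (· ≫ g) (Spec.map_id A)).trans (Category.id_comp _)
  · show (_ ≫ liftX T _ _) ≫ pr2 T = (g ≫ liftX T _ _) ≫ pr2 T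
    rw [Category.assoc, Category.assoc, liftX_pr2, liftX_pr2]
    erw [Category.id_comp]
    rw [← Category.assoc g]
    show Spec.map _ ≫ Spec.map _ = (g ≫ specULiftZIsTerminal.from T.left) ≫ Spec.map _
    rw [show g ≫ specULiftZIsTerminal.from T.left =
        Spec.map (CommRingCat.ofHom ((Int.castRingHom A).comp ULift.ringEquiv.toRingHom)) from
      specULiftZIsTerminal.hom_ext _ _, ← Spec.map_comp, ← Spec.map_comp]
    congr 1
    refine hom_ext fun k => ?_
    show (Polynomial.evalRingHom (0 : A)) ((evalHom _ _) (coord k)) =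
      ((Int.castRingHom A).comp ULift.ringEquiv.toRingHom) ((evalHom _ _) (coord k))
    erw [evalHom_coord, evalHom_coord]
    by_cases hk : k = i
    · subst hk; simp
    · simp [hk]

theorem closedDense_lineJ : ∀ ⦃Z : Scheme.{u}⦄ (i : Z ⟶ (lineW T g).left) [IsClosedImmersion i],
    (∃ l, l ≫ i = (lineJ T g).left) → IsIso i := by
  rintro Z i _ ⟨l, hl⟩
  have : IsAffine (lineW T g).left := inferInstanceAs (IsAffine (Spec (CommRingCat.of (Polynomial A))))
  have hinj : Function.Injective (lineJ T g).left.appTop := by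
    have hf : Function.Injective
        (algebraMap (Polynomial A) (Localization.Away (Polynomial.X : Polynomial A))) := by
      refine IsLocalization.injective _ (M := Submonoid.powers (Polynomial.X : Polynomial A)) ?_
      rintro _ ⟨k, rfl⟩
      exact mem_nonZeroDivisors_iff_right.2 fun p hp => by
        simpa using (Polynomial.Monic.mul_left_eq_zero_iff (Polynomial.monic_X_pow k)).1 hp
    intro a b hab
    have h1 := congrArg (Scheme.ΓSpecIso _).hom hab
    have h2 := Scheme.ΓSpecIso_naturality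
      (CommRingCat.ofHom (algebraMap (Polynomial A) (Localization.Away (Polynomial.X : Polynomial A))))
    have ha := congrArg (fun f => f a) h2
    have hb := congrArg (fun f => f b) h2
    simp only [CommRingCat.comp_apply] at ha hb
    have : (Scheme.ΓSpecIso (CommRingCat.of (Polynomial A))).hom a = (Scheme.ΓSpecIso (CommRingCat.of (Polynomial A))).hom b :=
      hf (ha.symm.trans (h1.trans hb))
    exact (ConcreteCategory.bijective_of_isIso (Scheme.ΓSpecIso (CommRingCat.of (Polynomial A))).hom).1 this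
  refine IsClosedImmersion.isIso_of_injective_of_isAffine fun a b hab => hinj ?_
  rw [← hl, Scheme.Hom.comp_appTop]
  exact congrArg l.appTop hab

end Affine

end Groth.L11.IsoNat.Theta
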