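import Groth.Agent.L11.IsoNat.Classify
import Groth.Agent.L09.FibYoneda

/-!
Transfer of automorphism groups along an isomorphism of presheaves of isomorphism classes.
-/

set_option autoImplicit false

universe u

open CategoryTheory CategoryTheory.Limits AlgebraicGeometry

noncomputable section

namespace Groth.L11.IsoNat

/-- Stacks with separated quasi-compact diagonal. -/
structure Good {S : Scheme.{u}} (𝒳 : AlgSt.Cat S) : Prop where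
  st : Stk.IsStack (AlgSp.J S) 𝒳
  diag : AlgSt.RepByAlgSpWith (AlgSp.IsSeparatedMor ⊓ AlgSp.IsQuasiCompactMor) (FibCat.diag (FibCat.toSelf 𝒳))

variable {S : Scheme.{u}} {𝒳 𝒴 : AlgSt.Cat S} {T : Over S} {n m : ℕ}

/-- Forms matched by the bijection on classes. -/
def Corr (φ : IsoNat.FIso 𝒳 𝒴) (hX : Good 𝒳) (hY : Good 𝒴) (G₀ : FibCat.overCat T ⥤ᵇ 𝒳)
    (G₀' : FibCat.overCat T ⥤ᵇ 𝒴) (g : Fin n → Aut G₀) (g' : Fin n → Aut G₀') : Prop :=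
  φ.toEquiv _ (formCls G₀ hX.st g) = formCls G₀' hY.st g'

variable {φ : IsoNat.FIso 𝒳 𝒴} {hX : Good 𝒳} {hY : Good 𝒴} {G₀ : FibCat.overCat T ⥤ᵇ 𝒳}
  {G₀' : FibCat.overCat T ⥤ᵇ 𝒴}

theorem exists_corr (h₀ : φ.toEquiv T (IsoNat.objCls G₀) = IsoNat.objCls G₀') (g : Fin n → Aut G₀) :
    ∃ g', Corr φ hX hY G₀ G₀' g g' := by
  have := triv_fIso φ hX.st.1 hY.st.1 (triv_formCls G₀ hX.st g)
  rw [h₀] at this
  exact exists_formCls_of_triv hY.st this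

theorem exists_corr_inv (h₀ : φ.toEquiv T (IsoNat.objCls G₀) = IsoNat.objCls G₀') (g' : Fin n → Aut G₀') :
    ∃ g, Corr φ hX hY G₀ G₀' g g' := by
  have := triv_fIso (fIsoSymm φ hX.st.1 hY.st.1) hY.st.1 hX.st.1 (triv_formCls G₀' hY.st g')
  rw [show (fIsoSymm φ hX.st.1 hY.st.1).toEquiv T (IsoNat.objCls G₀') = IsoNat.objCls G₀ by
    rw [fIsoSymm_toEquiv, Equiv.symm_apply_eq, h₀]] at this
  obtain ⟨g, hg⟩ := exists_formCls_of_triv hX.st this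
  exact ⟨g, (Equiv.symm_apply_eq _).1 hg |>.symm⟩

theorem Corr.comp {g : Fin n → Aut G₀} {g' : Fin n → Aut G₀'} (hg : Corr φ hX hY G₀ G₀' g g') (σ : Fin m ↪ Fin n) :
    Corr φ hX hY G₀ G₀' (g ∘ σ) (g' ∘ σ) := by
  show φ.toEquiv _ _ = _
  rw [← pullC_formCls hX.st, fIso_pullC φ hX.st.1 hY.st.1, hg, pullC_formCls hY.st]

theorem Corr.rel {g k : Fin n → Aut G₀} {g' k' : Fin n → Aut G₀'} (hg : Corr φ hX hY G₀ G₀' g g')
    (hk : Corr φ hX hY G₀ G₀' k k') :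
    (∃ a b : Aut G₀, ∀ i, k i * a = b * g i) ↔ ∃ a b : Aut G₀', ∀ i, k' i * a = b * g' i := by
  rw [← formCls_eq_iff G₀ hX.st hX.diag, ← formCls_eq_iff G₀' hY.st hY.diag, ← hg, ← hk]
  exact (φ.toEquiv _).apply_eq_iff_eq.symm

/-- An embedding of a pair. -/
def pair (i j : Fin 3) (h : i ≠ j) : Fin 2 ↪ Fin 3 :=
  ⟨![i, j], fun a b e => by fin_cases a <;> fin_cases b <;> simp_all [eq_comm]⟩

section Rel

variable {G : Type*} [Group G] (hc : ∀ a b : G, a * b = b * a)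

include hc

theorem rel_comm {n : ℕ} {g g' : Fin n → G} (i j : Fin n) (h : ∃ a b : G, ∀ k, g' k * a = b * g k) :
    (g' i)⁻¹ * g' j = (g i)⁻¹ * g j := by
  obtain ⟨a, b, e⟩ := h
  have e1 : ∀ k, g' k = (b * a⁻¹) * g k := fun k => by
    rw [mul_assoc, hc a⁻¹, ← mul_assoc, ← e k, mul_inv_cancel_right]
  rw [e1 i, e1 j, mul_inv_rev, mul_assoc, inv_mul_cancel_left]

theorem rel_of_ratio {n : ℕ} (i : Fin n) {g g' : Fin n → G} (h : ∀ j, (g' i)⁻¹ * g' j = (g i)⁻¹ * g j) :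
    ∃ a b : G, ∀ k, g' k * a = b * g k :=
  ⟨1, g' i * (g i)⁻¹, fun k => by rw [mul_one, mul_assoc, ← h k, mul_inv_cancel_left]⟩

end Rel

theorem comm_transfer (h₀ : φ.toEquiv T (IsoNat.objCls G₀) = IsoNat.objCls G₀') (hX : Good 𝒳) (hY : Good 𝒴)
    (hc : ∀ a b : Aut G₀, a * b = b * a) (g k : Aut G₀') : g * k = k * g := by
  obtain ⟨s, hs⟩ := exists_corr_inv (hX := hX) (hY := hY) h₀ ![1, g, k * g * k⁻¹]
  obtain ⟨t, ht⟩ := exists_corr_inv (hX := hX) (hY := hY) h₀ ![1, g, g]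
  let p01 := pair 0 1 (by decide)
  let p02 := pair 0 2 (by decide)
  -- in the source the two forms have the same ratios
  have e1 : (s 0)⁻¹ * s 2 = (s 0)⁻¹ * s 1 := by
    refine rel_comm hc (0 : Fin 2) 1 (g := s ∘ p01) (g' := s ∘ p02) ((Corr.rel (hs.comp p01) (hs.comp p02)).2 ⟨k, k, ?_⟩)
    intro i
    fin_cases i
    · show (1 : Aut G₀') * k = k * 1
      rw [one_mul, mul_one]
    · show k * g * k⁻¹ * k = k * g
      rw [inv_mul_cancel_right]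
  have e2 : (t 0)⁻¹ * t 2 = (t 0)⁻¹ * t 1 :=
    rel_comm hc (0 : Fin 2) 1 (g := t ∘ p01) (g' := t ∘ p02) ((Corr.rel (ht.comp p01) (ht.comp p02)).2 ⟨1, 1, fun i => by
      fin_cases i <;> show _ * (1 : Aut G₀') = 1 * _ <;> simp [p01, p02, pair]⟩)
  have e3 : (t 0)⁻¹ * t 1 = (s 0)⁻¹ * s 1 :=
    rel_comm hc (0 : Fin 2) 1 (g := s ∘ p01) (g' := t ∘ p01) ((Corr.rel (hs.comp p01) (ht.comp p01)).2 ⟨1, 1, fun i => by
      fin_cases i <;> show _ * (1 : Aut G₀') = 1 * _ <;> simp [p01, pair]⟩)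
  have hst : ∃ a b : Aut G₀, ∀ i, t i * a = b * s i := rel_of_ratio hc 0 fun j => by
    fin_cases j
    · show (t 0)⁻¹ * t 0 = (s 0)⁻¹ * s 0
      rw [inv_mul_cancel, inv_mul_cancel]
    · exact e3
    · show (t 0)⁻¹ * t 2 = (s 0)⁻¹ * s 2
      rw [e2, e1, e3]
  obtain ⟨a, b, e⟩ := (Corr.rel hs ht).1 hst
  have f0 : a = b := by simpa using e 0
  have f1 : g * a = a * g := by simpa [← f0] using e 1
  have f2 : g * a = a * (k * g * k⁻¹) := by simpa [← f0] using e 2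
  have : g = k * g * k⁻¹ := mul_left_cancel (f1.symm.trans f2)
  calc g * k = k * g * k⁻¹ * k := by rw [← this]
    _ = k * g := inv_mul_cancel_right _ _

theorem nonempty_mulEquiv (h₀ : φ.toEquiv T (IsoNat.objCls G₀) = IsoNat.objCls G₀') (hX : Good 𝒳) (hY : Good 𝒴)
    (hc : ∀ a b : Aut G₀, a * b = b * a) : Nonempty (Aut G₀ ≃* Aut G₀') := by
  have hc' : ∀ a b : Aut G₀', a * b = b * a := comm_transfer h₀ hX hY hc
  choose F' hF' using fun g : Aut G₀ => exists_corr (hX := hX) (hY := hY) h₀ ![1, g]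
  let F : Aut G₀ → Aut G₀' := fun g => (F' g 0)⁻¹ * F' g 1
  have hF : ∀ (s : Fin 2 → Aut G₀) (s' : Fin 2 → Aut G₀'), Corr φ hX hY G₀ G₀' s s' →
      F ((s 0)⁻¹ * s 1) = (s' 0)⁻¹ * s' 1 := fun s s' hs =>
    rel_comm hc' 0 1 ((Corr.rel hs (hF' _)).1 (rel_of_ratio hc 0 fun j => by fin_cases j <;> simp))
  refine ⟨MulEquiv.ofBijective (MonoidHom.mk' F fun g k => ?_) ⟨fun g k e => ?_, fun r => ?_⟩⟩
  · obtain ⟨t', ht⟩ := exists_corr (hX := hX) (hY := hY) h₀ ![1, g, g * k]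
    have a : F g = (t' 0)⁻¹ * t' 1 := by simpa [pair] using hF _ _ (ht.comp (pair 0 1 (by decide)))
    have b : F (g * k) = (t' 0)⁻¹ * t' 2 := by simpa [pair] using hF _ _ (ht.comp (pair 0 2 (by decide)))
    have c : F k = (t' 1)⁻¹ * t' 2 := by simpa [pair] using hF _ _ (ht.comp (pair 1 2 (by decide)))
    rw [a, b, c, mul_assoc, mul_inv_cancel_left]
  · have := rel_comm hc (0 : Fin 2) 1 ((Corr.rel (hF' g) (hF' k)).2 (rel_of_ratio hc' (0 : Fin 2) fun j => ?_))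
    · simpa using this.symm
    · fin_cases j
      · simp
      · exact e.symm
  · obtain ⟨s, hs⟩ := exists_corr_inv (hX := hX) (hY := hY) h₀ ![1, r]
    exact ⟨(s 0)⁻¹ * s 1, (hF s _ hs).trans (by simp)⟩

/-- Automorphisms of a chart and of its object over the identity. -/
theorem nonempty_autEquiv (h : FibCat.IsFibGrpd 𝒳.p) {η : 𝒳.p.Fiber T} (G₀ : FibCat.overCat T ⥤ᵇ 𝒳)
    (e : IsoNat.objCls G₀ = IsoNat.cls η) : Nonempty (Aut G₀ ≃* Aut η) := by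
  obtain ⟨i⟩ := cls_eq_iff.1 e
  have := L09.Fib.evalAtId_isEquivalence h T
  exact ⟨((Functor.FullyFaithful.ofFullyFaithful (FibCat.evalAtId 𝒳 T)).autMulEquivOfFullyFaithful G₀).trans
    (Iso.conjAut i)⟩

theorem comm_fiber (φ : IsoNat.FIso 𝒳 𝒴) (hX : Good 𝒳) (hY : Good 𝒴) {η : 𝒳.p.Fiber T} {η' : 𝒴.p.Fiber T}
    (hη : φ.toEquiv T (IsoNat.cls η) = IsoNat.cls η') (hc : ∀ a b : Aut η, a * b = b * a) (a b : Aut η') :
    a * b = b * a := by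
  obtain ⟨G₀, hG⟩ := exists_chart hX.st.1 (IsoNat.cls η)
  obtain ⟨G₀', hG'⟩ := exists_chart hY.st.1 (IsoNat.cls η')
  obtain ⟨E⟩ := nonempty_autEquiv hX.st.1 G₀ hG
  obtain ⟨E'⟩ := nonempty_autEquiv hY.st.1 G₀' hG'
  have hc₀ : ∀ x y : Aut G₀, x * y = y * x := fun x y => E.injective (by rw [map_mul, map_mul, hc])
  exact E'.symm.injective (by
    rw [map_mul, map_mul, comm_transfer (by rw [hG, hG', hη]) hX hY hc₀])

theorem nonempty_fiber_mulEquiv (φ : IsoNat.FIso 𝒳 𝒴) (hX : Good 𝒳) (hY : Good 𝒴) {η : 𝒳.p.Fiber T}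
    {η' : 𝒴.p.Fiber T} (hη : φ.toEquiv T (IsoNat.cls η) = IsoNat.cls η') (hc : ∀ a b : Aut η, a * b = b * a) :
    Nonempty (Aut η ≃* Aut η') := by
  obtain ⟨G₀, hG⟩ := exists_chart hX.st.1 (IsoNat.cls η)
  obtain ⟨G₀', hG'⟩ := exists_chart hY.st.1 (IsoNat.cls η')
  obtain ⟨E⟩ := nonempty_autEquiv hX.st.1 G₀ hG
  obtain ⟨E'⟩ := nonempty_autEquiv hY.st.1 G₀' hG'
  have hc₀ : ∀ x y : Aut G₀, x * y = y * x := fun x y => E.injective (by rw [map_mul, map_mul, hc])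
  obtain ⟨M⟩ := nonempty_mulEquiv (by rw [hG, hG', hη]) hX hY hc₀
  exact ⟨E.symm.trans (M.trans E')⟩

theorem isAutAbelian_transfer (φ : IsoNat.FIso 𝒳 𝒴) (hX : Good 𝒳) (hY : Good 𝒴) {η : 𝒳.p.Fiber T}
    {η' : 𝒴.p.Fiber T} (hη : φ.toEquiv T (IsoNat.cls η) = IsoNat.cls η') (hab : IsoNat.IsAutAbelian η) :
    IsoNat.IsAutAbelian η' := by
  intro T' x' f
  let q : T' ⟶ T := eqToHom x'.2.symm ≫ 𝒴.p.map f ≫ eqToHom η'.2
  have hf : 𝒴.p.IsHomLift q f := IsHomLift.of_fac 𝒴.p q f x'.2 η'.2 rfl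
  obtain ⟨x, a, ha⟩ := exists_pullback hX.st.1 q η
  exact comm_fiber φ hX hY (fIso_natural φ hY.st.1 q a f hη) (hab T' x a)

end Groth.L11.IsoNat
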