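import Groth.Agent.L11.IsoNat.Base
import Groth.Agent.L11.IsoNat.Charts

/-!
Unramified charts are detected by isomorphism classes.
-/

set_option autoImplicit false
set_option backward.isDefEq.respectTransparency false
set_option backward.isDefEq.respectTransparency.types false

universe u

open CategoryTheory CategoryTheory.Limits AlgebraicGeometry Opposite Groth.L24.St

noncomputable section

namespace Groth.L11.IsoNat

variable {S : Scheme.{u}} {𝒳 𝒴 : AlgSt.Cat S} {U V Z U' : Over S}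

theorem exists_pt_tw_restr (h : FibCat.IsFibGrpd 𝒳.p) {x : FibCat.overCat U ⥤ᵇ 𝒳} {v : FibCat.overCat V ⥤ᵇ 𝒳}
    (R : FpRep v x) (hf : AlgSp.IsFormallyUnramifiedMor R.d) [IsAffine Z.left] (i : U' ⟶ Z)
    (hi : MoreMor.IsFirstOrderThickening i.left) {τ τ' : Pt v x Z} {τ₀ : Pt v x U'} (h₁ : Restr i τ₀ τ)
    (h₂ : Restr i τ₀ τ') (hb : τ.b = τ'.b) : τ = τ' := by
  have e := Groth.L23.uniq_lift_affine hf i hi (R.sec τ) (R.sec τ') (by rw [R.sec_restr h₁, R.sec_restr h₂])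
    (by rw [R.sec_d, R.sec_d, hb])
  rw [← R.pt_sec τ, e, R.pt_sec]

theorem tw_one (h : FibCat.IsFibGrpd 𝒳.p) {x : FibCat.overCat U ⥤ᵇ 𝒳} {v : FibCat.overCat V ⥤ᵇ 𝒳} {T : Over S}
    (p : Pt v x T) (g : AutPt x p.a) (e : p.tw g = p) : g.g.hom = 𝟙 _ := by
  obtain ⟨b, a, θ, hθ⟩ := p
  obtain ⟨g, hg⟩ := g
  have e1 : θ ≪≫ g = θ := by
    simpa [Pt.tw] using e
  have := congrArg Iso.hom e1
  exact (cancel_epi θ.hom).1 (this.trans (Category.comp_id _).symm)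

theorem tw_of_one {x : FibCat.overCat U ⥤ᵇ 𝒳} {v : FibCat.overCat V ⥤ᵇ 𝒳} {T : Over S}
    (p : Pt v x T) (g : AutPt x p.a) (e : g.g.hom = 𝟙 _) : p.tw g = p := by
  obtain ⟨b, a, θ, hθ⟩ := p
  obtain ⟨g, hg⟩ := g
  have : g = Iso.refl _ := Iso.ext e
  subst this
  simp [Pt.tw]

/-- Automorphisms of a chart read at its base. -/
theorem aut_eq_one_of_app (h : FibCat.IsFibGrpd 𝒳.p) {T : Over S} {G₀ : FibCat.overCat T ⥤ᵇ 𝒳} (g : Aut G₀)
    (e : g.hom.toNatTrans.app (Over.mk (𝟙 T)) = 𝟙 _) : g = 1 := by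
  have := L09.Fib.evalAtId_isEquivalence h T
  apply Iso.ext
  apply (FibCat.evalAtId 𝒳 T).map_injective
  exact Functor.Fiber.hom_ext e

theorem resInj_of_unramified (h : FibCat.IsFibGrpd 𝒳.p) {x : FibCat.overCat U ⥤ᵇ 𝒳} {v : FibCat.overCat V ⥤ᵇ 𝒳}
    (R : FpRep v x) (hf : AlgSp.IsFormallyUnramifiedMor R.d) [IsAffine Z.left] (i : U' ⟶ Z)
    (hi : MoreMor.IsFirstOrderThickening i.left) (τ : Pt v x Z)
    (g : Aut (BasedFunctor.comp (AlgSt.overMap τ.a) x)) (hg : resAut i g = 1) : g = 1 := by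
  refine aut_eq_one_of_app h g ?_
  let k₀ : Over Z := Over.mk (𝟙 Z)
  let j : Over.mk τ.a ≅ (Over.map τ.a).obj k₀ := mkMapIso τ.a (𝟙 Z) τ.a (Category.id_comp _)
  let J := x.toFunctor.mapIso j
  have hgo : OverId (g.hom.toNatTrans.app k₀) := overId_app g.hom k₀
  have hj : OverId J.hom := OverId.map x (OverId.of_eq (𝒳 := FibCat.overCat U) rfl rfl)
  let k : AutPt x τ.a := ⟨J ≪≫ appIso g k₀ ≪≫ J.symm, hj.comp (hgo.comp hj.inv)⟩
  obtain ⟨τ₀, hτ₀⟩ := exists_restr h i τ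
  obtain ⟨k', hk'⟩ := exists_aRestr h i hτ₀.choose_spec.choose k
  have hk'1 : k'.g.hom = 𝟙 _ := by
    obtain ⟨p, hp⟩ := hk'
    refine ovm_cancel h i p k'.hg (overId_id _) (hp.trans (Eq.trans ?_ (Category.id_comp _).symm))
    show x.map (ovm i p) ≫ J.hom ≫ g.hom.toNatTrans.app k₀ ≫ J.inv = _
    let n : (Over.map i).obj (Over.mk (𝟙 U')) ⟶ k₀ := Over.homMk i (by simp [k₀])
    let ε : Over.mk τ₀.a ≅ (Over.map τ.a).obj ((Over.map i).obj (Over.mk (𝟙 U'))) :=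
      Over.isoMk (Iso.refl U') (by
        show 𝟙 U' ≫ (𝟙 U' ≫ i) ≫ τ.a = τ₀.a
        rw [Category.id_comp, Category.id_comp, p])
    have e1 : ovm i p ≫ j.hom = ε.hom ≫ (Over.map τ.a).map n := by
      apply Over.OverMorphism.ext
      show i ≫ 𝟙 Z = 𝟙 U' ≫ i
      rw [Category.comp_id, Category.id_comp]
    have e2 : g.hom.toNatTrans.app ((Over.map i).obj (Over.mk (𝟙 U'))) = 𝟙 _ :=
      (resAut_app i g (Over.mk (𝟙 U'))).symm.trans
        (congrArg (fun t : Aut (BasedFunctor.comp (AlgSt.overMap i) (BasedFunctor.comp (AlgSt.overMap τ.a) x)) =>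
          t.hom.toNatTrans.app (Over.mk (𝟙 U'))) hg)
    have e3 : x.map ((Over.map τ.a).map n) ≫ g.hom.toNatTrans.app k₀ = x.map ((Over.map τ.a).map n) :=
      (g.hom.toNatTrans.naturality n).trans ((congrArg (· ≫ _) e2).trans (Category.id_comp _))
    have e4 : x.map (ovm i p) ≫ J.hom = x.map ε.hom ≫ x.map ((Over.map τ.a).map n) :=
      (x.toFunctor.map_comp _ _).symm.trans ((congrArg (fun t => x.map t) e1).trans (x.toFunctor.map_comp _ _))
    calc _ = (x.map (ovm i p) ≫ J.hom) ≫ g.hom.toNatTrans.app k₀ ≫ J.inv := (Category.assoc _ _ _).symm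
      _ = x.map ε.hom ≫ (x.map ((Over.map τ.a).map n) ≫ g.hom.toNatTrans.app k₀) ≫ J.inv :=
          (congrArg (· ≫ _) e4).trans ((Category.assoc _ _ _).trans (congrArg (_ ≫ ·) (Category.assoc _ _ _).symm))
      _ = (x.map ε.hom ≫ x.map ((Over.map τ.a).map n)) ≫ J.inv :=
          (congrArg (fun t => x.map ε.hom ≫ t ≫ J.inv) e3).trans (Category.assoc _ _ _).symm
      _ = x.map (ovm i p) := (congrArg (· ≫ J.inv) e4.symm).trans
          ((Category.assoc _ _ _).trans ((congrArg (_ ≫ ·) J.hom_inv_id).trans (Category.comp_id _)))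
  have := exists_pt_tw_restr h R hf i hi ((tw_of_one τ₀ k' hk'1) ▸ hτ₀.tw hk') hτ₀ (τ := τ.tw k) (τ' := τ) rfl
  have hk1 := tw_one h τ k this
  have : J.hom ≫ g.hom.toNatTrans.app k₀ ≫ J.inv = 𝟙 _ := hk1
  have h2 : g.hom.toNatTrans.app k₀ ≫ J.inv = J.inv := by
    have := congrArg (J.inv ≫ ·) this
    simpa using this
  exact ((cancel_mono J.inv).1 (h2.trans (Category.id_comp _).symm))

theorem eq_of_retractions (φ : IsoNat.FIso 𝒳 𝒴) (hX : Good 𝒳) (hY : Good 𝒴) {x : FibCat.overCat U ⥤ᵇ 𝒳}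
    {y : FibCat.overCat U ⥤ᵇ 𝒴} {v : FibCat.overCat V ⥤ᵇ 𝒴} {v' : FibCat.overCat V ⥤ᵇ 𝒳}
    (hxy : φ.toEquiv U (IsoNat.objCls x) = IsoNat.objCls y)
    (hv : φ.toEquiv V (IsoNat.objCls v') = IsoNat.objCls v) (R' : FpRep v' x)
    (hf : AlgSp.IsFormallyUnramifiedMor R'.d) (R : FpRep v y) {W₂ : Over S}
    {a₂ : (AlgSp.yon S).obj W₂ ⟶ R.F.obj} (ha₂ : AlgSp.RepWith @Etale a₂)
    [IsAffine Z.left] (i : U' ⟶ Z) (hi : MoreMor.IsFirstOrderThickening i.left) (u : U' ⟶ W₂)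
    {r r' : Z ⟶ W₂} (hr : i ≫ r = u) (hr' : i ≫ r' = u) (r₀ : Z ⟶ U') (hr₀ : i ≫ r₀ = 𝟙 U') (hr₀' : r₀ ≫ u = r)
    (hb : r ≫ (R.pt a₂).b = r' ≫ (R.pt a₂).b) : r = r' := by
  obtain ⟨P, hP⟩ := exists_restr hY.st.1 r (R.pt a₂)
  obtain ⟨P', hP'⟩ := exists_restr hY.st.1 r' (R.pt a₂)
  obtain ⟨τ, hτb, hτa⟩ := (exists_pt_transfer φ hY.st.1 hxy hv P.b P.a).2 ⟨P, rfl, rfl⟩
  obtain ⟨τ', hτ'b, hτ'a⟩ := (exists_pt_transfer φ hY.st.1 hxy hv P'.b P'.a).2 ⟨P', rfl, rfl⟩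
  have hbb : P.b = P'.b := by rw [← hP.choose, ← hP'.choose, hb]
  obtain ⟨τ₀, hτ₀⟩ := exists_restr hX.st.1 i τ
  obtain ⟨τ₀', hτ₀'⟩ := exists_restr hX.st.1 i τ'
  have hua : i ≫ P.a = u ≫ (R.pt a₂).a := by rw [← hP.choose_spec.choose, ← Category.assoc, hr]
  have hua' : i ≫ P'.a = u ≫ (R.pt a₂).a := by rw [← hP'.choose_spec.choose, ← Category.assoc, hr']
  obtain ⟨g, hg⟩ := exists_tw τ₀ τ₀' (by rw [← hτ₀.choose, ← hτ₀'.choose, hτb, hτ'b, hbb])
    (by rw [← hτ₀.choose_spec.choose, ← hτ₀'.choose_spec.choose, hτa, hτ'a, hua, hua'])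
  obtain ⟨g₁, hg₁⟩ := exists_aRestr hX.st.1 r₀ (a' := τ.a) (a := τ₀.a) (by
    rw [← hτ₀.choose_spec.choose, hτa, hua, ← Category.assoc, hr₀', ← hP.choose_spec.choose]) g
  obtain ⟨g₂, hg₂⟩ := exists_aRestr hX.st.1 i hτ₀.choose_spec.choose g₁
  have hgg : g₂ = g := ARestr.unique hX.st.1 (hr₀ ▸ hg₂.trans hg₁) (ARestr.refl g)
  subst hgg
  have hττ : τ.tw g₁ = τ' := exists_pt_tw_restr hX.st.1 R' hf i hi (hg ▸ hτ₀.tw hg₂) hτ₀'
    (show τ.b = τ'.b by rw [hτb, hτ'b, hbb])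
  have haa : P.a = P'.a := by
    have := congrArg (fun t : Pt v' x Z => t.a) hττ
    exact hτa.symm.trans (this.trans hτ'a)
  obtain ⟨k, hk⟩ := exists_tw P P' hbb haa
  obtain ⟨P₀, hP₀⟩ := exists_restr hY.st.1 i P
  obtain ⟨k₀, hk₀⟩ := exists_aRestr hY.st.1 i hP₀.choose_spec.choose k
  have hk₀1 : k₀.g.hom = 𝟙 _ := by
    refine tw_one hY.st.1 P₀ k₀ ?_
    exact Restr.unique hY.st.1 ((hP₀.tw hk₀).trans (hk.symm ▸ hP')) (hr'.symm ▸ hr ▸ hP₀.trans hP)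
  -- the automorphism of the chart
  have h₀ : φ.toEquiv Z (IsoNat.objCls (BasedFunctor.comp (AlgSt.overMap τ.a) x)) =
      IsoNat.objCls (BasedFunctor.comp (AlgSt.overMap τ.a) y) := by
    rw [← pullC_objCls hX.st.1, ← pullC_objCls hY.st.1, fIso_pullC φ hX.st.1 hY.st.1, hxy]
  let k₁ : Over Z := Over.mk (𝟙 Z)
  let j : Over.mk P.a ≅ (Over.map τ.a).obj k₁ := mkMapIso τ.a (𝟙 Z) P.a (by rw [hτa]; exact Category.id_comp _)
  let J := y.toFunctor.mapIso j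
  have hj : OverId J.hom := OverId.map y (OverId.of_eq (𝒳 := FibCat.overCat U) rfl rfl)
  let z : 𝒴.p.Fiber Z := objFib (BasedFunctor.comp (AlgSt.overMap τ.a) y)
  let K : z ⟶ z := ⟨J.inv ≫ k.g.hom ≫ J.hom, (hj.inv.comp (k.hg.comp hj)).lift z.2⟩
  have := L09.Fib.evalAtId_isEquivalence hY.st.1 Z
  let g' : Aut (BasedFunctor.comp (AlgSt.overMap τ.a) y) :=
    (FibCat.evalAtId 𝒴 Z).preimageIso (fiberIso hY.st.1 K)
  have hg'app : g'.hom.toNatTrans.app k₁ = J.inv ≫ k.g.hom ≫ J.hom :=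
    congrArg (fun t : z ⟶ z => t.1) ((FibCat.evalAtId 𝒴 Z).map_preimage K)
  have hres : resAut i g' = 1 := by
    refine aut_eq_one_of_app hY.st.1 _ ?_
    rw [resAut_app]
    let n : (Over.map i).obj (Over.mk (𝟙 U')) ⟶ k₁ := Over.homMk i (by simp [k₁])
    refine lift_ext' hY.st.1 (BasedFunctor.comp (AlgSt.overMap τ.a) y) n (appLift g'.hom _)
      (IsHomLift.id ((BasedFunctor.comp (AlgSt.overMap τ.a) y).w_obj _)) ?_
    refine (g'.hom.toNatTrans.naturality n).symm.trans (Eq.trans ?_ (Category.id_comp _).symm)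
    obtain ⟨p, hp⟩ := hk₀
    let ε : (Over.map τ.a).obj ((Over.map i).obj (Over.mk (𝟙 U'))) ≅ Over.mk P₀.a :=
      Over.isoMk (Iso.refl U') (by
        show 𝟙 U' ≫ P₀.a = (𝟙 U' ≫ i) ≫ τ.a
        rw [Category.id_comp, Category.id_comp, hτa, p])
    have e1 : (Over.map τ.a).map n = ε.hom ≫ ovm i p ≫ j.hom := by
      apply Over.OverMorphism.ext
      show i = 𝟙 U' ≫ i ≫ 𝟙 Z
      rw [Category.comp_id, Category.id_comp]
    rw [hk₀1, Category.id_comp] at hp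
    show y.map ((Over.map τ.a).map n) ≫ g'.hom.toNatTrans.app k₁ = y.map ((Over.map τ.a).map n)
    have hy : y.map ((Over.map τ.a).map n) = y.map ε.hom ≫ y.map (ovm i p) ≫ J.hom :=
      (congrArg (fun t => y.map t) e1).trans ((y.toFunctor.map_comp _ _).trans
        (congrArg (_ ≫ ·) (y.toFunctor.map_comp _ _)))
    rw [hy, hg'app]
    simp only [Category.assoc, Iso.hom_inv_id_assoc]
    exact congrArg (y.map ε.hom ≫ ·) ((Category.assoc _ _ _).symm.trans (congrArg (· ≫ J.hom) hp.symm))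
  have h1 := resAut_injective_transfer i φ hX hY h₀
    (fun g hg => resInj_of_unramified hX.st.1 R' hf i hi τ g hg) g' hres
  have hk1 : k.g.hom = 𝟙 _ := by
    have h2 : g'.hom.toNatTrans.app k₁ = 𝟙 _ :=
      congrArg (fun t : Aut (BasedFunctor.comp (AlgSt.overMap τ.a) y) => t.hom.toNatTrans.app k₁) h1
    rw [hg'app] at h2
    have h3 : k.g.hom ≫ J.hom = J.hom :=
      ((Iso.hom_inv_id_assoc J _).symm.trans (congrArg (J.hom ≫ ·) h2)).trans (Category.comp_id _)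
    exact (cancel_mono J.hom).1 (h3.trans (Category.id_comp _).symm)
  have hPP : P = P' := (tw_of_one P k hk1).symm.trans hk
  -- two lifts along the etale chart
  have e2 : (AlgSp.yon S).map r ≫ a₂ = (AlgSp.yon S).map r' ≫ a₂ := by
    rw [← R.sec_pt a₂, R.sec_restr hP, R.sec_restr hP', hPP]
  have hu : AlgSp.IsFormallyUnramifiedMor a₂ := fun sq l l' e₁ e₂ e₃ e₄ =>
    ((Groth.L23.isFormallyEtaleMor_of_isEtaleMor (AlgSp.IsAlgSpace.yon_obj W₂) R.F.property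
      (isEtaleMor_of_repWith ha₂)) sq).unique ⟨e₁, e₂⟩ ⟨e₃, e₄⟩
  exact yon_map_cancel (Groth.L23.uniq_lift_affine hu i hi ((AlgSp.yon S).map r) ((AlgSp.yon S).map r')
    (by rw [← (AlgSp.yon S).map_comp, ← (AlgSp.yon S).map_comp, hr, hr']) e2)

theorem formallyUnramified_chart (φ : IsoNat.FIso 𝒳 𝒴) (hX : Good 𝒳) (hY : Good 𝒴) {x : FibCat.overCat U ⥤ᵇ 𝒳}
    {y : FibCat.overCat U ⥤ᵇ 𝒴} {v : FibCat.overCat V ⥤ᵇ 𝒴} {v' : FibCat.overCat V ⥤ᵇ 𝒳}
    (hxy : φ.toEquiv U (IsoNat.objCls x) = IsoNat.objCls y)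
    (hv : φ.toEquiv V (IsoNat.objCls v') = IsoNat.objCls v) (R' : FpRep v' x)
    (hf : AlgSp.IsFormallyUnramifiedMor R'.d) (R : FpRep v y) {W₂ : Over S}
    {a₂ : (AlgSp.yon S).obj W₂ ⟶ R.F.obj} (ha₂ : AlgSp.RepWith @Etale a₂) :
    FormallyUnramified (R.pt a₂).b.left := by
  refine ⟨fun {O'} hO' {O} hO hle => ?_⟩
  algebraize [((R.pt a₂).b.left.appLE O' O hle).hom]
  let B := Γ(V.left, O')
  let C := Γ(W₂.left, O)
  let J := KaehlerDifferential.ideal B C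
  let Q := TensorProduct B C C ⧸ J ^ 2
  let π : Q →+* C := Ideal.Quotient.lift (J ^ 2) (Algebra.TensorProduct.lmul' B (S := C)).toRingHom
    (fun a ha => RingHom.mem_ker.1 (Ideal.pow_le_self (by norm_num) ha))
  let s₁ : C →+* Q := (Ideal.Quotient.mk (J ^ 2)).comp
    (Algebra.TensorProduct.includeLeft : C →ₐ[B] TensorProduct B C C).toRingHom
  let s₂ : C →+* Q := (Ideal.Quotient.mk (J ^ 2)).comp
    (Algebra.TensorProduct.includeRight : C →ₐ[B] TensorProduct B C C).toRingHom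
  suffices h : s₁ = s₂ by
    show Algebra.FormallyUnramified B C
    rw [Algebra.formallyUnramified_iff]
    suffices (⊤ : Submodule C (Ω[C⁄B])) ≤ ⊥ from
      (subsingleton_iff_forall_eq 0).mpr fun t => this Submodule.mem_top
    rw [← KaehlerDifferential.span_range_derivation, Submodule.span_le]
    rintro _ ⟨c, rfl⟩
    rw [SetLike.mem_coe, Submodule.mem_bot, KaehlerDifferential.D_apply, Ideal.toCotangent_eq_zero]
    show (1 ⊗ₜ[B] c - c ⊗ₜ[B] 1 : TensorProduct B C C) ∈ J ^ 2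
    exact (Ideal.Quotient.mk_eq_mk_iff_sub_mem _ _).1 (DFunLike.congr_fun h c).symm
  have hπs₁ : π.comp s₁ = RingHom.id C := RingHom.ext fun c => by
    show Algebra.TensorProduct.lmul' B (S := C) (c ⊗ₜ[B] 1) = c
    simp
  have hπs₂ : π.comp s₂ = RingHom.id C := RingHom.ext fun c => by
    show Algebra.TensorProduct.lmul' B (S := C) (1 ⊗ₜ[B] c) = c
    simp
  have hs : s₁.comp (algebraMap B C) = s₂.comp (algebraMap B C) := RingHom.ext fun b =>
    congrArg (Ideal.Quotient.mk (J ^ 2))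
      (((Algebra.TensorProduct.includeLeft : C →ₐ[B] TensorProduct B C C).commutes b).trans
        ((Algebra.TensorProduct.includeRight : C →ₐ[B] TensorProduct B C C).commutes b).symm)
  have hπ : Function.Surjective π := fun c => ⟨s₁ c, DFunLike.congr_fun hπs₁ c⟩
  have hsq : RingHom.ker π ^ 2 = ⊥ := by
    rw [Ideal.ker_quotient_lift, ← Ideal.map_pow]
    exact Ideal.map_quotient_self _
  let al : Γ(V.left, O') ⟶ CommRingCat.of Q := CommRingCat.ofHom (s₁.comp (algebraMap B C))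
  let πc : CommRingCat.of Q ⟶ Γ(W₂.left, O) := CommRingCat.ofHom π
  let Z : Over S := Over.mk (Spec.map al ≫ hO'.fromSpec ≫ V.hom)
  let U' : Over S := Over.mk (hO.fromSpec ≫ W₂.hom)
  let u : U' ⟶ W₂ := Over.homMk hO.fromSpec rfl
  have hw : hO.fromSpec ≫ W₂.hom = Spec.map ((R.pt a₂).b.left.appLE O' O hle) ≫ hO'.fromSpec ≫ V.hom := by
    rw [IsAffineOpen.SpecMap_appLE_fromSpec_assoc (R.pt a₂).b.left hO' hO, Over.w]
  have mkr : ∀ s : C →+* Q, s.comp (algebraMap B C) = s₁.comp (algebraMap B C) →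
      ∃ r₀ : Z ⟶ U', r₀.left = Spec.map (CommRingCat.ofHom s) := fun s hs' =>
    ⟨Over.homMk (Spec.map (CommRingCat.ofHom s)) (by
      show Spec.map _ ≫ hO.fromSpec ≫ W₂.hom = Spec.map al ≫ hO'.fromSpec ≫ V.hom
      rw [hw, ← Spec.map_comp_assoc]
      congr 2
      exact CommRingCat.hom_ext hs'), rfl⟩
  obtain ⟨r₁, hr₁⟩ := mkr s₁ rfl
  obtain ⟨r₂, hr₂⟩ := mkr s₂ hs.symm
  let i : U' ⟶ Z := Over.homMk (Spec.map πc) (by
    show Spec.map πc ≫ Spec.map al ≫ hO'.fromSpec ≫ V.hom = hO.fromSpec ≫ W₂.hom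
    rw [hw, ← Spec.map_comp_assoc]
    congr 2
    exact CommRingCat.hom_ext (RingHom.ext fun b => DFunLike.congr_fun hπs₁ (algebraMap B C b)))
  have : IsAffine Z.left := isAffine_Spec _
  have hi : MoreMor.IsFirstOrderThickening i.left := Groth.L19.Thick.isFirstOrder_specMap πc hπ hsq
  have hir : ∀ (s : C →+* Q) (r₀ : Z ⟶ U'), r₀.left = Spec.map (CommRingCat.ofHom s) → π.comp s = RingHom.id C →
      i ≫ r₀ = 𝟙 U' := fun s r₀ e e' => Over.OverMorphism.ext (by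
    show Spec.map πc ≫ r₀.left = 𝟙 _
    rw [e, ← Spec.map_comp, show CommRingCat.ofHom s ≫ πc = 𝟙 _ from CommRingCat.hom_ext e', Spec.map_id]
    rfl)
  have hrb : ∀ (s : C →+* Q) (r₀ : Z ⟶ U'), r₀.left = Spec.map (CommRingCat.ofHom s) →
      s.comp (algebraMap B C) = s₁.comp (algebraMap B C) →
      ((r₀ ≫ u) ≫ (R.pt a₂).b).left = Spec.map al ≫ hO'.fromSpec := fun s r₀ e e' => by
    show (r₀.left ≫ hO.fromSpec) ≫ (R.pt a₂).b.left = _
    rw [e, Category.assoc, ← IsAffineOpen.SpecMap_appLE_fromSpec (R.pt a₂).b.left hO' hO (i := hle),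
      ← Spec.map_comp_assoc]
    congr 2
    exact CommRingCat.hom_ext e'
  have key := eq_of_retractions φ hX hY hxy hv R' hf R ha₂ i hi u (r := r₁ ≫ u) (r' := r₂ ≫ u)
    (by rw [← Category.assoc, hir s₁ r₁ hr₁ hπs₁, Category.id_comp])
    (by rw [← Category.assoc, hir s₂ r₂ hr₂ hπs₂, Category.id_comp]) r₁ (hir s₁ r₁ hr₁ hπs₁) rfl
    (Over.OverMorphism.ext ((hrb s₁ r₁ hr₁ rfl).trans (hrb s₂ r₂ hr₂ hs.symm).symm))
  have key' : Spec.map (CommRingCat.ofHom s₁) ≫ hO.fromSpec = Spec.map (CommRingCat.ofHom s₂) ≫ hO.fromSpec := by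
    rw [← hr₁, ← hr₂]
    exact congrArg (fun t => t.left) key
  exact congrArg (fun t => t.hom) (Spec.map_injective ((cancel_mono hO.fromSpec).1 key'))

theorem repWith_unramified_of_fIso (φ : IsoNat.FIso 𝒳 𝒴) (hX : Good 𝒳) (hY : Good 𝒴)
    (hI : AlgSt.RepByAlgSpWith (AlgSp.LocP @LocallyOfFinitePresentation)
      (FibCat.inertiaToBase (FibCat.toSelf 𝒴)))
    {x : FibCat.overCat U ⥤ᵇ 𝒳} {y : FibCat.overCat U ⥤ᵇ 𝒴}
    (hxy : φ.toEquiv U (IsoNat.objCls x) = IsoNat.objCls y)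
    (hfp : AlgSt.RepByAlgSpWith (AlgSp.LocP @LocallyOfFinitePresentation) x)
    (hx : AlgSt.RepByAlgSpWith (AlgSp.LocP (@LocallyOfFiniteType ⊓ @FormallyUnramified)) x) :
    AlgSt.RepByAlgSpWith (AlgSp.LocP (@LocallyOfFiniteType ⊓ @FormallyUnramified)) y := by
  have hlfp := repWith_lfp_of_fIso φ hX.st.1 hY.st.1 hY.diag hI hxy hfp
  intro V v
  obtain ⟨v', hv'⟩ := exists_chart hX.st.1 ((φ.toEquiv V).symm (IsoNat.objCls v))
  obtain ⟨R', hR'⟩ := exists_fpRep hX.st.1 hx v'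
  obtain ⟨F, e, he, hF⟩ := hlfp V v
  refine ⟨F, e, he, ?_⟩
  let R : FpRep v y := ⟨F, e, he, hY.st.1⟩
  obtain ⟨W₂, a₂, ha₂, has₂⟩ := R.F.property.atlas
  have hψ : LocallyOfFinitePresentation (R.pt a₂).b.left :=
    hF a₂ (𝟙 _) (R.pt a₂).b ha₂ (AlgSp.repWith_id _ V) (by rw [Category.comp_id]; exact R.map_b a₂)
  refine Groth.L23.locP_of_chart Groth.L23.etLocal_unramified ha₂ has₂ (AlgSp.repWith_id _ V) (h := (R.pt a₂).b)
    (by rw [Category.comp_id]; exact R.map_b a₂) ⟨inferInstance, ?_⟩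
  exact formallyUnramified_chart φ hX hY hxy (by rw [hv', Equiv.apply_symm_apply]) R'
    ((Groth.L23.formallyUnramified_iff_locP R'.F.property (AlgSp.IsAlgSpace.yon_obj V)).2
      (Groth.L23.locP_mono (fun _ h => h.2) hR')) R ha₂

end Groth.L11.IsoNat
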